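import Mathlib.GroupTheory.SpecificGroups.Alternating
import Mathlib.GroupTheory.FixedPointFree
import Cfsg.Prelude.Def_CaseTheorems
import Cfsg.Prelude.Def_Transfer
import Cfsg.Agent.Lib.Invol.Basic
import Cfsg.Agent.Lib.Coprime.Core
import Cfsg.Agent.Lib.Coprime.PGroupFrattini
import Cfsg.Agent.Lib.Char.Burnside

/-!
# The setting: a centralizer of an involution `(Q₈ ∘ D₈).S₄`
-/

set_option autoImplicit false

open Subgroup

namespace CfsgLib.AutL34

universe u

variable {G : Type u} [Group G]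

/-- The centralizer of `z`. -/
abbrev cz (z : G) : Subgroup G := centralizer ({z} : Set G)

theorem mem_cz {z g : G} : g ∈ cz z ↔ g * z = z * g := mem_centralizer_singleton_iff

theorem mem_cz_conj {z g : G} : g ∈ cz z ↔ g * z * g⁻¹ = z := by
  rw [mem_cz, mul_inv_eq_iff_eq_mul]

/-- The hypotheses on `z` and `E`, with `φ` the map of `C(z)` onto `S₄` with kernel `E`. -/
structure Hyp (z : G) (E : Subgroup G) (φ : ↥(cz z) →* Equiv.Perm (Fin 4)) : Prop where
  hz : orderOf z = 2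
  hEH : E ≤ cz z
  hn : ∀ h ∈ cz z, ∀ e ∈ E, h * e * h⁻¹ ∈ E
  hE32 : Nat.card E = 32
  hzE : z ∈ E
  hsq : ∀ e ∈ E, e * e = 1 ∨ e * e = z
  hcomm : ∀ e ∈ E, ∀ f ∈ E, e * f * e⁻¹ = f ∨ e * f * e⁻¹ = f * z
  hcen : ∀ e ∈ E, (∀ f ∈ E, e * f = f * e) → e = 1 ∨ e = z
  hno8 : ∀ u ∈ E, ∀ v ∈ E, u * u = 1 → v * v = 1 → u * v = v * u → u ≠ 1 → u ≠ z →
    v = 1 ∨ v = z ∨ v = u ∨ v = u * z
  hCE : ∀ h ∈ cz z, (∀ e ∈ E, h * e = e * h) → h ∈ E
  surj : Function.Surjective φ
  ker : ∀ h : cz z, φ h = 1 ↔ (h : G) ∈ E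

namespace Hyp

variable {z : G} {E : Subgroup G} {φ : ↥(cz z) →* Equiv.Perm (Fin 4)} (S : Hyp z E φ)
include S

theorem zz : z * z = 1 := Invol.invol_mul_self S.hz

theorem zne : z ≠ 1 := Invol.invol_ne_one S.hz

theorem zinv : z⁻¹ = z := Invol.invol_inv S.hz

theorem zcomm {h : G} (hh : h ∈ cz z) : h * z = z * h := mem_cz.1 hh

theorem zcomm_E {e : G} (he : e ∈ E) : e * z = z * e := mem_cz.1 (S.hEH he)

theorem pgroup_E : IsPGroup 2 E := IsPGroup.of_card (n := 5) (by rw [S.hE32]; norm_num)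

theorem card_cz : Nat.card (cz z) = 768 := by
  rw [← Subgroup.card_mul_index φ.ker, Subgroup.index_ker, MonoidHom.range_eq_top.2 S.surj,
    Subgroup.card_top, Nat.card_perm, Nat.card_fin]
  have : Nat.card φ.ker = 32 := by
    rw [← S.hE32]
    refine Nat.card_congr ⟨fun h => ⟨h.1.1, (S.ker _).1 h.2⟩,
      fun e => ⟨⟨e.1, S.hEH e.2⟩, (S.ker _).2 e.2⟩, fun h => ?_, fun e => ?_⟩
    · ext; rfl
    · ext; rfl
  rw [this]
  rfl

/-- An element of `E` normal in the centralizer avoiding `z` is trivial. -/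
theorem eq_one_of_normal_le (K : Subgroup G) (hKz : z ∉ K) (hKn : ∀ h ∈ cz z, ∀ k ∈ K, h * k * h⁻¹ ∈ K)
    {e : G} (he : e ∈ E) (heK : e ∈ K) : e = 1 := by
  have hc : ∀ f ∈ E, e * f = f * e := fun f hf => by
    rcases S.hcomm f hf e he with h | h
    · exact (mul_inv_eq_iff_eq_mul.1 h).symm
    · exact absurd ((K.mul_mem_cancel_left heK).1 (h ▸ hKn f (S.hEH hf) e heK)) hKz
  rcases S.hcen e he hc with h | h
  · exact h
  · exact absurd (h ▸ heK) hKz

variable [Finite G]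

/-- `z` has no fixed points on a normal subgroup of `G` not containing it, if `E` centralizes
its fixed points. -/
theorem fpf_of_normal (K : Subgroup G) (hKn : ∀ g : G, ∀ k ∈ K, g * k * g⁻¹ ∈ K) (hKz : z ∉ K)
    {k : G} (hk : k ∈ K) (hkz : k * z = z * k) : k = 1 := by
  have hkc : k ∈ cz z := mem_cz.2 hkz
  refine S.eq_one_of_normal_le K hKz (fun h _ => hKn h) (S.hCE k hkc fun e he => ?_) hk
  have h1 : k * e * k⁻¹ * e⁻¹ ∈ E := mul_mem (S.hn k hkc e he) (inv_mem he)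
  have h2 : k * e * k⁻¹ * e⁻¹ ∈ K := by
    rw [show k * e * k⁻¹ * e⁻¹ = k * (e * k⁻¹ * e⁻¹) by group]
    exact mul_mem hk (hKn e _ (inv_mem hk))
  have := S.eq_one_of_normal_le K hKz (fun h _ => hKn h) h1 h2
  exact mul_inv_eq_iff_eq_mul.1 (mul_inv_eq_one.1 this)

/-- `z` inverts a normal subgroup not containing it, which is abelian of odd order. -/
theorem inverts (K : Subgroup G) (hKn : ∀ g : G, ∀ k ∈ K, g * k * g⁻¹ ∈ K) (hKz : z ∉ K) :
    (∀ k ∈ K, z * k * z⁻¹ = k⁻¹) ∧ Odd (Nat.card K) ∧ IsMulCommutative K := by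
  let f : K →* K :=
    { toFun := fun k => ⟨z * k.1 * z⁻¹, hKn z _ k.2⟩
      map_one' := by ext; simp
      map_mul' := fun a b => by
        ext
        show z * (a.1 * b.1) * z⁻¹ = z * a.1 * z⁻¹ * (z * b.1 * z⁻¹)
        group }
  have hfp : MonoidHom.FixedPointFree f := fun k hk => by
    have h : z * k.1 * z⁻¹ = k.1 := congrArg Subtype.val hk
    exact Subtype.ext (S.fpf_of_normal K hKn hKz k.2 (mul_inv_eq_iff_eq_mul.1 h).symm)
  have hinv : Function.Involutive f := fun k => by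
    apply Subtype.ext
    show z * (z * k.1 * z⁻¹) * z⁻¹ = k.1
    rw [show z * (z * k.1 * z⁻¹) * z⁻¹ = (z * z) * k.1 * (z * z)⁻¹ by group, S.zz]
    simp
  refine ⟨fun k hk => ?_, MonoidHom.FixedPointFree.odd_card_of_involutive hfp hinv,
    ⟨⟨fun a b => MonoidHom.FixedPointFree.commute_all_of_involutive hfp hinv a b⟩⟩⟩
  exact congrArg Subtype.val
    (congrFun (MonoidHom.FixedPointFree.coe_eq_inv_of_involutive hfp hinv) ⟨k, hk⟩)

omit S [Finite G] in
theorem oddCore_conj : ∀ g : G, ∀ k ∈ Cfsg.oddCore G, g * k * g⁻¹ ∈ Cfsg.oddCore G := by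
  have h := Coprime.pPrimeCore_characteristic (G := G) 2
  exact fun g k hk => (inferInstance : (Cfsg.pPrimeCore 2 G).Normal).conj_mem k hk g

theorem z_notMem_oddCore : z ∉ Cfsg.oddCore G := fun h =>
  Coprime.pPrimeCore_not_dvd (G := G) Nat.prime_two (by
    have h' := Subgroup.orderOf_dvd_natCard (Cfsg.oddCore G) h
    rwa [S.hz] at h')

theorem isMulCommutative_oddCore : IsMulCommutative ↥(Cfsg.oddCore G) :=
  (S.inverts _ oddCore_conj S.z_notMem_oddCore).2.2

theorem isSolvable_cz : Group.IsSolvable (cz z) := by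
  haveI := S.pgroup_E
  haveI : Fact (Nat.Prime 2) := ⟨Nat.prime_two⟩
  haveI : Group.IsNilpotent E := S.pgroup_E.isNilpotent
  haveI : Group.IsSolvable φ.ker := by
    let f : φ.ker →* E := ((cz z).subtype.comp φ.ker.subtype).codRestrict E
      fun h => (S.ker h.1).1 h.2
    exact solvable_of_solvable_injective (f := f) fun a b hab =>
      Subtype.ext (Subtype.ext (congrArg (fun x : E => (x : G)) hab))
  haveI : Group.IsSolvable (Equiv.Perm (Fin 4)) := by
    exact Char.isSolvable_of_card_two_primes Nat.prime_two Nat.prime_three _ 3 1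
      (by rw [Nat.card_perm, Nat.card_fin]; rfl)
  exact solvable_of_ker_le_range φ.ker.subtype φ (by rw [Subgroup.range_subtype])

/-- If the odd core is non-trivial then `G` is solvable. -/
theorem isSolvable_of_oddCore_ne_bot (hO : Cfsg.oddCore G ≠ ⊥) : Group.IsSolvable G := by
  obtain ⟨hinv, hodd, -⟩ := S.inverts _ oddCore_conj S.z_notMem_oddCore
  set K := centralizer (Cfsg.oddCore G : Set G) with hK
  have hKn : ∀ g : G, ∀ k ∈ K, g * k * g⁻¹ ∈ K := by
    intro g k hk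
    refine mem_centralizer_iff.2 fun o ho => ?_
    have := mem_centralizer_iff.1 hk (g⁻¹ * o * g)
      (by simpa using oddCore_conj g⁻¹ o ho)
    calc o * (g * k * g⁻¹) = g * ((g⁻¹ * o * g) * k) * g⁻¹ := by group
      _ = g * (k * (g⁻¹ * o * g)) * g⁻¹ := by rw [this]
      _ = g * k * g⁻¹ * o := by group
  have hKz : z ∉ K := fun h => hO ((Subgroup.eq_bot_iff_forall _).2 fun o ho => by
    have h1 : z * o * z⁻¹ = o := mul_inv_eq_iff_eq_mul.2 (mem_centralizer_iff.1 h o ho).symm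
    rw [hinv o ho] at h1
    have h2 : o ^ 2 = 1 := by rw [sq, ← eq_inv_iff_mul_eq_one]; exact h1.symm
    have h3 : orderOf o ∣ Nat.gcd 2 (Nat.card (Cfsg.pPrimeCore 2 G)) :=
      Nat.dvd_gcd (orderOf_dvd_of_pow_eq_one h2) (Subgroup.orderOf_dvd_natCard _ ho)
    rw [Nat.coprime_comm.1 (Coprime.pPrimeCore_coprime Nat.prime_two), Nat.dvd_one] at h3
    exact orderOf_eq_one_iff.1 h3)
  obtain ⟨hKinv, hKodd, hKcomm⟩ := S.inverts K hKn hKz
  have hcov : ∀ g : G, ∃ k ∈ K, k * g ∈ cz z := by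
    intro g
    have hw : z * (g * z * g⁻¹) ∈ K := by
      refine mem_centralizer_iff.2 fun o ho => ?_
      have h1 := hinv _ (oddCore_conj g⁻¹ o ho)
      rw [inv_inv] at h1
      have h2 : g * z * g⁻¹ * o * (g * z * g⁻¹)⁻¹ = o⁻¹ :=
        calc g * z * g⁻¹ * o * (g * z * g⁻¹)⁻¹ = g * (z * (g⁻¹ * o * g) * z⁻¹) * g⁻¹ := by group
          _ = g * (g⁻¹ * o * g)⁻¹ * g⁻¹ := by rw [h1]
          _ = o⁻¹ := by group
      have h3 : (z * (g * z * g⁻¹)) * o * (z * (g * z * g⁻¹))⁻¹ = o :=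
        calc (z * (g * z * g⁻¹)) * o * (z * (g * z * g⁻¹))⁻¹
            = z * (g * z * g⁻¹ * o * (g * z * g⁻¹)⁻¹) * z⁻¹ := by group
          _ = z * o⁻¹ * z⁻¹ := by rw [h2]
          _ = o := by rw [hinv _ (inv_mem ho), inv_inv]
      exact (mul_inv_eq_iff_eq_mul.1 h3).symm
    have hgz := Invol.invol_conj S.hz g
    have hodd' : Odd (orderOf (z * (g * z * g⁻¹))) :=
      hKodd.of_dvd_nat (Subgroup.orderOf_dvd_natCard _ hw)
    obtain ⟨d, hd, he⟩ := Invol.exists_conj_eq_of_odd S.hz hgz hodd'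
    have hdK : d⁻¹ ∈ K := inv_mem ((zpowers_le.2 hw) hd)
    refine ⟨d⁻¹, hdK, mem_cz_conj.2 ?_⟩
    calc d⁻¹ * g * z * (d⁻¹ * g)⁻¹ = d⁻¹ * (g * z * g⁻¹) * d := by group
      _ = d⁻¹ * (d * z * d⁻¹) * d := by rw [he]
      _ = z := by group
  haveI : K.Normal := ⟨fun k hk g => hKn g k hk⟩
  haveI : Group.IsSolvable (G ⧸ K) := by
    haveI := S.isSolvable_cz
    refine solvable_of_surjective (f := (QuotientGroup.mk' K).comp (cz z).subtype) fun q => ?_
    obtain ⟨g, rfl⟩ := QuotientGroup.mk'_surjective K q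
    obtain ⟨k, hk, hkg⟩ := hcov g
    refine ⟨⟨k * g, hkg⟩, ?_⟩
    show QuotientGroup.mk' K (k * g) = QuotientGroup.mk' K g
    rw [map_mul, show QuotientGroup.mk' K k = 1 from (QuotientGroup.eq_one_iff k).2 hk, one_mul]
  haveI : Group.IsSolvable K := isSolvable_of_comm fun a b => hKcomm.is_comm.comm a b
  exact solvable_of_ker_le_range K.subtype (QuotientGroup.mk' K)
    (by rw [Subgroup.range_subtype, QuotientGroup.ker_mk'])

theorem oddCore_eq_bot (hns : ¬ Group.IsSolvable G) : Cfsg.oddCore G = ⊥ := by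
  by_contra h
  exact hns (S.isSolvable_of_oddCore_ne_bot h)

end Hyp

end CfsgLib.AutL34
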