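import Cfsg.Agent.Lib.Invol.AutLThreeFour.CountT
import Cfsg.Agent.Lib.Invol.FourCentralizer
import Cfsg.Agent.Lib.Invol.EqualOrderConj.Tools
import Cfsg.Agent.Lib.Invol.HallJankoCount

/-!
# The centralizer of `t` in the subgroup of index two containing `t`
-/

set_option autoImplicit false

open Subgroup Equiv

namespace CfsgLib.AutL34

universe u

theorem alt5_conj : ∀ a b : alternatingGroup (Fin 5), a * a = 1 → a ≠ 1 → b * b = 1 → b ≠ 1 →
    ∃ c, c * a * c⁻¹ = b := by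
  set_option maxRecDepth 100000 in decide +kernel

theorem alt5_gen : ∀ x : alternatingGroup (Fin 5), ∃ a b, a * a = 1 ∧ b * b = 1 ∧ x = a * b := by
  set_option maxRecDepth 100000 in decide +kernel

/-- Ordered pairs of involutions with product of odd order. -/
def oddPairs (Q : Type u) [Group Q] : Set (Q × Q) :=
  {p | (p.1 * p.1 = 1 ∧ p.1 ≠ 1) ∧ (p.2 * p.2 = 1 ∧ p.2 ≠ 1) ∧ Odd (orderOf (p.1 * p.2))}

section Four

variable {Q : Type u} [Group Q] [Finite Q]

theorem four_cent_alt_five (e : Q ≃* alternatingGroup (Fin 5)) :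
    Nat.card Q = 60 ∧ (oddPairs Q).ncard = 195 ∧
      (∀ i j : Q, orderOf i = 2 → orderOf j = 2 → IsConj i j) ∧
      closure {i : Q | orderOf i = 2} = ⊤ := by
  classical
  refine ⟨(Nat.card_congr e.toEquiv).trans Invol.HallJanko.card_alt_five, ?_, ?_, ?_⟩
  · rw [← Invol.HallJanko.alt_five_odd_pairs, ← Nat.card_eq_fintype_card, ← Nat.card_coe_set_eq]
    refine Nat.card_congr (Equiv.subtypeEquiv (e.toEquiv.prodCongr e.toEquiv) ?_)
    intro p
    show _ ↔ e p.1 * e p.1 = 1 ∧ e p.1 ≠ 1 ∧ e p.2 * e p.2 = 1 ∧ (e p.1 * e p.2) ^ 15 = 1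
    constructor
    · rintro ⟨⟨h1, h2⟩, ⟨h3, -⟩, h5⟩
      refine ⟨by rw [← map_mul, h1, map_one], fun h => h2 (e.injective (h.trans (map_one e).symm)),
        by rw [← map_mul, h3, map_one], ?_⟩
      rw [← map_mul, ← orderOf_dvd_iff_pow_eq_one]
      have h30 := orderOf_dvd_of_pow_eq_one (Invol.HallJanko.alt_five_exponent (e (p.1 * p.2)))
      rw [MulEquiv.orderOf_eq] at h30 ⊢
      exact Nat.Coprime.dvd_of_dvd_mul_left (Nat.coprime_two_right.2 h5)
        (by rwa [show 2 * 15 = 30 from rfl])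
    · rintro ⟨h1, h2, h3, h5⟩
      rw [← map_mul] at h1 h3
      refine ⟨⟨e.injective (h1.trans (map_one e).symm), fun h => h2 (by rw [h, map_one])⟩,
        ⟨e.injective (h3.trans (map_one e).symm), fun h => h2 ?_⟩, ?_⟩
      · rw [h, map_one, mul_one] at h5
        exact Invol.HallJanko.alt_five_odd _ (by rwa [← map_mul]) h5
      · rw [← map_mul] at h5
        have := orderOf_dvd_of_pow_eq_one h5
        rw [MulEquiv.orderOf_eq] at this
        exact Odd.of_dvd_nat (by decide) this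
  · intro i j hi hj
    have key : ∀ k : Q, orderOf k = 2 → e k * e k = 1 ∧ e k ≠ 1 := fun k hk =>
      Invol.invol_iff.1 ((MulEquiv.orderOf_eq e k).trans hk)
    obtain ⟨c, hc⟩ := alt5_conj (e i) (e j) (key i hi).1 (key i hi).2 (key j hj).1 (key j hj).2
    exact isConj_iff.2 ⟨e.symm c, e.injective (by simpa using hc)⟩
  · refine eq_top_iff.2 fun q _ => ?_
    obtain ⟨a, b, ha, hb, h⟩ := alt5_gen (e q)
    have key : ∀ c : alternatingGroup (Fin 5), c * c = 1 →
        e.symm c ∈ closure {i : Q | orderOf i = 2} := fun c hc => by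
      by_cases h1 : c = 1
      · rw [h1, map_one]; exact one_mem _
      · exact subset_closure ((MulEquiv.orderOf_eq e.symm c).trans (Invol.invol_iff.2 ⟨hc, h1⟩))
    rw [show q = e.symm a * e.symm b by rw [← map_mul, ← h, e.symm_apply_apply]]
    exact mul_mem (key a ha) (key b hb)

/-- An involution with a four-group as centralizer, whose three involutions are permuted
cyclically. -/
theorem four_cent_dichotomy {x y g : Q} (hx : orderOf x = 2) (hy : orderOf y = 2) (hxy : x ≠ y)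
    (hc : x * y = y * x) (hC4 : Nat.card (centralizer ({x} : Set Q)) = 4)
    (g1 : g * x * g⁻¹ = y) (g2 : g * y * g⁻¹ = x * y) :
    (Nat.card Q = 12 ∧ (oddPairs Q).ncard = 3 ∧ ∀ i : Q, orderOf i = 2 → IsConj x i) ∨
      Nonempty (Q ≃* alternatingGroup (Fin 5)) := by
  classical
  haveI : Fact (Nat.Prime 2) := ⟨Nat.prime_two⟩
  set V := centralizer ({x} : Set Q) with hV
  have hxV : x ∈ V := mem_centralizer_singleton_iff.2 rfl
  have hyV : y ∈ V := mem_centralizer_singleton_iff.2 hc.symm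
  have hxx := Invol.invol_mul_self hx
  have hyy := Invol.invol_mul_self hy
  have hxy1 : x * y ≠ 1 := fun e => hxy ((mul_eq_one_iff_eq_inv.1 e).trans (Invol.invol_inv hy))
  have hxyo : orderOf (x * y) = 2 := g2 ▸ Invol.invol_conj hy g
  have hall : ∀ c ∈ V, c = 1 ∨ c = x ∨ c = y ∨ c = x * y := fun c hc' =>
    Invol.four_mem_cases hC4 hxV hyV (Invol.invol_ne_one hx) (Invol.invol_ne_one hy) hxy hxy1 hc'
  have hcy : IsConj x y := isConj_iff.2 ⟨g, g1⟩
  have hcxy : IsConj x (x * y) := hcy.trans (isConj_iff.2 ⟨g, g2⟩)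
  have hconj : ∀ c ∈ V, c ≠ 1 → IsConj x c := fun c hc' h1 => by
    rcases hall c hc' with rfl | rfl | rfl | rfl
    exacts [absurd rfl h1, IsConj.refl _, hcy, hcxy]
  have hCe : ∀ c ∈ V, c ^ 2 = 1 := fun c hc' => by
    rcases hall c hc' with rfl | rfl | rfl | rfl <;> rw [sq]
    exacts [one_mul 1, hxx, hyy, Invol.invol_mul_self hxyo]
  by_cases hne : ∀ E : Subgroup Q, E.Normal → Cfsg.IsElementaryAbelian 2 E →
      Nat.card E ≠ 2 ∧ Nat.card E ≠ 4
  · refine Or.inr (Invol.iso_alternating_five hx hC4 hCe ?_ hne)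
    rintro ⟨P, N, hN, hcompl⟩
    haveI := hN
    have hPN := hcompl.card_mul
    have hodd : Odd (Nat.card N) := by
      rw [← Nat.not_even_iff_odd, even_iff_two_dvd, ← hcompl.index_eq_card]
      exact P.not_dvd_index
    have hVmem : ∀ t ∈ ({x, y, x * y} : Set Q), t ∈ V ∧ t ≠ 1 := by
      rintro t (rfl | rfl | rfl)
      exacts [⟨hxV, Invol.invol_ne_one hx⟩, ⟨hyV, Invol.invol_ne_one hy⟩, ⟨mul_mem hxV hyV, hxy1⟩]
    have hbot : N = ⊥ := by
      refine EqConj.eq_bot_of_four_fpf hodd hx hy hxy hc (fun t _ k hk => hN.conj_mem k hk t) ?_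
      intro t ht k hk htk
      obtain ⟨u, hu⟩ := isConj_iff.1 (hconj t (hVmem t ht).1 (hVmem t ht).2)
      have hk' : u⁻¹ * k * u ∈ N := by simpa using hN.conj_mem k hk u⁻¹
      have hkV : u⁻¹ * k * u ∈ V := mem_centralizer_singleton_iff.2 (by
        rw [← hu] at htk
        calc u⁻¹ * k * u * x = u⁻¹ * (k * (u * x * u⁻¹)) * u := by group
          _ = u⁻¹ * (u * x * u⁻¹ * k) * u := by rw [← htk]
          _ = x * (u⁻¹ * k * u) := by group)
      have h1 : (⟨u⁻¹ * k * u, hk'⟩ : N) = 1 :=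
        orderOf_eq_one_iff.1 (Nat.eq_one_of_dvd_coprimes (a := 2) (b := Nat.card N)
          (Nat.coprime_two_left.2 hodd)
          (orderOf_dvd_of_pow_eq_one (Subtype.ext (hCe _ hkV))) (orderOf_dvd_natCard _))
      have h2 : u⁻¹ * k * u = 1 := congrArg Subtype.val h1
      calc k = u * (u⁻¹ * k * u) * u⁻¹ := by group
        _ = 1 := by rw [h2]; group
    rw [hbot, card_bot, one_mul] at hPN
    obtain ⟨n, hn⟩ := IsPGroup.iff_card.1 P.2
    have hg : g ^ 2 ^ n = 1 := by rw [← hn, hPN]; exact pow_card_eq_one'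
    have h3 : g ^ 3 * x * (g ^ 3)⁻¹ = x := by
      calc g ^ 3 * x * (g ^ 3)⁻¹ = g * (g * (g * x * g⁻¹) * g⁻¹) * g⁻¹ := by
            rw [pow_succ, pow_two]; group
        _ = g * (x * y) * g⁻¹ := by rw [g1, g2]
        _ = g * x * g⁻¹ * (g * y * g⁻¹) := by group
        _ = y * (x * y) := by rw [g1, g2]
        _ = x := by rw [hc, ← mul_assoc, hyy, one_mul]
    have hgC : g ∈ V := by
      have h3C : g ^ 3 ∈ V := mem_centralizer_singleton_iff.2 (mul_inv_eq_iff_eq_mul.1 h3)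
      obtain ⟨a, ha⟩ := exists_pow_eq_self_of_coprime (x := g)
        (Nat.Coprime.coprime_dvd_right (orderOf_dvd_of_pow_eq_one hg)
          (Nat.Coprime.pow_right n (by norm_num : Nat.Coprime 3 2)))
      rw [← ha]
      exact pow_mem h3C a
    exact hxy (by
      rw [← g1, mem_centralizer_singleton_iff.1 hgC, mul_inv_cancel_right])
  push Not at hne
  obtain ⟨E, hEn, ⟨hEc, hE2⟩, h24⟩ := hne
  haveI := hEc
  have hgen : ∀ e ∈ E, e * x = x * e → e ≠ 1 → x ∈ E := fun e he hex h1 => by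
    obtain ⟨u, hu⟩ := isConj_iff.1 (hconj e (mem_centralizer_singleton_iff.2 hex) h1)
    have := hEn.conj_mem e he u⁻¹
    rwa [← hu, show u⁻¹ * (u * x * u⁻¹) * u⁻¹⁻¹ = x by group] at this
  have hxE : x ∈ E := by
    by_contra hxE
    have hfix : ∃ e ∈ E, e * x = x * e ∧ e ≠ 1 := by
      obtain ⟨e, he, he1⟩ : ∃ e ∈ E, e ≠ 1 := by
        by_contra hno
        push Not at hno
        rw [(eq_bot_iff_forall E).2 hno, card_bot] at h24
        omega
      have he' : x * e * x⁻¹ ∈ E := hEn.conj_mem e he x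
      set f := x * e * x⁻¹ with hf
      by_cases hfe : f = e
      · exact ⟨e, he, (mul_inv_eq_iff_eq_mul.1 hfe).symm, he1⟩
      refine ⟨e * f, mul_mem he he', ?_, fun h => hfe ?_⟩
      · have h1 : f * e = e * f := congrArg Subtype.val
          (mul_comm' (⟨f, he'⟩ : E) ⟨e, he⟩)
        refine (mul_inv_eq_iff_eq_mul.1 ?_).symm
        rw [show x * (e * f) * x⁻¹ = x * e * x⁻¹ * (x * f * x⁻¹) by group, ← hf, hf,
          show x * (x * e * x⁻¹) * x⁻¹ = x * x * e * (x * x)⁻¹ by group, hxx, one_mul, inv_one,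
          mul_one, ← hf, h1]
      · have h2 := hE2 e he
        rw [sq] at h2
        exact mul_left_cancel (h.trans h2.symm)
    obtain ⟨e, he, hex, h1⟩ := hfix
    exact hxE (hgen e he hex h1)
  have hyE : y ∈ E := g1 ▸ hEn.conj_mem x hxE g
  have hEV : E ≤ V := fun e he => mem_centralizer_singleton_iff.2
    (congrArg Subtype.val (mul_comm' (⟨e, he⟩ : E) ⟨x, hxE⟩))
  have hVE : V ≤ E := fun c hc' => by
    rcases hall c hc' with rfl | rfl | rfl | rfl
    exacts [one_mem _, hxE, hyE, mul_mem hxE hyE]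
  have heq : E = V := le_antisymm hEV hVE
  haveI : V.Normal := heq ▸ hEn
  have hsetA : (fun k => k * x * k⁻¹) '' ((⊤ : Subgroup Q) : Set Q) = {x, y, x * y} := by
    refine Set.Subset.antisymm ?_ ?_
    · rintro _ ⟨k, -, rfl⟩
      rcases hall _ (Subgroup.Normal.conj_mem inferInstance x hxV k) with e | e | e | e
      · exact absurd e (Invol.invol_ne_one (Invol.invol_conj hx k))
      · exact Or.inl e
      · exact Or.inr (Or.inl e)
      · exact Or.inr (Or.inr e)
    · rintro c (rfl | rfl | rfl)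
      · exact ⟨1, mem_top _, by simp⟩
      · exact ⟨g, mem_top _, g1⟩
      · exact ⟨g * g, mem_top _, by
          show g * g * x * (g * g)⁻¹ = x * y
          rw [show g * g * x * (g * g)⁻¹ = g * (g * x * g⁻¹) * g⁻¹ by group, g1, g2]⟩
  have hcard : Nat.card Q = 12 := by
    have h := card_conj_orbit (⊤ : Subgroup Q) x
    rw [hsetA, top_inf_eq, ← hV, hC4, card_top] at h
    have h3 : ({x, y, x * y} : Set Q).ncard = 3 := Set.ncard_eq_three.2 ⟨x, y, x * y, hxy,
      fun h => Invol.invol_ne_one hy (left_eq_mul.1 h),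
      fun h => Invol.invol_ne_one hx (right_eq_mul.1 h), rfl⟩
    rw [h3] at h
    omega
  have hinvV : ∀ i : Q, orderOf i = 2 → i ∈ V := fun i hi => by
    have hidx : V.index = 3 := by
      have h := V.card_mul_index
      rw [hC4, hcard] at h
      omega
    have h2 : (QuotientGroup.mk i : Q ⧸ V) ^ 2 = 1 := by
      rw [← QuotientGroup.mk_pow, sq, Invol.invol_mul_self hi, QuotientGroup.mk_one]
    have h3 : (QuotientGroup.mk i : Q ⧸ V) ^ 3 = 1 := by
      rw [← hidx, Subgroup.index_eq_card]; exact pow_card_eq_one'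
    rw [pow_succ, h2, one_mul] at h3
    exact (QuotientGroup.eq_one_iff i).1 h3
  refine Or.inl ⟨hcard, ?_, fun i hi => hconj i (hinvV i hi) (Invol.invol_ne_one hi)⟩
  have hset : oddPairs Q = (fun i => (i, i)) '' ({x, y, x * y} : Set Q) := by
    refine Set.Subset.antisymm ?_ ?_
    · rintro ⟨i, j⟩ ⟨⟨hi, hi1⟩, ⟨hj, hj1⟩, hodd⟩
      have hiV := hinvV i (Invol.invol_iff.2 ⟨hi, hi1⟩)
      have hjV := hinvV j (Invol.invol_iff.2 ⟨hj, hj1⟩)
      have h1 : i * j = 1 := by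
        rw [← orderOf_eq_one_iff]
        have h2 : orderOf (i * j) ∣ 2 := orderOf_dvd_of_pow_eq_one (hCe _ (mul_mem hiV hjV))
        rcases (Nat.dvd_prime Nat.prime_two).1 h2 with e | e
        · exact e
        · rw [e] at hodd; exact absurd hodd (by decide)
      have hij : i = j := (mul_eq_one_iff_eq_inv.1 h1).trans (inv_eq_of_mul_eq_one_right hj)
      refine ⟨i, ?_, by rw [hij]⟩
      rcases hall i hiV with e | e | e | e
      exacts [absurd e hi1, Or.inl e, Or.inr (Or.inl e), Or.inr (Or.inr e)]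
    · rintro _ ⟨c, hcm, rfl⟩
      have hco : orderOf c = 2 := by
        rcases hcm with rfl | rfl | rfl
        exacts [hx, hy, hxyo]
      exact ⟨Invol.invol_iff.1 hco, Invol.invol_iff.1 hco, by
        rw [Invol.invol_mul_self hco, orderOf_one]; decide⟩
  rw [hset, Set.ncard_image_of_injective _ (fun a b h => congrArg Prod.fst h),
    Set.ncard_eq_three.2 ⟨x, y, x * y, hxy, fun h => Invol.invol_ne_one hy (left_eq_mul.1 h),
      fun h => Invol.invol_ne_one hx (right_eq_mul.1 h), rfl⟩]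

end Four

namespace Halves

variable {G : Type u} [Group G]
variable {z : G} {E : Subgroup G} {φ : ↥(cz z) →* Perm (Fin 4)} {x a b t d : G}
  {Mt Mb : Subgroup G} (S : Halves z E φ x a b t d Mt Mb) [Finite G]
include S

theorem t_notMem_wS : t ∉ wS z a := fun h => S.htp (rad_le_par (mem_r1.1 (S.wS_le_r1 h)).1)

/-- The involutions of `Mt` commuting with `t`. -/
theorem ct_invol_cases {s : G} (hs : s ∈ Mt) (hst : s * t = t * s) (ho : orderOf s = 2) :
    IsConj z s ∨ IsConj t s := by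
  have hp : IsPGroup 2 (zpowers s) := IsPGroup.of_card (n := 1) (by rw [Nat.card_zpowers, ho, pow_one])
  obtain ⟨k, hk⟩ := S.centralizer_t.2 (zpowers s) (zpowers_le.2 (mem_centralizer_singleton_iff.2 hst)) hp
  obtain ⟨h1, h2⟩ := S.mem_tT.1 (hk s (mem_zpowers s))
  have hsc : IsConj s (k * s * k⁻¹) := isConj_iff.2 ⟨k, rfl⟩
  have hk0 := S.mem_k0_of_mt (S.nt.conj_mem s hs k) h1
  rcases mem_ext2.1 (S.mem_wt.2 ⟨hk0, h2⟩) with hw | hw
  · exact Or.inl ((S.conj_z_w hw (Invol.invol_ne_one (Invol.invol_conj ho k))).trans hsc.symm)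
  · have hmem : k * s * k⁻¹ ∈ {g | g * t ∈ r1 φ a ∧ g * g = 1} :=
      ⟨S.wS_le_r1 hw, Invol.invol_mul_self (Invol.invol_conj ho k)⟩
    rw [← S.t_class_r1.1] at hmem
    obtain ⟨r, -, e⟩ := hmem
    exact Or.inr ((isConj_iff.2 ⟨r, e⟩ : IsConj t _).trans hsc.symm)

theorem wt_mul_t_conj {w : G} (hw : w ∈ wS z a) : IsConj t (w * t) := by
  have hmem : w * t ∈ {g | g * t ∈ r1 φ a ∧ g * g = 1} := by
    refine ⟨by rw [mul_assoc, S.t2, mul_one]; exact S.wS_le_r1 hw, ?_⟩
    rw [S.sq_mul_of_comm (S.wS_central S.t_mem_k0 hw).symm, S.wS_sq hw, S.t2, one_mul]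
  rw [← S.t_class_r1.1] at hmem
  obtain ⟨r, -, e⟩ := hmem
  exact isConj_iff.2 ⟨r, e⟩

/-- The structure of the centralizer of `t` in `Mt`, as far as counting needs it. -/
theorem ct_count :
    (Nat.card ↥(Mt ⊓ centralizer ({t} : Set G)) = 24 ∧
      Nat.card {p : G × G // IsConj z p.1 ∧ IsConj t p.2 ∧ t ∈ zpowers (p.1 * p.2)} = 3) ∨
    ((Nat.card ↥(Mt ⊓ centralizer ({t} : Set G)) = 120 ∧
      Nat.card {p : G × G // IsConj z p.1 ∧ IsConj t p.2 ∧ t ∈ zpowers (p.1 * p.2)} = 195) ∧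
      ∃ g ∈ closure {v : G | v * t = t * v ∧ IsConj z v}, g = d ∨ g = d * t) := by
  classical
  haveI := S.nt
  set C := Mt ⊓ centralizer ({t} : Set G) with hC
  have htC : t ∈ C := ⟨S.tMt, mem_centralizer_singleton_iff.2 rfl⟩
  set T := (zpowers t).subgroupOf C with hT
  have hcomm : ∀ c : C, (c : G) * t = t * (c : G) := fun c => mem_centralizer_singleton_iff.1 c.2.2
  haveI : T.Normal := ⟨fun n hn g => by
    rw [mem_subgroupOf] at hn ⊢
    obtain ⟨k, hk⟩ := mem_zpowers_iff.1 hn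
    refine mem_zpowers_iff.2 ⟨k, ?_⟩
    show t ^ k = (g : G) * (n : G) * (g : G)⁻¹
    rw [← hk, (Commute.zpow_right (hcomm g) k).eq, mul_inv_cancel_right]⟩
  set π := QuotientGroup.mk' T with hπ
  have hπs : Function.Surjective π := QuotientGroup.mk'_surjective T
  have hπ1 : ∀ c : C, π c = 1 ↔ (c : G) = 1 ∨ (c : G) = t := fun c => by
    rw [hπ, QuotientGroup.mk'_apply, QuotientGroup.eq_one_iff, hT, mem_subgroupOf]
    constructor
    · intro h
      obtain ⟨k, hk⟩ := mem_zpowers_iff.1 h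
      have h2 : t ^ (2 : ℤ) = 1 := by rw [zpow_two, S.t2]
      rcases Int.even_or_odd' k with ⟨l, rfl | rfl⟩
      · left; rw [← hk, zpow_mul, h2, one_zpow]
      · right; rw [← hk, zpow_add, zpow_mul, h2, one_zpow, one_mul, zpow_one]
    · rintro (h | h) <;> rw [h]
      exacts [one_mem _, mem_zpowers t]
  have hπe : ∀ c c' : C, π c = π c' ↔ (c : G) = c' ∨ (c : G) = (c' : G) * t := fun c c' => by
    rw [eq_comm, ← inv_mul_eq_one, ← map_inv, ← map_mul, hπ1, coe_mul, coe_inv, inv_mul_eq_one,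
      inv_mul_eq_iff_eq_mul]
    exact or_congr eq_comm Iff.rfl
  -- the images of `W` and `d`
  have hzc : z * t = t * z := (mem_cz.1 S.ht).symm
  have hzC : z ∈ C := ⟨S.k0_le_mt (Frame.r1_le_k0 (S.wS_le_r1 S.z_mem_wS)),
    mem_centralizer_singleton_iff.2 hzc⟩
  have haC : a ∈ C := ⟨S.k0_le_mt (Frame.r1_le_k0 (S.wS_le_r1 S.a_mem_wS)),
    mem_centralizer_singleton_iff.2 S.ta.symm⟩
  have hdC : d ∈ C := ⟨S.dMt, mem_centralizer_singleton_iff.2 S.dt⟩
  obtain ⟨a1, a2, -, -, -, -⟩ := S.ab_ne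
  have hX : orderOf (π ⟨z, hzC⟩) = 2 := Invol.invol_iff.2 ⟨by
    rw [← map_mul, hπ1]; exact Or.inl (Invol.invol_mul_self S.hz), fun h => by
    rcases (hπ1 _).1 h with e | e
    · exact S.zne e
    · exact S.t_notMem_wS (e ▸ S.z_mem_wS)⟩
  have hY : orderOf (π ⟨a, haC⟩) = 2 := Invol.invol_iff.2 ⟨by
    rw [← map_mul, hπ1]; exact Or.inl S.aa, fun h => by
    rcases (hπ1 _).1 h with e | e
    · exact a1 e
    · exact S.t_notMem_wS (e ▸ S.a_mem_wS)⟩
  have hXY : π ⟨z, hzC⟩ ≠ π ⟨a, haC⟩ := fun h => by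
    rcases (hπe _ _).1 h with e | e
    · exact a2 e.symm
    · have h1 := S.wt_mul_t_conj S.a_mem_wS
      simp only at e
      rw [← e] at h1
      exact S.conj_t_not_z h1 (IsConj.refl z)
  have hc : π ⟨z, hzC⟩ * π ⟨a, haC⟩ = π ⟨a, haC⟩ * π ⟨z, hzC⟩ := by
    rw [← map_mul, ← map_mul]; congr 1; exact Subtype.ext (S.zcomm_E S.ha).symm
  have hC4 : Nat.card (centralizer ({π ⟨z, hzC⟩} : Set (↥C ⧸ T))) = 4 := by
    let K : Subgroup G := ext2 (wS z a) t S.t2 S.wt_hn
    have hKC : ∀ g ∈ K, g ∈ C := fun g hg =>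
      ⟨S.k0_le_mt (S.mem_wt.1 hg).1, mem_centralizer_singleton_iff.2 (S.mem_wt.1 hg).2⟩
    have hmap : centralizer ({π ⟨z, hzC⟩} : Set (↥C ⧸ T)) = (K.subgroupOf C).map π := by
      apply le_antisymm
      · intro q hq
        obtain ⟨g, rfl⟩ := hπs q
        have h := mem_centralizer_singleton_iff.1 hq
        rw [← map_mul, ← map_mul, hπe] at h
        simp only [coe_mul] at h
        rcases h with h | h
        · exact ⟨g, mem_subgroupOf.2 (S.mem_wt.2 ⟨S.mem_k0_of_mt g.2.1 (mem_cz.2 h), hcomm g⟩), rfl⟩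
        · exfalso
          have hzt : z * t ∈ cz z := mul_mem (mem_cz.2 rfl) S.ht
          have hp : z * t ∉ par φ := fun h' => S.htp (by
            have := mul_mem (inv_mem (rad_le_par (mem_r1.1 (S.wS_le_r1 S.z_mem_wS)).1)) h'
            rwa [inv_mul_cancel_left] at this)
          refine S.not_conj_outer hzt hp (isConj_iff.2 ⟨(g : G), ?_⟩)
          rw [h, show z * (g : G) * t * (g : G)⁻¹ = z * ((g : G) * t) * (g : G)⁻¹ by group, hcomm g]
          group
      · rintro _ ⟨g, hg, rfl⟩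
        refine mem_centralizer_singleton_iff.2 ?_
        rw [← map_mul, ← map_mul]
        congr 1
        exact Subtype.ext (mem_cz.1 (mem_k0.1 (S.mem_wt.1 (mem_subgroupOf.1 hg)).1).1)
    have hle : π.ker ≤ K.subgroupOf C := fun g hg => by
      rcases (hπ1 g).1 (MonoidHom.mem_ker.1 hg) with e | e <;> rw [mem_subgroupOf, e]
      exacts [one_mem _, S.mem_wt.2 ⟨S.t_mem_k0, rfl⟩]
    have hker2 : Nat.card π.ker = 2 := by
      rw [hπ, QuotientGroup.ker_mk', hT, Nat.card_congr (subgroupOfEquivOfLe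
        (zpowers_le.2 htC)).toEquiv, Nat.card_zpowers, S.orderOf_t]
    have h1 : Nat.card (K.subgroupOf C) = 8 := by
      rw [Nat.card_congr (subgroupOfEquivOfLe hKC).toEquiv]; exact S.card_wt
    rw [hmap]
    have e1 := ((K.subgroupOf C).map π).card_mul_index
    have e2 := (K.subgroupOf C).card_mul_index
    have e3 := π.ker.card_mul_index
    rw [index_map_eq _ hπs hle] at e1
    rw [index_ker, MonoidHom.range_eq_top.2 hπs, card_top, hker2] at e3
    rw [h1] at e2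
    rw [← e1, ← e2] at e3
    have h0 : (K.subgroupOf C).index ≠ 0 := Subgroup.index_ne_zero_of_finite
    nlinarith [e3, Nat.pos_of_ne_zero h0]
  have g1 : π ⟨d, hdC⟩ * π ⟨z, hzC⟩ * (π ⟨d, hdC⟩)⁻¹ = π ⟨a, haC⟩ := by
    rw [← map_inv, ← map_mul, ← map_mul]; congr 1; exact Subtype.ext S.dz
  have g2 : π ⟨d, hdC⟩ * π ⟨a, haC⟩ * (π ⟨d, hdC⟩)⁻¹ = π ⟨z, hzC⟩ * π ⟨a, haC⟩ := by
    rw [← map_inv, ← map_mul, ← map_mul, ← map_mul]; congr 1
    exact Subtype.ext (S.da.trans (S.zcomm_E S.ha))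
  have hdich := four_cent_dichotomy hX hY hXY hc hC4 g1 g2
  have hkey : ∀ i : ↥C ⧸ T, orderOf i = 2 → IsConj (π ⟨z, hzC⟩) i := fun i hi => by
    rcases hdich with ⟨-, -, h⟩ | ⟨⟨e⟩⟩
    · exact h i hi
    · exact (four_cent_alt_five e).2.2.1 _ _ hX hi
  -- lifts of involutions
  have hlift : ∀ i : ↥C ⧸ T, orderOf i = 2 → ∃ v : C, π v = i ∧ IsConj z (v : G) ∧
      IsConj t ((v : G) * t) := fun i hi => by
    obtain ⟨q, hq⟩ := isConj_iff.1 (hkey i hi)
    obtain ⟨g, rfl⟩ := hπs q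
    refine ⟨g * ⟨z, hzC⟩ * g⁻¹, by rw [map_mul, map_mul, map_inv, hq], isConj_iff.2 ⟨g, rfl⟩, ?_⟩
    refine (S.wt_mul_t_conj S.z_mem_wS).trans (isConj_iff.2 ⟨(g : G), ?_⟩)
    show (g : G) * (z * t) * (g : G)⁻¹ = (g : G) * z * (g : G)⁻¹ * t
    have h1 : (g : G)⁻¹ * t = t * (g : G)⁻¹ := (Commute.inv_left (hcomm g)).eq
    rw [mul_assoc ((g : G) * z) (g : G)⁻¹ t, h1]; group
  -- elements of the two classes in `C`
  have hz_t : ∀ v : C, IsConj z (v : G) → orderOf (π v) = 2 ∧ IsConj t ((v : G) * t) := fun v hv => by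
    obtain ⟨k, hk⟩ := isConj_iff.1 hv
    have ho : orderOf (v : G) = 2 := hk ▸ Invol.invol_conj S.hz k
    have hi : orderOf (π v) = 2 := Invol.invol_iff.2 ⟨by
      rw [← map_mul, hπ1]; exact Or.inl (Invol.invol_mul_self ho), fun h => by
      rcases (hπ1 v).1 h with e | e
      · exact Invol.invol_ne_one ho e
      · exact S.conj_t_not_z (IsConj.refl t) (e ▸ hv)⟩
    obtain ⟨w, hw, hwz, hwt⟩ := hlift _ hi
    rcases (hπe _ _).1 hw with e | e
    · exact ⟨hi, e ▸ hwt⟩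
    · rw [e, mul_assoc, S.t2, mul_one] at hwt
      exact absurd hv (S.conj_t_not_z hwt)
  have ht_t : ∀ u : C, IsConj t (u : G) → (u : G) ≠ t →
      orderOf (π u) = 2 ∧ IsConj z ((u : G) * t) := fun u hu hne => by
    obtain ⟨k, hk⟩ := isConj_iff.1 hu
    have ho : orderOf (u : G) = 2 := hk ▸ Invol.invol_conj S.orderOf_t k
    have hi : orderOf (π u) = 2 := Invol.invol_iff.2 ⟨by
      rw [← map_mul, hπ1]; exact Or.inl (Invol.invol_mul_self ho), fun h => by
      rcases (hπ1 u).1 h with e | e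
      · exact Invol.invol_ne_one ho e
      · exact hne e⟩
    obtain ⟨w, hw, hwz, hwt⟩ := hlift _ hi
    rcases (hπe _ _).1 hw with e | e
    · exact absurd (e ▸ hwz) (S.conj_t_not_z hu)
    · exact ⟨hi, e ▸ hwz⟩
  -- `t` is no power of a product of two involutions of the class of `z`
  have hno : ∀ v w : C, IsConj z (v : G) → IsConj z (w : G) → t ∉ zpowers ((v : G) * w) := by
    intro v w hv hw h
    obtain ⟨kv, hkv⟩ := isConj_iff.1 hv
    obtain ⟨kw, hkw⟩ := isConj_iff.1 hw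
    have hvo : orderOf (v : G) = 2 := hkv ▸ Invol.invol_conj S.hz kv
    have hwo : orderOf (w : G) = 2 := hkw ▸ Invol.invol_conj S.hz kw
    obtain ⟨k, hk⟩ := mem_zpowers_iff.1 h
    have hrel := Invol.zpow_mul_invol hvo (Invol.invol_conj_mul hvo hwo)
    refine S.conj_t_not_z (hz_t v hv).2 ?_
    rcases Int.even_or_odd' k with ⟨l, rfl | rfl⟩
    · refine hv.trans (isConj_iff.2 ⟨((v : G) * w) ^ (-l), ?_⟩)
      rw [hrel (-l), neg_neg, ← zpow_neg, neg_neg, mul_assoc, ← zpow_add, ← two_mul, hk]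
    · refine hw.trans (isConj_iff.2 ⟨((v : G) * w) ^ (-l), ?_⟩)
      have hwe : (w : G) = (v : G) * ((v : G) * w) := by
        rw [← mul_assoc, Invol.invol_mul_self hvo, one_mul]
      generalize hab : (v : G) * w = ab at hk hrel hwe ⊢
      rw [hwe, ← zpow_neg, neg_neg, ← mul_assoc (ab ^ (-l)) (v : G) ab, hrel (-l), neg_neg,
        mul_assoc (v : G) _ ab, ← zpow_add_one, mul_assoc (v : G), ← zpow_add,
        show l + 1 + l = 2 * l + 1 by ring, hk]
  -- the pairs
  have hpC : ∀ p : G × G, IsConj z p.1 → IsConj t p.2 → t ∈ zpowers (p.1 * p.2) →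
      p.1 ∈ C ∧ p.2 ∈ C ∧ p.2 ≠ t := by
    rintro ⟨v, u⟩ hv hu h
    obtain ⟨g, hg⟩ := isConj_iff.1 hv
    obtain ⟨g', hg'⟩ := isConj_iff.1 hu
    have hv2 := hg ▸ Invol.invol_conj S.hz g
    have hu2 := hg' ▸ Invol.invol_conj S.orderOf_t g'
    obtain ⟨k, hk⟩ := mem_zpowers_iff.1 h
    have h1 := Invol.conj_zpow_of_inverts (Invol.invol_conj_mul hv2 hu2) k
    have h2 := Invol.conj_zpow_of_inverts (Invol.invol_conj_mul' hv2 hu2) k
    rw [zpow_neg, hk, S.tinv, conj_iff_comm] at h1 h2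
    refine ⟨⟨hg ▸ S.nt.conj_mem z hzC.1 g, mem_centralizer_singleton_iff.2 h1⟩,
      ⟨hg' ▸ S.nt.conj_mem t S.tMt g', mem_centralizer_singleton_iff.2 h2⟩, fun e => ?_⟩
    simp only at e
    have hvt : v * t = t * v := h1
    subst e
    have hvne : v ≠ u := fun e => S.conj_t_not_z (IsConj.refl u) (e ▸ hv)
    have ho : orderOf (v * u) = 2 := Invol.invol_iff.2
      ⟨by rw [S.sq_mul_of_comm hvt, Invol.invol_mul_self hv2, Invol.invol_mul_self hu2, one_mul],
        fun e => hvne ((mul_eq_one_iff_eq_inv.1 e).trans (Invol.invol_inv hu2))⟩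
    have := Invol.invol_zpowers_unique ho hu2 (mem_zpowers _) h
    exact Invol.invol_ne_one hv2 (mul_eq_right.1 this)
  have hpairs : Nat.card {p : G × G // IsConj z p.1 ∧ IsConj t p.2 ∧ t ∈ zpowers (p.1 * p.2)} =
      (oddPairs (↥C ⧸ T)).ncard := by
    rw [← Nat.card_coe_set_eq]
    refine Nat.card_eq_of_bijective (fun p => ⟨(π ⟨p.1.1, (hpC _ p.2.1 p.2.2.1 p.2.2.2).1⟩,
      π ⟨p.1.2, (hpC _ p.2.1 p.2.2.1 p.2.2.2).2.1⟩), ?_⟩) ⟨?_, ?_⟩
    · obtain ⟨⟨v, u⟩, hv, hu, h⟩ := p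
      obtain ⟨hvC, huC, hne⟩ := hpC _ hv hu h
      simp only at hvC huC hne ⊢
      obtain ⟨hvi, -⟩ := hz_t ⟨v, hvC⟩ hv
      obtain ⟨hui, huz⟩ := ht_t ⟨u, huC⟩ hu hne
      refine ⟨Invol.invol_iff.1 hvi, Invol.invol_iff.1 hui, ?_⟩
      set w : C := ⟨u * t, mul_mem huC htC⟩ with hw
      have hπw : π ⟨u, huC⟩ = π w := (hπe _ _).2 (Or.inr (by
        show u = u * t * t
        rw [mul_assoc, S.t2, mul_one]))
      rw [hπw, ← map_mul]
      refine Odd.of_dvd_nat ?_ (orderOf_map_dvd π _)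
      rw [← orderOf_injective C.subtype C.subtype_injective, coe_subtype, coe_mul]
      obtain ⟨k, hk⟩ := mem_zpowers_iff.1 h
      have hcomm' : Commute (v * (u * t)) t := hcomm ((⟨v, hvC⟩ : C) * w)
      have hvu : v * u = v * (u * t) * t := by simp only [mul_assoc, S.t2, mul_one]
      rw [hvu, hcomm'.mul_zpow] at hk
      have h2 : t ^ (2 : ℤ) = 1 := by rw [zpow_two, S.t2]
      rcases Int.even_or_odd' k with ⟨l, rfl | rfl⟩
      · rw [zpow_mul t, h2, one_zpow, mul_one] at hk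
        exact absurd (mem_zpowers_iff.2 ⟨_, hk⟩) (hno ⟨v, hvC⟩ w hv huz)
      · rw [zpow_add t, zpow_mul t, h2, one_zpow, one_mul, zpow_one, mul_eq_right,
          ← orderOf_dvd_iff_zpow_eq_one] at hk
        rw [← Nat.not_even_iff_odd, even_iff_two_dvd]
        intro h2'
        have := (Int.natCast_dvd_natCast.2 h2').trans hk
        omega
    · rintro ⟨⟨v, u⟩, hv, hu, h⟩ ⟨⟨v', u'⟩, hv', hu', h'⟩ e
      simp only [Subtype.mk.injEq, Prod.mk.injEq] at e
      obtain ⟨hvC, huC, hne⟩ := hpC _ hv hu h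
      obtain ⟨hvC', huC', hne'⟩ := hpC _ hv' hu' h'
      have e1 : v = v' := ((hπe _ _).1 e.1).resolve_right fun c => by
        simp only at c
        exact S.conj_t_not_z (hz_t ⟨v', hvC'⟩ hv').2 (c ▸ hv)
      have e2 : u = u' := ((hπe _ _).1 e.2).resolve_right fun c => by
        simp only at c
        exact S.conj_t_not_z hu (c ▸ (ht_t ⟨u', huC'⟩ hu' hne').2)
      subst e1 e2
      rfl
    · rintro ⟨⟨i, j⟩, hi, hj, hodd⟩
      obtain ⟨v, hvi, hvz, -⟩ := hlift i (Invol.invol_iff.2 hi)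
      obtain ⟨w, hwj, hwz, hwt⟩ := hlift j (Invol.invol_iff.2 hj)
      simp only at hodd hvi hwj
      rw [← hvi, ← hwj, ← map_mul] at hodd
      set m := orderOf (π (v * w)) with hm
      have h1 : ((v : G) * w) ^ m = 1 := by
        rcases (hπ1 ((v * w) ^ m)).1 (by rw [map_pow, hm, pow_orderOf_eq_one]) with e | e
        · rwa [coe_pow, coe_mul] at e
        · rw [coe_pow, coe_mul] at e
          exact absurd (e ▸ npow_mem_zpowers _ m) (hno v w hvz hwz)
      have hmem : t ∈ zpowers ((v : G) * ((w : G) * t)) := by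
        refine mem_zpowers_iff.2 ⟨(m : ℤ), ?_⟩
        rw [zpow_natCast, ← mul_assoc, Commute.mul_pow (show Commute ((v : G) * w) t from hcomm (v * w)), h1,
          one_mul]
        obtain ⟨l, hl⟩ := hodd
        rw [hl, pow_succ, pow_mul, sq, S.t2, one_pow, one_mul]
      refine ⟨⟨((v : G), (w : G) * t), hvz, hwt, hmem⟩, Subtype.ext (Prod.ext hvi ?_)⟩
      refine ((hπe _ w).2 (Or.inr ?_)).trans hwj
      rfl
  have hcardC : Nat.card C = 2 * Nat.card (↥C ⧸ T) := by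
    rw [card_eq_card_quotient_mul_card_subgroup T, hT,
      Nat.card_congr (subgroupOfEquivOfLe (zpowers_le.2 htC)).toEquiv, Nat.card_zpowers,
      S.orderOf_t, mul_comm]
  rw [hpairs, hcardC]
  rcases hdich with ⟨h1, h2, -⟩ | ⟨⟨e⟩⟩
  · exact Or.inl ⟨by rw [h1], h2⟩
  obtain ⟨h1, h2, -, h4⟩ := four_cent_alt_five e
  refine Or.inr ⟨⟨by rw [h1], h2⟩, ?_⟩
  have htop : ((closure {v : G | v * t = t * v ∧ IsConj z v}).subgroupOf C).map π = ⊤ := by
    rw [eq_top_iff, ← h4, closure_le]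
    intro i hi
    obtain ⟨v, hvi, hvz, -⟩ := hlift i hi
    exact ⟨v, subset_closure ⟨hcomm v, hvz⟩, hvi⟩
  obtain ⟨g, hg, hgd⟩ := (htop.symm ▸ mem_top (π ⟨d, hdC⟩) :
    π ⟨d, hdC⟩ ∈ ((closure {v : G | v * t = t * v ∧ IsConj z v}).subgroupOf C).map π)
  exact ⟨(g : G), mem_subgroupOf.1 hg, (hπe _ _).1 hgd⟩

end Halves

end CfsgLib.AutL34
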