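import Cfsg.Agent.Lib.Invol.AutLThreeFour.Split
import Mathlib.GroupTheory.Sylow

/-!
# The conjugates of `m`, and an involution `t` of `C(z)` inverting `x`
-/

set_option autoImplicit false

open Subgroup Equiv

namespace CfsgLib.AutL34

universe u

variable {G : Type u} [Group G]

theorem odd_invol_conj : ∀ σ τ : Perm (Fin 4), σ * σ = 1 → Perm.sign σ ≠ 1 → τ * τ = 1 →
    Perm.sign τ ≠ 1 → ∃ ρ : Perm (Fin 4), ρ * σ * ρ⁻¹ = τ := by
  decide +kernel

set_option synthInstance.maxSize 1024 in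
theorem even_comm_odd : ∀ σ τ : Perm (Fin 4), σ * σ = 1 → Perm.sign σ ≠ 1 → Perm.sign τ = 1 →
    τ * σ = σ * τ → τ * τ = 1 := by
  decide +kernel

namespace Split

variable {z : G} {E : Subgroup G} {φ : ↥(cz z) →* Perm (Fin 4)} {x a b m : G}
  (S : Split z E φ x a b m) [Finite G]
include S

theorem conj_class :
    (fun h => h * m * h⁻¹) '' (cz z : Set G) = {g | g ∈ r1 φ a ∧ g ∉ wS z a ∧ g * g = 1} := by
  refine Set.Subset.antisymm ?_ ?_
  · rintro _ ⟨h, hh, rfl⟩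
    refine ⟨S.r1_normal hh S.hm, fun e => S.hmW ?_, ?_⟩
    · have := S.wS_normal (inv_mem hh) e
      rwa [show h⁻¹ * (h * m * h⁻¹) * h⁻¹⁻¹ = m by group] at this
    · rw [show h * m * h⁻¹ * (h * m * h⁻¹) = h * (m * m) * h⁻¹ by group, S.mm]; simp
  · rintro g ⟨hg, hgW, h2⟩
    have inA : ∀ g, g ∈ aS φ a m → g ∉ wS z a → g ∈ (fun h => h * m * h⁻¹) '' (cz z : Set G) := by
      intro g hg hgW
      have hkey : ∀ k ∈ cz z, g * (k * m * k⁻¹)⁻¹ ∈ wS z a →
          g ∈ (fun h => h * m * h⁻¹) '' (cz z : Set G) := by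
        intro k hk h
        have h' := S.wS_normal (inv_mem hk) h
        have hmem : k⁻¹ * g * k ∈ (fun w => w * m) '' (wS z a : Set G) :=
          ⟨_, h', by group⟩
        rw [← S.conj_set] at hmem
        obtain ⟨r, hr, e⟩ := hmem
        refine ⟨k * r, mul_mem hk (rad_le (mem_r1.1 hr).1), ?_⟩
        simp only at e ⊢
        rw [show k * r * m * (k * r)⁻¹ = k * (r * m * r⁻¹) * k⁻¹ by group, e]; group
      rcases S.aS_cases hg with h | h | h | h
      · exact absurd h hgW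
      · exact hkey 1 (one_mem _) (by simpa using h)
      · exact hkey x S.hx h
      · exact hkey x⁻¹ (inv_mem S.hx) (by simpa using h)
    rcases S.invol_cases hg h2 with hA | hB
    · exact inA g hA hgW
    · have hgA : b * g * b ∈ aS φ a m := by
        obtain ⟨hgR, hgn⟩ := mem_aS.1 hB
        have h1 := S.r1_normal (S.hEH S.hb) hgR
        rw [S.binv] at h1
        refine mem_aS.2 ⟨h1, ?_⟩
        have h3 : Commute g (b * m * b) := hgn
        have h4 := h3.map (MulAut.conj b).toMonoidHom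
        simp only [MulEquiv.coe_toMonoidHom, MulAut.conj_apply, S.binv] at h4
        rwa [show b * (b * m * b) * b = (b * b) * m * (b * b) by group, S.bb, one_mul, mul_one] at h4
      have hgW' : b * g * b ∉ wS z a := fun e => hgW (by
        have := S.wS_normal (S.hEH S.hb) e
        rwa [S.binv, show b * (b * g * b) * b = (b * b) * g * (b * b) by group, S.bb, one_mul,
          mul_one] at this)
      obtain ⟨h, hh, e⟩ := inA _ hgA hgW'
      refine ⟨b * h, mul_mem (S.hEH S.hb) hh, ?_⟩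
      simp only at e ⊢
      rw [show b * h * m * (b * h)⁻¹ = b * (h * m * h⁻¹) * b⁻¹ by group, e, S.binv,
        show b * (b * g * b) * b = (b * b) * g * (b * b) by group, S.bb, one_mul, mul_one]

theorem class_ncard : ({g | g ∈ r1 φ a ∧ g ∉ wS z a ∧ g * g = 1} : Set G).ncard = 24 := by
  have e : ({g | g ∈ r1 φ a ∧ g ∉ wS z a ∧ g * g = 1} : Set G) =
      ((aS φ a m : Set G) \ wS z a) ∪ ((aS φ a (b * m * b) : Set G) \ wS z a) := by
    ext g
    simp only [Set.mem_setOf_eq, Set.mem_union, Set.mem_sdiff, SetLike.mem_coe]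
    constructor
    · rintro ⟨h1, h2, h3⟩
      rcases S.invol_cases h1 h3 with h | h
      exacts [Or.inl ⟨h, h2⟩, Or.inr ⟨h, h2⟩]
    · rintro (⟨h, h'⟩ | ⟨h, h'⟩)
      exacts [⟨(mem_aS.1 h).1, h', S.aS_sq h⟩, ⟨(mem_aS.1 h).1, h', S.split_n.aS_sq h⟩]
  have hd : Disjoint ((aS φ a m : Set G) \ wS z a) ((aS φ a (b * m * b) : Set G) \ wS z a) := by
    rw [Set.disjoint_left]
    rintro g ⟨h1, h2⟩ ⟨h3, -⟩
    exact h2 (S.inter_eq h1 h3)
  rw [e, Set.ncard_union_eq hd, Set.ncard_sdiff S.wS_le_aS,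
    Set.ncard_sdiff S.split_n.wS_le_aS]
  rw [← Nat.card_coe_set_eq, ← Nat.card_coe_set_eq, ← Nat.card_coe_set_eq]
  change (Nat.card (aS φ a m) - Nat.card (wS z a)) +
    (Nat.card (aS φ a (b * m * b)) - Nat.card (wS z a)) = 24
  rw [S.card_aS, S.split_n.card_aS, S.card_wS]

theorem card_cz_m : Nat.card ↥(cz z ⊓ centralizer ({m} : Set G)) = 32 := by
  have h := card_conj_orbit (cz z) m
  rw [S.conj_class, S.class_ncard, S.card_cz] at h
  omega

/-- An element centralizing `a` outside the preimage of `A₄` moves `m` into `B`. -/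
theorem conj_out_k0 {u : G} (hu : u ∈ k0 z a) (hp : u ∉ par φ) :
    u * m * u⁻¹ ∈ aS φ a (b * m * b) := by
  obtain ⟨huz, -⟩ := mem_k0.1 hu
  refine (S.invol_cases (S.r1_normal huz S.hm) ?_).resolve_left fun h => S.no_norm_a hu hp h
  rw [show u * m * u⁻¹ * (u * m * u⁻¹) = u * (m * m) * u⁻¹ by group, S.mm]; simp

end Split

namespace Frame

variable {z : G} {E : Subgroup G} {φ : ↥(cz z) →* Perm (Fin 4)} {x a b : G}
  (S : Frame z E φ x a b) [Finite G]
include S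

/-- An element of `C(z)` fixing `b` outside the preimage of `A₄`. -/
theorem exists_b_out : ∃ y, y ∈ cz z ∧ y ∉ par φ ∧ y * b = b * y := by
  by_contra hn
  push Not at hn
  have hle : cz z ⊓ centralizer ({b} : Set G) ≤ par φ ⊓ centralizer ({b} : Set G) := fun y hy =>
    ⟨by_contra fun h => hn y hy.1 h (mem_centralizer_singleton_iff.1 hy.2), hy.2⟩
  have h1 := card_le_of_le hle
  have h2 := card_conj_orbit (par φ) b
  have hs : (fun k => k * b * k⁻¹) '' (par φ : Set G) = (fun k => k * b * k⁻¹) '' (r1 φ a : Set G) := by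
    refine Set.Subset.antisymm ?_ (Set.image_mono fun k hk => rad_le_par (mem_r1.1 hk).1)
    rintro _ ⟨k, hk, rfl⟩
    obtain ⟨g1, g2, g3⟩ := S.cz_b_conj_mem (par_le hk)
    exact S.exists_conj_b g1 g2 g3
  rw [hs, S.b_class.2, S.card_par] at h2
  rw [S.card_cz_b] at h1
  omega

theorem rad_centralizes_b {r : G} (hr : r ∈ rad φ) (hrb : r * b = b * r) : r ∈ E := by
  by_cases h : r ∈ r1 φ a
  · exact (mem_qE.1 (S.r1_centralizes_b h hrb)).1
  · have h1 := S.mul_b_mem_r1 hr h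
    have h2 := (mem_qE.1 (S.r1_centralizes_b h1
      ((Commute.mul_left (hrb : Commute r b) (Commute.refl b)).eq))).1
    have := mul_mem h2 S.hb
    rwa [mul_assoc, S.bb, mul_one] at this

/-- An involution outside the preimage of `A₄` centralizes an element of `E` squaring to `z`. -/
theorem outer_invol_sqrt {u : G} (hu : u ∈ cz z) (hp : u ∉ par φ) (h2 : u * u = 1) :
    ∃ g ∈ E, g * g = z ∧ g * u = u * g := by
  obtain ⟨y, hy, hyp, hyb⟩ := S.exists_b_out
  have hy2R : y * y ∈ par φ := sq_mem_par hy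
  have hyE : y * y ∈ E := by
    have hb2 : (y * y) * b = b * (y * y) := ((Commute.mul_left (hyb : Commute y b) hyb)).eq
    rcases S.par_cases S.hx S.hx3 hy2R with h | h | h
    · exact S.rad_centralizes_b h hb2
    all_goals
      exfalso
      -- a square is never congruent to a non-trivial power of `x` modulo `R`
      have hs : ∀ σ ρ : Perm (Fin 4), ρ ^ 3 = 1 → ρ ≠ 1 → Perm.sign σ ≠ 1 →
          σ * σ * ρ ∉ v4 ∧ σ * σ * ρ⁻¹ ∉ v4 := by decide +kernel
      obtain ⟨g1, g2⟩ := hs (φ ⟨y, hy⟩) (φ ⟨x, S.hx⟩) (S.phi_x_three S.hx S.hx3).1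
        (S.phi_x_three S.hx S.hx3).2 (fun e => hyp ((mem_par hy).2 e))
      rw [← map_mul, ← map_mul] at g1
      rw [← map_mul, ← map_inv, ← map_mul] at g2
      first
        | exact g1 ((mem_rad (mul_mem (mul_mem hy hy) S.hx)).1 h)
        | exact g2 ((mem_rad (mul_mem (mul_mem hy hy) (inv_mem S.hx))).1 h)
  have hy1 : φ ⟨y, hy⟩ * φ ⟨y, hy⟩ = 1 := by rw [← map_mul]; exact (S.ker _).2 hyE
  have hu1 : φ ⟨u, hu⟩ * φ ⟨u, hu⟩ = 1 := by
    rw [← map_mul, show (⟨u, hu⟩ : cz z) * ⟨u, hu⟩ = 1 from Subtype.ext h2, map_one]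
  obtain ⟨ρ, hρ⟩ := odd_invol_conj _ _ hy1 (fun e => hyp ((mem_par hy).2 e)) hu1
    (fun e => hp ((mem_par hu).2 e))
  obtain ⟨⟨h, hh⟩, rfl⟩ := S.surj ρ
  rw [← map_inv, ← map_mul, ← map_mul] at hρ
  set u' := h⁻¹ * u * h with hu'
  have hu'c : u' ∈ cz z := mul_mem (mul_mem (inv_mem hh) hu) hh
  have he : y⁻¹ * u' ∈ E := by
    have h3 : φ ((⟨y, hy⟩ : cz z)⁻¹ * (⟨h, hh⟩⁻¹ * ⟨u, hu⟩ * ⟨h, hh⟩)) = 1 := by
      rw [map_mul, map_mul, map_mul, map_inv, map_inv, ← hρ, map_mul, map_mul, map_inv]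
      group
    exact (S.ker _).1 h3
  have hu'2 : u' * u' = 1 := by
    rw [hu', show h⁻¹ * u * h * (h⁻¹ * u * h) = h⁻¹ * (u * u) * h by group, h2]; simp
  have hu'inv : u'⁻¹ = u' := inv_eq_of_mul_eq_one_right hu'2
  have hb' : u' * b * u'⁻¹ = b ∨ u' * b * u'⁻¹ = b * z := by
    have e : u' * b * u'⁻¹ = y * ((y⁻¹ * u') * b * (y⁻¹ * u')⁻¹) * y⁻¹ := by group
    have hyb' : y * b * y⁻¹ = b := conj_iff_comm.2 hyb
    rcases S.hcomm _ he b S.hb with k | k <;> rw [e, k]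
    · exact Or.inl hyb'
    · exact Or.inr (by rw [S.conj_mul_z hy, hyb'])
  have ha' := S.hW u' hu'c
  have hqn : ∀ q ∈ qE E a b, u' * q * u'⁻¹ ∈ qE E a b := by
    intro q hq
    obtain ⟨hqE, hqa, hqb⟩ := mem_qE.1 hq
    have hmem := S.hn u' hu'c q hqE
    have hcz : Commute (u' * q * u'⁻¹) z := S.zcomm_E hmem
    have key : ∀ c, q * c = c * q → (u' * c * u'⁻¹ = c ∨ u' * c * u'⁻¹ = c * z) →
        (u' * q * u'⁻¹) * c = c * (u' * q * u'⁻¹) := by
      intro c hc hc'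
      have h1 : Commute (u' * q * u'⁻¹) (u' * c * u'⁻¹) :=
        Commute.map (hc : Commute q c) (MulAut.conj u').toMonoidHom
      rcases hc' with e | e <;> rw [e] at h1
      · exact h1
      · have h3 := h1.mul_right hcz
        rw [S.zcancel] at h3
        exact h3
    exact mem_qE.2 ⟨hmem, key a hqa ha', key b hqb hb'⟩
  -- an element of `Q` fixed modulo `⟨z⟩`
  obtain ⟨c, hc, hc1, hcz, hcu⟩ : ∃ c ∈ qE E a b, c ≠ 1 ∧ c ≠ z ∧
      (u' * c * u'⁻¹ = c ∨ u' * c * u'⁻¹ = c * z) := by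
    obtain ⟨q, hq, hqs⟩ := exists_avoid (K := qE E a b) [1, z] (by rw [S.card_qE']; simp)
    simp only [List.mem_cons, List.not_mem_nil, or_false, not_or] at hqs
    set q1 := u' * q * u'⁻¹ with hq1
    by_cases hf : q1 = q ∨ q1 = q * z
    · exact ⟨q, hq, hqs.1, hqs.2, hf⟩
    simp only [not_or] at hf
    have hq1m := hqn q hq
    have hqinv : q⁻¹ = q * z := by
      refine inv_eq_of_mul_eq_one_right ?_
      rw [← mul_assoc, S.sq_qE hq hqs.1 hqs.2, S.zz]
    refine ⟨q * q1, mul_mem hq hq1m, fun e => hf.2 ?_, fun e => hf.1 ?_, ?_⟩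
    · rw [← hqinv]; exact eq_inv_of_mul_eq_one_right e
    · calc q1 = q⁻¹ * (q * q1) := by group
        _ = q := by rw [e, hqinv, S.zcancel]
    · have e1 : u' * (q * q1) * u'⁻¹ = q1 * q := by
        rw [show u' * (q * q1) * u'⁻¹ = u' * q * u'⁻¹ * (u' * q1 * u'⁻¹) by group, ← hq1, hq1,
          show u' * (u' * q * u'⁻¹) * u'⁻¹ = (u' * u') * q * (u' * u')⁻¹ by group, hu'2]
        simp
      rw [e1]
      rcases S.comm_cases (mem_qE.1 hq).1 (mem_qE.1 hq1m).1 with k | k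
      · exact Or.inl k.symm
      · exact Or.inr (S.anti_symm k)
  have hcsq := S.sq_qE hc hc1 hcz
  obtain ⟨hcE, hca, hcb⟩ := mem_qE.1 hc
  have hfix : ∀ e f, u' * e * u'⁻¹ = e * z → u' * f * u'⁻¹ = f * z → f ∈ E →
      u' * (e * f) * u'⁻¹ = e * f := by
    intro e f h3 h4 hf
    rw [show u' * (e * f) * u'⁻¹ = u' * e * u'⁻¹ * (u' * f * u'⁻¹) by group, h3, h4,
      show e * z * (f * z) = e * (z * f) * z by group, ← S.zcomm_E hf,
      show e * (f * z) * z = e * f * z * z by group, S.zcancel]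
  obtain ⟨g, hg, hgg, hgu⟩ : ∃ g ∈ E, g * g = z ∧ u' * g * u'⁻¹ = g := by
    rcases hcu with k | k
    · exact ⟨c, hcE, hcsq, k⟩
    rcases ha' with ka | ka
    swap
    · exact ⟨a * c, mul_mem S.ha hcE,
        by rw [S.sq_mul_of_comm hca.symm, S.aa, hcsq, one_mul], hfix a c ka k hcE⟩
    rcases hb' with kb | kb
    swap
    · exact ⟨b * c, mul_mem S.hb hcE,
        by rw [S.sq_mul_of_comm hcb.symm, S.bb, hcsq, one_mul], hfix b c kb k hcE⟩
    refine ⟨a * b, mul_mem S.ha S.hb, S.ab_sq, ?_⟩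
    rw [show u' * (a * b) * u'⁻¹ = u' * a * u'⁻¹ * (u' * b * u'⁻¹) by group, ka, kb]
  refine ⟨h * g * h⁻¹, S.hn h hh g hg, ?_, ?_⟩
  · rw [show h * g * h⁻¹ * (h * g * h⁻¹) = h * (g * g) * h⁻¹ by group, hgg, S.conj_z hh]
  · refine (conj_iff_comm.1 ?_).symm
    calc u * (h * g * h⁻¹) * u⁻¹ = h * (u' * g * u'⁻¹) * h⁻¹ := by rw [hu']; group
      _ = h * g * h⁻¹ := by rw [hgu]

theorem exists_norm_x : ∃ h ∈ cz z, h ∉ par φ ∧ h * x * h⁻¹ = x⁻¹ := by
  haveI : Fact (Nat.Prime 3) := ⟨Nat.prime_three⟩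
  have hsurj := S.surj (Equiv.swap 0 1)
  obtain ⟨⟨h0, hh0⟩, he0⟩ := hsurj
  have h0p : h0 ∉ par φ := by
    rw [mem_par hh0, he0, Perm.sign_swap (by decide)]
    decide
  have hxp := S.x_mem_par S.hx S.hx3
  set x0 := h0 * x * h0⁻¹ with hx0
  have hx0p : x0 ∈ par φ := par_normal hh0 hxp
  have hfac : (384 : ℕ).factorization 3 = 1 := by
    rw [show 384 = 3 * 128 from rfl, Nat.factorization_mul (by norm_num) (by norm_num)]
    rw [Finsupp.add_apply, Nat.Prime.factorization Nat.prime_three,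
      Nat.factorization_eq_zero_of_not_dvd (n := 128) (p := 3) (by norm_num)]
    simp
  have hord : ∀ g : par φ, orderOf g = 3 → ∃ P : Sylow 3 (par φ), (P : Subgroup (par φ)) = zpowers g := by
    intro g hg
    refine ⟨Sylow.ofCard (zpowers g) ?_, rfl⟩
    rw [Nat.card_zpowers, hg, S.card_par, hfac, pow_one]
  obtain ⟨P, hP⟩ := hord ⟨x, hxp⟩ (by rw [← Subgroup.orderOf_coe]; exact S.hx3)
  obtain ⟨Q, hQ⟩ := hord ⟨x0, hx0p⟩ (by
    rw [← Subgroup.orderOf_coe]
    show orderOf (MulAut.conj h0 x) = 3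
    rw [MulEquiv.orderOf_eq, S.hx3])
  obtain ⟨k, hk⟩ := MulAction.exists_smul_eq (par φ) Q P
  have hmem : k * ⟨x0, hx0p⟩ * k⁻¹ ∈ zpowers (⟨x, hxp⟩ : par φ) := by
    rw [← hP, ← hk, Sylow.smul_def, Sylow.pointwise_smul_def]
    exact ⟨⟨x0, hx0p⟩, by rw [SetLike.mem_coe, hQ]; exact mem_zpowers _, rfl⟩
  obtain ⟨i, hi⟩ := mem_zpowers_iff.1 hmem
  have hi' : x ^ i = (k : G) * x0 * (k : G)⁻¹ := congrArg Subtype.val hi
  set h := (k : G) * h0 with hh
  have hhc : h ∈ cz z := mul_mem (par_le k.2) hh0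
  have hhp : h ∉ par φ := fun e => h0p (((par φ).mul_mem_cancel_left k.2).1 e)
  have hval : h * x * h⁻¹ = x ^ i := by rw [hi', hx0, hh]; group
  refine ⟨h, hhc, hhp, ?_⟩
  have h3 : (x : G) ^ (3 : ℤ) = 1 := by exact_mod_cast S.x_cube S.hx S.hx3
  have hcases : x ^ i = 1 ∨ x ^ i = x ∨ x ^ i = x⁻¹ := by
    obtain ⟨q, r, hr, hqr⟩ : ∃ q r : ℤ, (r = 0 ∨ r = 1 ∨ r = 2) ∧ i = 3 * q + r :=
      ⟨i / 3, i % 3, by omega, by omega⟩
    rw [hqr, zpow_add, zpow_mul, h3, one_zpow, one_mul]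
    rcases hr with rfl | rfl | rfl
    · exact Or.inl (zpow_zero x)
    · exact Or.inr (Or.inl (zpow_one x))
    · refine Or.inr (Or.inr (eq_inv_of_mul_eq_one_left ?_))
      rw [← h3, show (3 : ℤ) = 2 + 1 from rfl, zpow_add, zpow_one]
  rcases hcases with e | e | e
  · rw [e, conj_eq_one_iff] at hval
    exact absurd (hval ▸ S.hx3 : orderOf (1 : G) = 3) (by simp)
  · exfalso
    rw [e] at hval
    have h4 := S.inverts_x S.hx S.hx3 hhc hhp
    rw [hval] at h4
    refine S.x_notMem_rad S.hx S.hx3 ?_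
    have h5 := mul_mem h4 h4
    have e5 : x * x * (x * x) = x := by
      rw [show x * x * (x * x) = x ^ 3 * x by rw [pow_succ, sq]; group, S.x_cube S.hx S.hx3, one_mul]
    rwa [e5] at h5
  · exact hval.trans e

end Frame

/-- An element of `C(z)` inverting `x` and centralizing `a` and `b`. -/
structure OutFrame (z : G) (E : Subgroup G) (φ : ↥(cz z) →* Perm (Fin 4)) (x a b t : G) : Prop
    extends Frame z E φ x a b where
  ht : t ∈ cz z
  htp : t ∉ par φ
  tx : t * x * t⁻¹ = x⁻¹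
  ta : t * a = a * t
  tb : t * b = b * t
  tt : t * t = 1 ∨ t * t = z

namespace Frame

variable {z : G} {E : Subgroup G} {φ : ↥(cz z) →* Perm (Fin 4)} {x a b : G}
  (S : Frame z E φ x a b) [Finite G]
include S

theorem exists_outFrame : ∃ t, OutFrame z E φ x a b t := by
  obtain ⟨h, hh, hp, hx⟩ := S.exists_norm_x
  have hbd : h * b * h⁻¹ = b ∨ h * b * h⁻¹ = b * z := by
    obtain ⟨h1, h2, h3⟩ := S.cz_b_conj_mem hh
    have hd : h * b * h⁻¹ ∈ dE E x := by
      refine mem_dE.2 ⟨S.hn h hh b S.hb, ?_⟩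
      have h4 : Commute (h * b * h⁻¹) (h * x * h⁻¹) :=
        Commute.map (S.bx : Commute b x) (MulAut.conj h).toMonoidHom
      rw [hx] at h4
      have := h4.inv_right
      rwa [inv_inv] at this
    obtain ⟨-, -, hb1, hbz, -, -⟩ := S.ab_ne
    rcases S.invol_dE hd h3 (fun e => hb1 (conj_eq_one_iff.1 e)) (fun e => hbz (by
      calc b = h⁻¹ * (h * b * h⁻¹) * h := by group
        _ = z := by rw [e, mul_assoc, ← S.zcomm hh, ← mul_assoc, inv_mul_cancel, one_mul]))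
      with e | e | e | e
    · exact absurd (e ▸ S.e1_le_r1 S.aE1) h2
    · exact absurd (e ▸ S.e1_le_r1 (mul_mem S.aE1 S.zE1)) h2
    · exact Or.inl e
    · exact Or.inr e
  -- correct by `b`, then by `a`
  obtain ⟨c1, hc1, hc1a, hc1b⟩ : ∃ c, (c = 1 ∨ c = b) ∧ (h * c) * a * (h * c)⁻¹ = a ∧
      ((h * c) * b * (h * c)⁻¹ = b ∨ (h * c) * b * (h * c)⁻¹ = b * z) := by
    rcases S.hW h hh with e | e
    · exact ⟨1, Or.inl rfl, by rw [mul_one]; exact e, by rw [mul_one]; exact hbd⟩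
    · refine ⟨b, Or.inr rfl, ?_, ?_⟩
      · rw [show h * b * a * (h * b)⁻¹ = h * (b * a * b⁻¹) * h⁻¹ by group, S.b_conj_a,
          S.conj_mul_z hh, e, S.zcancel]
      · rw [show h * b * b * (h * b)⁻¹ = h * b * h⁻¹ by group]
        exact hbd
  have hc1d : c1 ∈ dE E x := by rcases hc1 with rfl | rfl; exacts [one_mem _, S.bd]
  have hh1 : h * c1 ∈ cz z := mul_mem hh (S.hEH (mem_dE.1 hc1d).1)
  obtain ⟨c2, hc2, hc2b⟩ : ∃ c, (c = 1 ∨ c = a) ∧ (h * c1 * c) * b * (h * c1 * c)⁻¹ = b := by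
    rcases hc1b with e | e
    · exact ⟨1, Or.inl rfl, by rw [mul_one]; exact e⟩
    · refine ⟨a, Or.inr rfl, ?_⟩
      rw [show h * c1 * a * b * (h * c1 * a)⁻¹ = h * c1 * (a * b * a⁻¹) * (h * c1)⁻¹ by group,
        S.anti_conj S.ha (S.anti_symm S.ab), S.conj_mul_z hh1, e, S.zcancel]
  have hc2d : c2 ∈ dE E x := by rcases hc2 with rfl | rfl; exacts [one_mem _, S.ad]
  set t := h * c1 * c2 with ht
  have htc : t ∈ cz z := mul_mem hh1 (S.hEH (mem_dE.1 hc2d).1)
  have hcp : c1 * c2 ∈ par φ := rad_le_par (S.E_le_rad (mul_mem (mem_dE.1 hc1d).1 (mem_dE.1 hc2d).1))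
  have htp : t ∉ par φ := fun e => hp (by
    rw [ht, mul_assoc] at e
    exact ((par φ).mul_mem_cancel_right hcp).1 e)
  have hcx : (c1 * c2) * x = x * (c1 * c2) :=
    S.comm_mul (mem_dE.1 hc1d).2 (mem_dE.1 hc2d).2
  have htx : t * x * t⁻¹ = x⁻¹ := by
    rw [show t * x * t⁻¹ = h * ((c1 * c2) * x * (c1 * c2)⁻¹) * h⁻¹ by rw [ht]; group,
      conj_iff_comm.2 hcx, hx]
  have hta : t * a = a * t := by
    refine conj_iff_comm.1 ?_
    rw [show t * a * t⁻¹ = h * c1 * (c2 * a * c2⁻¹) * (h * c1)⁻¹ by rw [ht]; group,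
      show c2 * a * c2⁻¹ = a by rcases hc2 with rfl | rfl <;> simp, hc1a]
  have htb : t * b = b * t := conj_iff_comm.1 hc2b
  refine ⟨t, ⟨S, htc, htp, htx, hta, htb, ?_⟩⟩
  have hsp := sq_mem_par (φ := φ) htc
  have hsx : Commute (t * t) x := by
    refine conj_iff_comm.1 ?_
    calc t * t * x * (t * t)⁻¹ = t * (t * x * t⁻¹) * t⁻¹ := by group
      _ = t * x⁻¹ * t⁻¹ := by rw [htx]
      _ = (t * x * t⁻¹)⁻¹ := by group
      _ = x := by rw [htx, inv_inv]
  have hsa : Commute (t * t) a := Commute.mul_left hta hta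
  have hsb : Commute (t * t) b := Commute.mul_left htb htb
  have hxa : Commute x a := S.ax.symm
  have hxb : Commute x b := S.bx.symm
  have hkey : ∀ k ∈ rad φ, Commute k x → Commute k a → Commute k b → k = 1 ∨ k = z := by
    intro k hk h1 h2 h3
    have hkE := S.rad_x_fpf S.hx S.hx3 hk (by
      rw [conj_iff_comm.2 h1.symm.eq, mul_inv_cancel]; exact one_mem _)
    exact S.dE_center S.hx S.hx3 S.ad S.bd S.ab (mem_dE.2 ⟨hkE, h1⟩) h2 h3
  have hbad : ∀ c, Commute c x → Commute c a → Commute c b → t * c * t⁻¹ = c⁻¹ → c * c ≠ 1 →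
      t * t * c ∈ rad φ → False := by
    intro c h1 h2 h3 hcinv hc2ne hmem
    have hw := hkey _ hmem (hsx.mul_left h1) (hsa.mul_left h2) (hsb.mul_left h3)
    refine hc2ne ?_
    have e0 : t * (t * t * c) * t⁻¹ = t * t * c := by
      rcases hw with e | e <;> rw [e]
      · simp
      · exact S.conj_z htc
    rw [show t * (t * t * c) * t⁻¹ = t * t * (t * c * t⁻¹) by group, hcinv] at e0
    exact mul_eq_one_iff_eq_inv.2 (mul_left_cancel e0).symm
  have hx2 : ∀ c : G, (c = x ∨ c = x⁻¹) → c * c ≠ 1 := by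
    intro c hc e
    have : x * x = 1 := by
      rcases hc with rfl | rfl
      · exact e
      · rwa [← mul_inv_rev, inv_eq_one] at e
    have h3 := S.x_cube S.hx S.hx3
    rw [pow_succ, sq, this, one_mul] at h3
    exact absurd (h3 ▸ S.hx3 : orderOf (1 : G) = 3) (by simp)
  rcases S.par_cases S.hx S.hx3 hsp with h1 | h1 | h1
  · exact hkey _ h1 hsx hsa hsb
  · exact (hbad x (Commute.refl x) hxa hxb htx (hx2 x (Or.inl rfl)) h1).elim
  · refine (hbad x⁻¹ (Commute.refl x).inv_left hxa.inv_left hxb.inv_left ?_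
      (hx2 _ (Or.inr rfl)) h1).elim
    rw [show t * x⁻¹ * t⁻¹ = (t * x * t⁻¹)⁻¹ by group, htx]

end Frame

namespace OutFrame

variable {z : G} {E : Subgroup G} {φ : ↥(cz z) →* Perm (Fin 4)} {x a b t : G}
  (S : OutFrame z E φ x a b t)
include S

theorem t_mem_k0 : t ∈ k0 z a := mem_k0.2 ⟨S.ht, S.ta⟩

theorem t_conj_qE {q : G} (hq : q ∈ qE E a b) : t * q * t⁻¹ ∈ qE E a b := by
  obtain ⟨hqE, hqa, hqb⟩ := mem_qE.1 hq
  have h1 : Commute (t * q * t⁻¹) (t * a * t⁻¹) := Commute.map (hqa : Commute q a) (MulAut.conj t).toMonoidHom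
  have h2 : Commute (t * q * t⁻¹) (t * b * t⁻¹) := Commute.map (hqb : Commute q b) (MulAut.conj t).toMonoidHom
  rw [conj_iff_comm.2 S.ta] at h1
  rw [conj_iff_comm.2 S.tb] at h2
  exact mem_qE.2 ⟨S.hn t S.ht q hqE, h1, h2⟩

theorem t_conj_x_conj {g : G} : t * (x * g * x⁻¹) * t⁻¹ = x⁻¹ * (t * g * t⁻¹) * x := by
  rw [show t * (x * g * x⁻¹) * t⁻¹ = (t * x * t⁻¹) * (t * g * t⁻¹) * (t * x * t⁻¹)⁻¹ by group,
    S.tx, inv_inv]

theorem t_conj_x_inv_conj {g : G} : t * (x⁻¹ * g * x) * t⁻¹ = x * (t * g * t⁻¹) * x⁻¹ := by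
  rw [show t * (x⁻¹ * g * x) * t⁻¹ = (t * x * t⁻¹)⁻¹ * (t * g * t⁻¹) * (t * x * t⁻¹) by group,
    S.tx, inv_inv]

variable [Finite G]

theorem centralizes_qE {q : G} (hq : q ∈ qE E a b) (h : t * q * t⁻¹ = q) : q = 1 ∨ q = z := by
  by_contra hn
  simp only [not_or] at hn
  set q' := x * q * x⁻¹ with hq'
  set q'' := x⁻¹ * q * x with hq''
  have hq'm : q' ∈ qE E a b := S.qE_conj S.hx S.ax S.bx hq
  have e1 : t * q' * t⁻¹ = q'' := by rw [hq', S.t_conj_x_conj, h, hq'']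
  have e2 : t * q'' * t⁻¹ = q' := by rw [hq'', S.t_conj_x_inv_conj, h, hq']
  have e3 : x * x * x = 1 := by rw [← S.x_cube S.hx S.hx3, pow_succ, sq]
  have hqq : x * q' * x⁻¹ = q'' := by
    rw [hq', show x * (x * q * x⁻¹) * x⁻¹ = x⁻¹ * ((x * x * x) * q * (x * x * x)⁻¹) * x by group, e3,
      hq'']; group
  have hq''m : q'' ∈ qE E a b := hqq ▸ S.qE_conj S.hx S.ax S.bx hq'm
  have hprod := mul_mem (mul_mem hq hq'm) hq''m
  have hk := S.qE_inter S.hx S.hx3 S.ad S.bd S.ab hprod (S.trip_fixed S.hx S.hx3 (mem_qE.1 hq).1)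
  have hfix : t * (q * q' * q'') * t⁻¹ = q * q' * q'' := by
    rcases hk with e | e <;> rw [e]
    · simp
    · exact S.conj_z S.ht
  rw [show t * (q * q' * q'') * t⁻¹ = (t * q * t⁻¹) * (t * q' * t⁻¹) * (t * q'' * t⁻¹) by group, h, e1,
    e2, mul_assoc q q'' q', mul_assoc q q' q''] at hfix
  have hc := mul_left_cancel hfix
  have hq'1 : q' ≠ 1 := fun e => hn.1 (conj_eq_one_iff.1 e)
  have hq'z : q' ≠ z := fun e => hn.2 (by
    calc q = x⁻¹ * q' * x := by rw [hq']; group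
      _ = z := by rw [e, mul_assoc, ← S.zcomm S.hx, ← mul_assoc, inv_mul_cancel, one_mul])
  have h4 := S.anti_qE hq'm hq'1 hq'z
  rw [hqq, hc] at h4
  exact S.zne (mul_left_cancel (h4.symm.trans (mul_one _).symm))

theorem r1_centralizes_t {r : G} (hr : r ∈ r1 φ a) (h : t * r * t⁻¹ = r) : r ∈ wS z a := by
  have hc : t * cm b r * t⁻¹ = cm b r := by rw [cm_conj_map, conj_iff_comm.2 S.tb, h]
  have key : ∀ g ∈ e1 E a, t * g * t⁻¹ = g → g ∈ wS z a := by
    intro g hg hgt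
    obtain ⟨w, hw, q, hq, rfl⟩ := S.e1_decomp hg
    rw [show t * (w * q) * t⁻¹ = (t * w * t⁻¹) * (t * q * t⁻¹) by group,
      S.wS_conj S.t_mem_k0 hw] at hgt
    refine mul_mem hw ?_
    rcases S.centralizes_qE hq (mul_left_cancel hgt) with e | e <;> rw [e]
    exacts [one_mem _, S.z_mem_wS]
  have h1 := S.cm_b_fixed hr (key _ (S.cm_b_mem hr) hc)
  exact key r h1 h

theorem rad_centralizes_t {r : G} (hr : r ∈ rad φ) (h : r * t = t * r) : r ∈ dE E x := by
  have hw : ∀ w ∈ wS z a, w ∈ dE E x := fun w hw => by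
    rcases S.mem_wS.1 hw with rfl | rfl | rfl | rfl
    exacts [one_mem _, S.zd, S.ad, mul_mem S.ad S.zd]
  by_cases hr1 : r ∈ r1 φ a
  · exact hw r (S.r1_centralizes_t hr1 (conj_iff_comm.2 h.symm))
  · have h1 := S.mul_b_mem_r1 hr hr1
    have h2 : Commute (r * b) t := Commute.mul_left h (S.tb : Commute t b).symm
    have h3 := mul_mem (hw _ (S.r1_centralizes_t h1 (conj_iff_comm.2 h2.symm.eq))) S.bd
    rwa [mul_assoc, S.bb, mul_one] at h3

theorem phi_t_sq : φ ⟨t, S.ht⟩ * φ ⟨t, S.ht⟩ = 1 := by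
  rw [← map_mul]
  refine (S.ker _).2 ?_
  show t * t ∈ E
  rcases S.tt with e | e <;> rw [e]
  exacts [one_mem _, S.hzE]

/-- The centralizer of `t` in `C(z)` is `⟨t⟩ D`. -/
theorem cz_centralizes_t {h : G} (hh : h ∈ cz z) (hc : h * t = t * h) :
    h ∈ dE E x ∨ h * t ∈ dE E x := by
  have key : ∀ k, k ∈ par φ → k * t = t * k → k ∈ dE E x := by
    intro k hk hkt
    refine S.rad_centralizes_t ((mem_rad (par_le hk)).2 ⟨?_, (mem_par (par_le hk)).1 hk⟩) hkt
    refine even_comm_odd _ _ S.phi_t_sq (fun e => S.htp ((mem_par S.ht).2 e))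
      ((mem_par (par_le hk)).1 hk) ?_
    rw [← map_mul, ← map_mul]
    exact congrArg φ (Subtype.ext hkt)
  by_cases hp : h ∈ par φ
  · exact Or.inl (key h hp hc)
  · exact Or.inr (key _ (mul_mem_par_of_notMem hh S.ht hp S.htp)
      ((Commute.mul_left (hc : Commute h t) (Commute.refl t)).eq))

end OutFrame

end CfsgLib.AutL34
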