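import Mathlib.GroupTheory.Sylow
import Mathlib.GroupTheory.Nilpotent
import Cfsg.Agent.Lib.Invol.TwoClasses
import Cfsg.Agent.Lib.Fusion.Tate

/-!
# Sylow criterion, an index-two transfer with a prescribed member, and class pairs
-/

set_option autoImplicit false

open Subgroup

namespace CfsgLib.AutL34

variable {G : Type*} [Group G]

/-- The union of a subgroup and its coset by a normalizing involution. -/
def ext2 (H : Subgroup G) (t : G) (h2 : t * t = 1) (hn : ∀ h ∈ H, t * h * t ∈ H) : Subgroup G where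
  carrier := {g | g ∈ H ∨ g * t ∈ H}
  one_mem' := Or.inl (one_mem H)
  mul_mem' := by
    intro g k hg hk
    rcases hg with hg | hg <;> rcases hk with hk | hk
    · exact Or.inl (mul_mem hg hk)
    · exact Or.inr (by rw [mul_assoc]; exact mul_mem hg hk)
    · exact Or.inr (by
        have := mul_mem hg (hn k hk)
        rwa [show g * t * (t * k * t) = g * (t * t) * k * t by group, h2, mul_one] at this)
    · exact Or.inl (by
        have := mul_mem hg (hn _ hk)
        rwa [show g * t * (t * (k * t) * t) = g * (t * t) * k * (t * t) by group, h2, mul_one,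
          mul_one] at this)
  inv_mem' := by
    intro g hg
    rcases hg with hg | hg
    · exact Or.inl (inv_mem hg)
    · exact Or.inr (by
        have := hn _ (inv_mem hg)
        rwa [show t * (g * t)⁻¹ * t = t * t⁻¹ * g⁻¹ * t by group, mul_inv_cancel, one_mul] at this)

theorem mem_ext2 {H : Subgroup G} {t : G} {h2 : t * t = 1} {hn : ∀ h ∈ H, t * h * t ∈ H} {g : G} :
    g ∈ ext2 H t h2 hn ↔ g ∈ H ∨ g * t ∈ H := Iff.rfl

variable [Finite G]

theorem card_ext2 {H : Subgroup G} {t : G} {h2 : t * t = 1} {hn : ∀ h ∈ H, t * h * t ∈ H}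
    (ht : t ∉ H) : Nat.card (ext2 H t h2 hn) = 2 * Nat.card H := by
  classical
  rw [mul_comm, ← Fintype.card_bool, ← Nat.card_eq_fintype_card, ← Nat.card_prod]
  refine (Nat.card_eq_of_bijective
    (fun p : H × Bool => (⟨if p.2 then (p.1 : G) * t else p.1, by
      cases p.2
      · exact Or.inl p.1.2
      · exact Or.inr (by simp [mul_assoc, h2])⟩ : ext2 H t h2 hn)) ⟨?_, ?_⟩).symm
  · rintro ⟨⟨h, hh⟩, e⟩ ⟨⟨k, hk⟩, f⟩ he
    have he' := congrArg Subtype.val he
    cases e <;> cases f <;> simp only [Bool.false_eq_true, if_false, if_true] at he'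
    · exact Prod.ext (Subtype.ext he') rfl
    · exact absurd ((H.mul_mem_cancel_left hk).1 (he' ▸ hh)) ht
    · exact absurd ((H.mul_mem_cancel_left hh).1 (he'.symm ▸ hk)) ht
    · exact Prod.ext (Subtype.ext (mul_right_cancel he')) rfl
  · rintro ⟨g, hg | hg⟩
    · exact ⟨(⟨g, hg⟩, false), Subtype.ext (by simp)⟩
    · exact ⟨(⟨g * t, hg⟩, true), Subtype.ext (by simp [mul_assoc, h2])⟩

/-- A `p`-subgroup that no further `p`-element of `K` normalizes is a Sylow subgroup of `K`. -/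
theorem sylow_criterion {p : ℕ} [hp : Fact p.Prime] {K T : Subgroup G} (hTK : T ≤ K) (hT : IsPGroup p T)
    (h : ∀ g ∈ K, (∃ k : ℕ, g ^ p ^ k = 1) → (∀ t ∈ T, g * t * g⁻¹ ∈ T) → g ∈ T) :
    (∃ o, ¬ p ∣ o ∧ Nat.card K = Nat.card T * o) ∧
      (∀ S : Subgroup G, S ≤ K → IsPGroup p S → ∃ k ∈ K, ∀ s ∈ S, k * s * k⁻¹ ∈ T) := by
  obtain ⟨P, hP⟩ := (hT.comap_of_injective K.subtype Subtype.coe_injective).exists_le_sylow
  set Pm := (P : Subgroup K).map K.subtype with hPm
  have hTP : T ≤ Pm := fun t ht => ⟨⟨t, hTK ht⟩, hP ht, rfl⟩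
  have hPmp : IsPGroup p Pm := P.2.map K.subtype
  have hEq : T = Pm := by
    by_contra hne
    haveI : Group.IsNilpotent Pm := hPmp.isNilpotent
    have hlt : T.subgroupOf Pm < ⊤ := by
      refine lt_top_iff_ne_top.2 fun e => hne (le_antisymm hTP ?_)
      exact Subgroup.subgroupOf_eq_top.1 e
    obtain ⟨g, hgN, hgT⟩ := SetLike.exists_of_lt (Group.normalizerCondition_of_isNilpotent _ hlt)
    refine hgT (h (g : G) (map_subtype_le _ g.2) ?_ ?_)
    · obtain ⟨k, hk⟩ := hPmp g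
      exact ⟨k, by simpa using congrArg Subtype.val hk⟩
    · intro t ht
      have := (Subgroup.mem_normalizer_iff.1 hgN ⟨t, hTP ht⟩).1 ht
      exact this
  refine ⟨⟨(P : Subgroup K).index, fun hdvd => P.not_dvd_index hdvd, ?_⟩, fun S hSK hS => ?_⟩
  · rw [hEq, hPm, card_map_of_injective K.subtype_injective, (P : Subgroup K).card_mul_index]
  · obtain ⟨Q, hQ⟩ := (hS.comap_of_injective K.subtype Subtype.coe_injective).exists_le_sylow
    obtain ⟨k, hk⟩ := MulAction.exists_smul_eq K Q P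
    refine ⟨k, k.2, fun s hs => ?_⟩
    rw [hEq]
    refine ⟨k * ⟨s, hSK hs⟩ * k⁻¹, ?_, rfl⟩
    show k * ⟨s, hSK hs⟩ * k⁻¹ ∈ (P : Subgroup K)
    rw [← hk, Sylow.smul_def, Sylow.pointwise_smul_def]
    exact ⟨⟨s, hSK hs⟩, hQ hs, rfl⟩

/-- The permutation transfer: the sign of `v` on the cosets of `Q` from its conjugates in `Q`. -/
theorem index_two_transfer (P : Sylow 2 G) {Q : Subgroup G} (hQP : Q ≤ (P : Subgroup G))
    (hQi : Q.relIndex (P : Subgroup G) = 2) {u : G} (hu : u * u = 1)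
    (hno : ∀ g : G, g * u * g⁻¹ ∉ Q) {v : G} (hv : v * v = 1) {o : ℕ} (ho : Odd o)
    (hfix : {w : G | w ∈ Q ∧ IsConj v w}.ncard * Nat.card (centralizer ({v} : Set G)) =
      2 * o * Nat.card Q) :
    ∃ M : Subgroup G, M.Normal ∧ M.index = 2 ∧ u ∉ M ∧ v ∈ M := by
  classical
  letI : Fintype (G ⧸ Q) := Fintype.ofFinite _
  let f : G →* ℤˣ := (Equiv.Perm.sign).comp (MulAction.toPermHom G (G ⧸ Q))
  have hodd : Odd (P : Subgroup G).index :=
    Nat.not_even_iff_odd.1 fun he => P.not_dvd_index he.two_dvd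
  have hcard : Fintype.card (G ⧸ Q) = 2 * (P : Subgroup G).index := by
    rw [← Nat.card_eq_fintype_card, ← Subgroup.index_eq_card,
      ← Subgroup.relIndex_mul_index hQP, hQi]
  have hfu : f u = -1 := by
    show Equiv.Perm.sign (MulAction.toPermHom G (G ⧸ Q) u) = -1
    have hsq : (MulAction.toPermHom G (G ⧸ Q) u) ^ 2 = 1 := by rw [← map_pow, sq, hu, map_one]
    rw [Equiv.Perm.sign_of_pow_two_eq_one hsq]
    have hz : Fintype.card (Function.fixedPoints (MulAction.toPermHom G (G ⧸ Q) u)) = 0 := by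
      rw [Fintype.card_eq_zero_iff]
      refine ⟨fun ⟨q, hq⟩ => ?_⟩
      obtain ⟨g, rfl⟩ := QuotientGroup.mk_surjective q
      have h1 : ((u * g : G) : G ⧸ Q) = (g : G ⧸ Q) := hq
      have h2 := QuotientGroup.eq.1 h1.symm
      refine hno g⁻¹ ?_
      rwa [inv_inv, mul_assoc]
    rw [hz, hcard, Nat.sub_zero, Nat.mul_div_cancel_left _ two_pos]
    exact hodd.neg_one_pow
  have hfv : f v = 1 := by
    show Equiv.Perm.sign (MulAction.toPermHom G (G ⧸ Q) v) = 1
    have hsq : (MulAction.toPermHom G (G ⧸ Q) v) ^ 2 = 1 := by rw [← map_pow, sq, hv, map_one]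
    rw [Equiv.Perm.sign_of_pow_two_eq_one hsq]
    set F := Function.fixedPoints (MulAction.toPermHom G (G ⧸ Q) v) with hF
    have hmem : ∀ g : G, (g : G ⧸ Q) ∈ F ↔ g⁻¹ * v * g ∈ Q := fun g => by
      show ((v * g : G) : G ⧸ Q) = (g : G ⧸ Q) ↔ _
      rw [eq_comm, QuotientGroup.eq, mul_assoc]
    set Sset := {w : G | w ∈ Q ∧ IsConj v w}
    have e1 : Nat.card (QuotientGroup.mk ⁻¹' F : Set G) = Nat.card Q * Nat.card F := by
      rw [Nat.card_congr (QuotientGroup.preimageMkEquivSubgroupProdSet Q F), Nat.card_prod]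
    have e2 : Nat.card (QuotientGroup.mk ⁻¹' F : Set G) =
        Nat.card (centralizer ({v} : Set G)) * Nat.card Sset := by
      let e : (QuotientGroup.mk ⁻¹' F : Set G) ≃ Σ w : Sset, {g : G // g⁻¹ * v * g = w} :=
        { toFun := fun g => ⟨⟨(g : G)⁻¹ * v * g, (hmem g).1 g.2,
              isConj_iff.2 ⟨(g : G)⁻¹, by rw [inv_inv]⟩⟩, ⟨g, rfl⟩⟩
          invFun := fun p => ⟨p.2.1, (hmem _).2 (show p.2.1⁻¹ * v * p.2.1 ∈ Q by rw [p.2.2]; exact p.1.2.1)⟩
          left_inv := fun g => rfl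
          right_inv := by
            rintro ⟨⟨w, hw⟩, ⟨g, hg⟩⟩
            obtain rfl : g⁻¹ * v * g = w := hg
            rfl }
      rw [Nat.card_congr e]
      have hfib : ∀ w : Sset, Nat.card {g : G // g⁻¹ * v * g = w} =
          Nat.card (centralizer ({v} : Set G)) := by
        rintro ⟨w, hwQ, hw⟩
        obtain ⟨g₀, hg₀⟩ := isConj_iff.1 hw
        refine Nat.card_congr
          ⟨fun g => ⟨g.1 * g₀, mem_centralizer_singleton_iff.2 ?_⟩,
            fun c => ⟨c.1 * g₀⁻¹, ?_⟩, fun g => ?_, fun c => ?_⟩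
        · have hg : g.1⁻¹ * v * g.1 = g₀ * v * g₀⁻¹ := g.2.trans hg₀.symm
          calc g.1 * g₀ * v = g.1 * (g₀ * v * g₀⁻¹) * g₀ := by group
            _ = g.1 * (g.1⁻¹ * v * g.1) * g₀ := by rw [hg]
            _ = v * (g.1 * g₀) := by group
        · show (c.1 * g₀⁻¹)⁻¹ * v * (c.1 * g₀⁻¹) = w
          rw [← hg₀, show (c.1 * g₀⁻¹)⁻¹ * v * (c.1 * g₀⁻¹) = g₀ * (c.1⁻¹ * (v * c.1)) * g₀⁻¹ by group,
            ← mem_centralizer_singleton_iff.1 c.2, inv_mul_cancel_left]
        · exact Subtype.ext (mul_inv_cancel_right _ _)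
        · exact Subtype.ext (inv_mul_cancel_right _ _)
      haveI : Fintype Sset := Fintype.ofFinite _
      rw [Nat.card_sigma, Finset.sum_congr rfl (fun w _ => hfib w), Finset.sum_const, smul_eq_mul,
        Finset.card_univ, ← Nat.card_eq_fintype_card, mul_comm]
    have hS : Nat.card Sset = Sset.ncard := Nat.card_coe_set_eq _
    have hFo : Fintype.card F = 2 * o := by
      rw [← Nat.card_eq_fintype_card]
      refine Nat.eq_of_mul_eq_mul_left (Nat.card_pos (α := Q)) ?_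
      rw [← e1, e2, hS, mul_comm, hfix, mul_comm]
    rw [hFo, hcard, ← Nat.mul_sub, Nat.mul_div_cancel_left _ two_pos]
    have hle : o ≤ (P : Subgroup G).index := by
      have := Fintype.card_subtype_le (fun q => q ∈ F)
      simp only [Fintype.card_eq_nat_card, Set.coe_eq_subtype] at this hFo hcard
      omega
    exact (Nat.Odd.sub_odd hodd ho).neg_one_pow
  refine ⟨f.ker, inferInstance, ?_, fun h => ?_, hfv⟩
  · have hr : Function.Surjective f := fun z => by
      rcases Int.units_eq_one_or z with rfl | rfl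
      · exact ⟨1, map_one f⟩
      · exact ⟨u, hfu⟩
    rw [Subgroup.index_ker, MonoidHom.range_eq_top.2 hr, Subgroup.card_top,
      Nat.card_eq_fintype_card, Fintype.card_units_int]
  · rw [MonoidHom.mem_ker, hfu] at h
    exact absurd h (by decide)

/-- Pairs from two classes of involutions, sorted by the class of their central involution. -/
theorem class_pairs (x₁ x₂ y₁ y₂ : G) (h₁ : orderOf x₁ = 2) (h₂ : orderOf x₂ = 2)
    (k₁ : orderOf y₁ = 2) (k₂ : orderOf y₂ = 2) (hnc : ¬ IsConj x₁ x₂) (knc : ¬ IsConj y₁ y₂)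
    (hall : ∀ a b i : G, IsConj x₁ a → IsConj x₂ b → orderOf i = 2 → Commute i a → Commute i b →
      IsConj y₁ i ∨ IsConj y₂ i) :
    Nat.card {y : G // IsConj x₁ y} * Nat.card {y : G // IsConj x₂ y} =
      Nat.card {y : G // IsConj y₁ y} *
        Nat.card {p : G × G // IsConj x₁ p.1 ∧ IsConj x₂ p.2 ∧ y₁ ∈ zpowers (p.1 * p.2)} +
      Nat.card {y : G // IsConj y₂ y} *
        Nat.card {p : G × G // IsConj x₁ p.1 ∧ IsConj x₂ p.2 ∧ y₂ ∈ zpowers (p.1 * p.2)} := by
  classical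
  have := Fintype.ofFinite G
  have hinv : ∀ {x y : G}, orderOf x = 2 → IsConj x y → orderOf y = 2 := by
    intro x y hx hxy
    obtain ⟨g, rfl⟩ := isConj_iff.1 hxy
    exact Invol.invol_conj hx g
  let P := fun z : G => {p : G × G // IsConj x₁ p.1 ∧ IsConj x₂ p.2 ∧ z ∈ zpowers (p.1 * p.2)}
  have hN : ∀ (x : G) (z : {y : G // IsConj x y}),
      Nat.card (P z.1) = Nat.card (P x) :=
    fun x z => Invol.card_pairs_over x x₁ z.1 (fun _ b => IsConj x₂ b)
      (fun g _ b => ⟨fun h => h.trans (isConj_iff.2 ⟨g, rfl⟩),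
        fun h => h.trans (isConj_iff.2 ⟨g⁻¹, by group⟩)⟩) z.2
  let F : (Σ z : {y : G // IsConj y₁ y}, P z.1) ⊕ (Σ z : {y : G // IsConj y₂ y}, P z.1) →
      {y : G // IsConj x₁ y} × {y : G // IsConj x₂ y}
    | Sum.inl q => (⟨q.2.1.1, q.2.2.1⟩, ⟨q.2.1.2, q.2.2.2.1⟩)
    | Sum.inr q => (⟨q.2.1.1, q.2.2.1⟩, ⟨q.2.1.2, q.2.2.2.1⟩)
  have hFbij : Function.Bijective F := by
    refine ⟨?_, ?_⟩
    · rintro (⟨z, p, hp1, hp2, hp3⟩ | ⟨z, p, hp1, hp2, hp3⟩)
        (⟨w, q, hq1, hq2, hq3⟩ | ⟨w, q, hq1, hq2, hq3⟩) h <;>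
        (obtain rfl : p = q := Prod.ext
          (congrArg (fun r => r.1.1) h :) (congrArg (fun r => r.2.1) h :))
      · obtain rfl : z = w :=
          Subtype.ext (Invol.invol_zpowers_unique (hinv k₁ z.2) (hinv k₁ w.2) hp3 hq3)
        rfl
      · exact absurd (z.2.trans ((Invol.invol_zpowers_unique (hinv k₁ z.2) (hinv k₂ w.2) hp3 hq3) ▸
          w.2.symm)) knc
      · exact absurd (w.2.trans ((Invol.invol_zpowers_unique (hinv k₁ w.2) (hinv k₂ z.2) hq3 hp3) ▸
          z.2.symm)) knc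
      · obtain rfl : z = w :=
          Subtype.ext (Invol.invol_zpowers_unique (hinv k₂ z.2) (hinv k₂ w.2) hp3 hq3)
        rfl
    · rintro ⟨⟨a, ha⟩, ⟨b, hb⟩⟩
      have ha2 := hinv h₁ ha
      have hb2 := hinv h₂ hb
      have hev : Even (orderOf (a * b)) :=
        Invol.even_of_not_isConj ha2 hb2 fun h => hnc (ha.trans (h.trans hb.symm))
      have hmem : (a * b) ^ (orderOf (a * b) / 2) ∈ zpowers (a * b) := npow_mem_zpowers _ _
      rcases hall a b _ ha hb (Invol.orderOf_pow_half hev)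
        (Invol.commute_pow_half (Invol.invol_conj_mul ha2 hb2) hev)
        (Invol.commute_pow_half (Invol.invol_conj_mul' ha2 hb2) hev) with h | h
      · exact ⟨Sum.inl ⟨⟨_, h⟩, (a, b), ha, hb, hmem⟩, rfl⟩
      · exact ⟨Sum.inr ⟨⟨_, h⟩, (a, b), ha, hb, hmem⟩, rfl⟩
  have hcount := Nat.card_eq_of_bijective F hFbij
  rw [Nat.card_sum, Nat.card_sigma, Nat.card_sigma, Nat.card_prod,
    Finset.sum_congr rfl fun z _ => hN y₁ z, Finset.sum_congr rfl fun z _ => hN y₂ z,
    Finset.sum_const, Finset.sum_const, smul_eq_mul, smul_eq_mul, Finset.card_univ, Finset.card_univ,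
    ← Nat.card_eq_fintype_card, ← Nat.card_eq_fintype_card] at hcount
  exact hcount.symm

omit [Finite G] in
/-- Conjugacy in a subgroup covering `G` together with a centralizer. -/
theorem isConj_iff_of_cover (M : Subgroup G) {x : G} (hxM : x ∈ M)
    (hcov : ∀ g : G, ∃ c, c * x = x * c ∧ g * c ∈ M) (y : M) :
    IsConj (⟨x, hxM⟩ : M) y ↔ IsConj x (y : G) := by
  refine ⟨fun h => ?_, fun h => ?_⟩
  · obtain ⟨k, hk⟩ := isConj_iff.1 h
    exact isConj_iff.2 ⟨k, congrArg Subtype.val hk⟩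
  · obtain ⟨g, hg⟩ := isConj_iff.1 h
    obtain ⟨c, hc, hgc⟩ := hcov g
    refine isConj_iff.2 ⟨⟨g * c, hgc⟩, Subtype.ext ?_⟩
    show g * c * x * (g * c)⁻¹ = y
    rw [show g * c * x * (g * c)⁻¹ = g * (c * x * c⁻¹) * g⁻¹ by group,
      mul_inv_eq_iff_eq_mul.2 hc, hg]

end CfsgLib.AutL34
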