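import Cfsg.Agent.Lib.Invol.AutLThreeFour.OrderT

/-!
# The centralizer of `b` in the subgroup of index two containing it
-/

set_option autoImplicit false

open Subgroup Equiv

namespace CfsgLib.AutL34

universe u

variable {G : Type u} [Group G]

/-- The centralizer of `b` in `Mb`. -/
def yB (b : G) (Mb : Subgroup G) : Subgroup G := Mb ⊓ centralizer ({b} : Set G)

theorem mem_yB {b g : G} {Mb : Subgroup G} : g ∈ yB b Mb ↔ g ∈ Mb ∧ g * b = b * g := by
  rw [yB, Subgroup.mem_inf, mem_centralizer_singleton_iff]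

namespace Halves

variable {z : G} {E : Subgroup G} {φ : ↥(cz z) →* Perm (Fin 4)} {x a b t d : G}
  {Mt Mb : Subgroup G} (S : Halves z E φ x a b t d Mt Mb) [Finite G]
include S

theorem rad_le_mb : rad φ ≤ Mb := by
  haveI := S.nb
  obtain ⟨hR, -, -⟩ := S.r1_le_index_two S.ib
  intro g hg
  by_cases h : g ∈ r1 φ a
  · exact hR h
  · have := mul_mem (hR (S.mul_b_mem_r1 hg h)) S.bMb
    rwa [mul_assoc, S.bb, mul_one] at this

theorem mb_par : Mb ⊓ cz z = par φ := by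
  haveI := S.nb
  obtain ⟨-, hx, -⟩ := S.r1_le_index_two S.ib
  have key : ∀ g, g ∈ par φ → g ∈ Mb := by
    intro g hg
    rcases S.par_cases S.hx S.hx3 hg with c | c | c
    · exact S.rad_le_mb c
    · exact (Mb.mul_mem_cancel_right hx).1 (S.rad_le_mb c)
    · exact (Mb.mul_mem_cancel_right (inv_mem hx)).1 (S.rad_le_mb c)
  refine le_antisymm (fun g hg => ?_) (fun g hg => ⟨key g hg, par_le hg⟩)
  by_contra hp
  exact S.tMb ((Mb.mul_mem_cancel_left hg.1).1 (key _ (mul_mem_par_of_notMem hg.2 S.ht hp S.htp)))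

theorem mem_par_of_mb {g : G} (hg : g ∈ Mb) (hz : g * z = z * g) : g ∈ par φ :=
  S.mb_par ▸ ⟨hg, mem_cz.2 hz⟩

theorem cover_mb {u : G} (hu : t * u = u * t) (g : G) : ∃ c, c * u = u * c ∧ g * c ∈ Mb := by
  by_cases h : g ∈ Mb
  · exact ⟨1, by simp, by simpa using h⟩
  · refine ⟨t, hu, ?_⟩
    haveI := S.nb
    rw [Subgroup.mul_mem_iff_of_index_two S.ib]
    exact iff_of_false h S.tMb

theorem z_mem_mb : z ∈ Mb := S.rad_le_mb (S.E_le_rad S.hzE)

/-- The involutions of `C_R(b)`. -/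
theorem rb_invol {r : G} (hr : r ∈ rad φ) (hc : r * b = b * r) (ho : orderOf r = 2) :
    r = z ∨ r = b ∨ r = z * b := by
  have h2 := Invol.invol_mul_self ho
  have h1 := Invol.invol_ne_one ho
  by_cases hR : r ∈ r1 φ a
  · by_contra hn
    simp only [not_or] at hn
    exact S.zne ((S.sq_qE (S.r1_centralizes_b hR hc) h1 hn.1).symm.trans h2)
  · have hq := S.r1_centralizes_b (S.mul_b_mem_r1 hr hR)
      ((Commute.mul_left (hc : Commute r b) (Commute.refl b)).eq)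
    have hsq : r * b * (r * b) = 1 := by rw [S.sq_mul_of_comm hc, h2, S.bb, one_mul]
    have hr' : r = r * b * b := by rw [mul_assoc, S.bb, mul_one]
    by_contra hn
    simp only [not_or] at hn
    refine S.zne ((S.sq_qE hq (fun e => hn.2.1 ?_) (fun e => hn.2.2 ?_)).symm.trans hsq)
    · rw [hr', e, one_mul]
    · rw [hr', e]

theorem yb_conj :
    ∀ U : Subgroup G, U ≤ yB b Mb → IsPGroup 2 U →
      ∃ k ∈ yB b Mb, ∀ s ∈ U, k * s * k⁻¹ ∈ rad φ ⊓ centralizer ({b} : Set G) := by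
  haveI : Fact (Nat.Prime 2) := ⟨Nat.prime_two⟩
  refine (sylow_criterion (K := yB b Mb) (T := rad φ ⊓ centralizer ({b} : Set G))
    (fun g hg => mem_yB.2 ⟨S.rad_le_mb hg.1, mem_centralizer_singleton_iff.1 hg.2⟩)
    (IsPGroup.of_card (p := 2) (n := 4) (by rw [S.card_rad_b]; norm_num)) ?_).2
  intro g hg hgp hn
  obtain ⟨hgm, hgb⟩ := mem_yB.1 hg
  have hzr : z ∈ rad φ ⊓ centralizer ({b} : Set G) :=
    ⟨S.E_le_rad S.hzE, mem_centralizer_singleton_iff.2 (S.zcomm_E S.hb).symm⟩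
  have hgz : g * z * g⁻¹ = z := S.tB_fused (Or.inl (hn z hzr)) (isConj_iff.2 ⟨g, rfl⟩)
  obtain ⟨n, hn'⟩ := hgp
  exact ⟨Frame.two_elem_par (S.mem_par_of_mb hgm (conj_iff_comm.1 hgz)) hn',
    mem_centralizer_singleton_iff.2 hgb⟩

/-- The involutions of `Y` up to conjugation in `Y`. -/
theorem yb_invol {v : G} (hv : v ∈ yB b Mb) (ho : orderOf v = 2) :
    ∃ k ∈ yB b Mb, k * v * k⁻¹ = z ∨ k * v * k⁻¹ = b ∨ k * v * k⁻¹ = z * b := by
  obtain ⟨k, hk, h⟩ := S.yb_conj (zpowers v) (zpowers_le.2 hv)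
    (IsPGroup.of_card (n := 1) (by rw [Nat.card_zpowers, ho, pow_one]))
  obtain ⟨h1, h2⟩ := h v (mem_zpowers v)
  exact ⟨k, hk, S.rb_invol h1 (mem_centralizer_singleton_iff.1 h2) (Invol.invol_conj ho k)⟩

theorem not_conj_z_zb : ¬ IsConj z (z * b) := fun h => by
  refine S.not_conj_b (h.trans (?_ : IsConj (z * b) b))
  exact isConj_iff.2 ⟨a, by
    rw [show a * (z * b) * a⁻¹ = (a * z * a⁻¹) * (a * b * a⁻¹) by group,
      conj_iff_comm.2 (S.zcomm_E S.ha), S.anti_conj S.ha (S.anti_symm S.ab),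
      ← mul_assoc, S.zcomm_E S.hb |>.symm, mul_assoc, S.zz, mul_one]⟩

/-- The conjugates of `z` in `Y` form one class. -/
theorem xset_eq : {v | v ∈ yB b Mb ∧ IsConj z v} = (fun k => k * z * k⁻¹) '' (yB b Mb : Set G) := by
  refine Set.Subset.antisymm ?_ ?_
  · rintro v ⟨hv, hc⟩
    obtain ⟨g, hg⟩ := isConj_iff.1 hc
    obtain ⟨k, hk, h⟩ := S.yb_invol hv (hg ▸ Invol.invol_conj S.hz g)
    have hc' : IsConj z (k * v * k⁻¹) := hc.trans (isConj_iff.2 ⟨k, rfl⟩)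
    rcases h with e | e | e
    · refine ⟨k⁻¹, inv_mem hk, ?_⟩
      show k⁻¹ * z * k⁻¹⁻¹ = v
      rw [← e]; group
    · exact absurd (e ▸ hc') S.not_conj_b
    · exact absurd (e ▸ hc') S.not_conj_z_zb
  · rintro _ ⟨k, hk, rfl⟩
    exact ⟨mul_mem (mul_mem hk (mem_yB.2 ⟨S.z_mem_mb, (S.zcomm_E S.hb).symm⟩)) (inv_mem hk),
      isConj_iff.2 ⟨k, rfl⟩⟩

theorem card_par_b : Nat.card ↥(par φ ⊓ centralizer ({b} : Set G)) = 48 := by
  have hn : ∀ h ∈ par φ ⊓ centralizer ({b} : Set G), t * h * t ∈ par φ ⊓ centralizer ({b} : Set G) :=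
    fun h hh => ⟨S.t_conj (fun _ hh' _ hk => par_normal hh' hk) hh.1, mem_centralizer_singleton_iff.2
      ((Commute.mul_left (Commute.mul_left (S.tb : Commute t b)
        (mem_centralizer_singleton_iff.1 hh.2)) (S.tb : Commute t b)).eq)⟩
  have e : cz z ⊓ centralizer ({b} : Set G) = ext2 (par φ ⊓ centralizer ({b} : Set G)) t S.t2 hn := by
    refine le_antisymm ?_ ?_
    · intro g hg
      by_cases hp : g ∈ par φ
      · exact Or.inl ⟨hp, hg.2⟩
      · exact Or.inr ⟨mul_mem_par_of_notMem hg.1 S.ht hp S.htp,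
          mul_mem hg.2 (mem_centralizer_singleton_iff.2 S.tb)⟩
    · intro g hg
      rcases mem_ext2.1 hg with h | h
      · exact ⟨par_le h.1, h.2⟩
      · have := mul_mem (show g * t ∈ cz z ⊓ centralizer ({b} : Set G) from ⟨par_le h.1, h.2⟩)
          (show t ∈ cz z ⊓ centralizer ({b} : Set G) from ⟨S.ht, mem_centralizer_singleton_iff.2 S.tb⟩)
        rwa [mul_assoc, S.t2, mul_one] at this
  have h := S.card_cz_b
  rw [e, card_ext2 (fun h => S.htp (Subgroup.mem_inf.1 h).1)] at h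
  omega

theorem card_yb : Nat.card ↥(yB b Mb) = 48 * {v | v ∈ yB b Mb ∧ IsConj z v}.ncard := by
  have h := card_conj_orbit (yB b Mb) z
  have e : yB b Mb ⊓ centralizer ({z} : Set G) = par φ ⊓ centralizer ({b} : Set G) := by
    rw [yB, inf_right_comm, show centralizer ({z} : Set G) = cz z from rfl, S.mb_par]
  rw [← S.xset_eq, e, S.card_par_b] at h
  omega

/-- Two conjugates of `z` in `Y` have a product of odd order. -/
theorem xset_odd {v w : G} (hv : v ∈ yB b Mb) (hw : w ∈ yB b Mb) (cv : IsConj z v) (cw : IsConj z w) :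
    Odd (orderOf (v * w)) := by
  obtain ⟨gv, hgv⟩ := isConj_iff.1 cv
  obtain ⟨gw, hgw⟩ := isConj_iff.1 cw
  have hvo : orderOf v = 2 := hgv ▸ Invol.invol_conj S.hz gv
  have hwo : orderOf w = 2 := hgw ▸ Invol.invol_conj S.hz gw
  obtain ⟨e, he, heo, hes⟩ := Invol.exists_conj_two_pow hvo hwo
  have hvw : v * w ∈ yB b Mb := mul_mem hv hw
  have heY : e ∈ yB b Mb := zpowers_le.2 hvw he
  set w' := e * w * e⁻¹ with hw'
  have hw'Y : w' ∈ yB b Mb := mul_mem (mul_mem heY hw) (inv_mem heY)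
  obtain ⟨k, hk, h⟩ := S.yb_conj (closure ({v, w'} : Set G))
    ((closure_le _).2 (by rintro g (rfl | rfl); exacts [hv, hw'Y]))
    (Invol.two_group_of_pair hvo heo hes)
  have fused : ∀ g ∈ ({v, w'} : Set G), IsConj z g → k * g * k⁻¹ = z := fun g hg hc =>
    S.tB_fused (Or.inl (h g (subset_closure hg))) (hc.trans (isConj_iff.2 ⟨k, rfl⟩))
  have e1 := fused v (Or.inl rfl) cv
  have e2 := fused w' (Or.inr rfl) (cw.trans (isConj_iff.2 ⟨e, rfl⟩))
  have h1 : v = w' := mul_left_cancel (mul_right_cancel (e1.trans e2.symm))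
  rw [← h1, Invol.invol_mul_self hvo, orderOf_one] at hes
  rw [← Nat.not_even_iff_odd, even_iff_two_dvd]
  intro h2
  have hpos : 0 < (orderOf (v * w)).factorization 2 :=
    (Nat.prime_two).factorization_pos_of_dvd (orderOf_pos _).ne' h2
  have := Nat.one_lt_two_pow hpos.ne'
  omega

/-- The pairs over `b`. -/
theorem card_nb :
    Nat.card {p : G × G // IsConj z p.1 ∧ IsConj b p.2 ∧ b ∈ zpowers (p.1 * p.2)} =
      {v | v ∈ yB b Mb ∧ IsConj z v}.ncard * {v | v ∈ yB b Mb ∧ IsConj z v}.ncard := by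
  haveI := S.nb
  have hmemY : ∀ p : G × G, IsConj z p.1 → IsConj b p.2 → b ∈ zpowers (p.1 * p.2) →
      p.1 ∈ yB b Mb ∧ p.2 ∈ yB b Mb ∧ p.2 ≠ b := by
    rintro ⟨v, u⟩ hv hu h
    obtain ⟨g, hg⟩ := isConj_iff.1 hv
    obtain ⟨g', hg'⟩ := isConj_iff.1 hu
    have hv2 := hg ▸ Invol.invol_conj S.hz g
    have hu2 := hg' ▸ Invol.invol_conj S.orderOf_b g'
    obtain ⟨k, hk⟩ := mem_zpowers_iff.1 h
    have h1 := Invol.conj_zpow_of_inverts (Invol.invol_conj_mul hv2 hu2) k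
    have h2 := Invol.conj_zpow_of_inverts (Invol.invol_conj_mul' hv2 hu2) k
    rw [zpow_neg, hk, Invol.invol_inv S.orderOf_b, conj_iff_comm] at h1 h2
    refine ⟨mem_yB.2 ⟨hg ▸ S.nb.conj_mem z S.z_mem_mb g, h1⟩,
      mem_yB.2 ⟨hg' ▸ S.nb.conj_mem b S.bMb g', h2⟩, fun e => ?_⟩
    simp only at e
    subst e
    have hvne : v ≠ u := fun e => S.not_conj_b (e ▸ hv)
    have ho : orderOf (v * u) = 2 := Invol.invol_iff.2
      ⟨by rw [S.sq_mul_of_comm h1, Invol.invol_mul_self hv2, Invol.invol_mul_self hu2, one_mul],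
        fun e => hvne ((mul_eq_one_iff_eq_inv.1 e).trans (Invol.invol_inv hu2))⟩
    have := Invol.invol_zpowers_unique ho hu2 (mem_zpowers _) h
    exact Invol.invol_ne_one hv2 (mul_eq_right.1 this)
  have hmul : ∀ u, u ∈ yB b Mb → IsConj b u → u ≠ b →
      u * b ∈ yB b Mb ∧ IsConj z (u * b) := by
    intro u hu hc hne
    obtain ⟨g, hg⟩ := isConj_iff.1 hc
    obtain ⟨k, hk, h⟩ := S.yb_invol hu (hg ▸ Invol.invol_conj S.orderOf_b g)
    have hub : u * b ∈ yB b Mb := mul_mem hu (mem_yB.2 ⟨S.bMb, rfl⟩)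
    refine ⟨hub, ?_⟩
    have hkb := (mem_yB.1 hk).2
    rcases h with e | e | e
    · exact absurd (hc.trans (isConj_iff.2 ⟨k, e⟩)).symm S.not_conj_b
    · refine absurd ?_ hne
      rw [← mul_inv_eq_iff_eq_mul.2 hkb] at e
      exact mul_left_cancel (mul_right_cancel e)
    · refine (IsConj.symm ?_ : IsConj z (u * b))
      refine isConj_iff.2 ⟨k, ?_⟩
      rw [show k * (u * b) * k⁻¹ = (k * u * k⁻¹) * (k * b * k⁻¹) by group, e,
        mul_inv_eq_iff_eq_mul.2 hkb, mul_assoc, S.bb, mul_one]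
  rw [← Nat.card_coe_set_eq, ← Nat.card_prod]
  refine Nat.card_eq_of_bijective (fun p =>
    (⟨p.1.1, (hmemY _ p.2.1 p.2.2.1 p.2.2.2).1, p.2.1⟩,
      ⟨p.1.2 * b, hmul _ (hmemY _ p.2.1 p.2.2.1 p.2.2.2).2.1 p.2.2.1
        (hmemY _ p.2.1 p.2.2.1 p.2.2.2).2.2⟩)) ⟨fun p q h => ?_, ?_⟩
  · simp only [Prod.mk.injEq, Subtype.mk.injEq] at h
    exact Subtype.ext (Prod.ext h.1 (mul_right_cancel h.2))
  · rintro ⟨⟨v, hv, cv⟩, ⟨w, hw, cw⟩⟩
    have hwb := (mem_yB.1 hw).2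
    have hcb : IsConj b (w * b) := by
      obtain ⟨k, hk, e⟩ := (S.xset_eq ▸ (⟨hw, cw⟩ : w ∈ {v | v ∈ yB b Mb ∧ IsConj z v}) :
        w ∈ (fun k => k * z * k⁻¹) '' (yB b Mb : Set G))
      have hbzb : IsConj b (z * b) := by
        refine IsConj.symm ?_
        exact isConj_iff.2 ⟨a, by
          rw [show a * (z * b) * a⁻¹ = (a * z * a⁻¹) * (a * b * a⁻¹) by group,
            conj_iff_comm.2 (S.zcomm_E S.ha), S.anti_conj S.ha (S.anti_symm S.ab),
            ← mul_assoc, S.zcomm_E S.hb |>.symm, mul_assoc, S.zz, mul_one]⟩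
      refine hbzb.trans (isConj_iff.2 ⟨k, ?_⟩)
      have hkb : k * b * k⁻¹ = b := mul_inv_eq_iff_eq_mul.2 (mem_yB.1 hk).2
      simp only at e
      rw [show k * (z * b) * k⁻¹ = (k * z * k⁻¹) * (k * b * k⁻¹) by group, e, hkb]
    have hmem : b ∈ zpowers (v * (w * b)) := by
      obtain ⟨l, hl⟩ := S.xset_odd hv hw cv cw
      refine mem_zpowers_iff.2 ⟨((2 * l + 1 : ℕ) : ℤ), ?_⟩
      rw [zpow_natCast, ← mul_assoc,
        Commute.mul_pow (Commute.mul_left ((mem_yB.1 hv).2 : Commute v b) hwb), ← hl,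
        pow_orderOf_eq_one, one_mul, hl, pow_succ, pow_mul, sq, S.bb, one_pow, one_mul]
    refine ⟨⟨(v, w * b), cv, hcb, hmem⟩, Prod.ext rfl (Subtype.ext ?_)⟩
    show w * b * b = w
    rw [mul_assoc, S.bb, mul_one]

end Halves

namespace Data

variable {z : G} {E : Subgroup G} {φ : ↥(cz z) →* Perm (Fin 4)} {x a b t d : G}
  {Mt Mb : Subgroup G} {m : G} (S : Data z E φ x a b t d Mt Mb m) [Finite G]
include S

theorem mb_invol_cases (hzm : IsConj z m) {i : G} (hi : i ∈ Mb) (ho : orderOf i = 2) :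
    IsConj z i ∨ IsConj b i := by
  haveI : Fact (Nat.Prime 2) := ⟨Nat.prime_two⟩
  obtain ⟨P, hP⟩ := S.sylow_top
  obtain ⟨Q, hQ⟩ := (IsPGroup.of_card (n := 1) (by rw [Nat.card_zpowers, ho, pow_one]) :
    IsPGroup 2 (zpowers i)).exists_le_sylow
  obtain ⟨g, hg⟩ := MulAction.exists_smul_eq G Q P
  have hT : g * i * g⁻¹ ∈ S.sT := by
    rw [← hP, ← hg, Sylow.smul_def, Sylow.pointwise_smul_def]
    exact ⟨i, hQ (mem_zpowers i), rfl⟩
  have hp := S.mem_par_of_mb (S.nb.conj_mem i hi g) (mem_cz.1 (S.sT_le hT))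
  have hio := Invol.invol_conj ho g
  have hr := S.invol_mem_rad hp (Invol.invol_mul_self hio)
  have hic : IsConj i (g * i * g⁻¹) := isConj_iff.2 ⟨g, rfl⟩
  by_cases hR : g * i * g⁻¹ ∈ r1 φ a
  · left
    by_cases hW : g * i * g⁻¹ ∈ wS z a
    · exact (S.conj_z_w hW (Invol.invol_ne_one hio)).trans hic.symm
    · exact hzm.trans ((S.conj_m_mem hR hW (Invol.invol_mul_self hio)).trans hic.symm)
  · right
    obtain ⟨r, -, e⟩ := S.exists_conj_b hr hR (Invol.invol_mul_self hio)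
    exact (isConj_iff.2 ⟨r, e⟩ : IsConj b _).trans hic.symm

/-- The conjugates of `z` in the preimage of `A₄`. -/
theorem conj_z_par (hzm : IsConj z m) : {v | v ∈ par φ ∧ IsConj z v} =
    ({z, a, a * z} : Set G) ∪ {g | g ∈ r1 φ a ∧ g ∉ wS z a ∧ g * g = 1} := by
  refine Set.Subset.antisymm ?_ ?_
  · rintro v ⟨hv, hc⟩
    obtain ⟨k, hk⟩ := isConj_iff.1 hc
    have ho : orderOf v = 2 := hk ▸ Invol.invol_conj S.hz k
    by_cases hW : v ∈ wS z a
    · exact Or.inl ((S.mem_wS.1 hW).resolve_left (Invol.invol_ne_one ho))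
    · exact Or.inr ⟨S.conj_mem_r1 (par_le hv) hc, hW, Invol.invol_mul_self ho⟩
  · rintro v (hv | ⟨h1, h2, h3⟩)
    · have hW : v ∈ wS z a := S.mem_wS.2 (Or.inr hv)
      refine ⟨rad_le_par (mem_r1.1 (S.wS_le_r1 hW)).1, S.conj_z_w hW ?_⟩
      obtain ⟨a1, a2, -, -, -, -⟩ := S.ab_ne
      rcases hv with e | e | e <;> rw [e]
      exacts [S.zne, a1, fun e => a2 ((eq_inv_of_mul_eq_one_left e).trans S.zinv)]
    · exact ⟨rad_le_par (mem_r1.1 h1).1, hzm.trans (S.conj_m_mem h1 h2 h3)⟩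

theorem card_conj_z_par (hzm : IsConj z m) : {v | v ∈ par φ ∧ IsConj z v}.ncard = 27 := by
  obtain ⟨a1, a2, -, -, -, -⟩ := S.ab_ne
  have hd : Disjoint ({z, a, a * z} : Set G) {g | g ∈ r1 φ a ∧ g ∉ wS z a ∧ g * g = 1} :=
    Set.disjoint_left.2 fun v hv h => h.2.1 (S.mem_wS.2 (Or.inr hv))
  rw [S.conj_z_par hzm, Set.ncard_union_eq hd, S.class_ncard,
    Set.ncard_eq_three.2 ⟨z, a, a * z, a2.symm, fun e => a1 (right_eq_mul.1 e),
      fun e => S.zne (left_eq_mul.1 e), rfl⟩]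

/-- The pairs over `z` in `Mb`. -/
theorem card_nz_b (hzm : IsConj z m) :
    Nat.card {p : G × G // IsConj z p.1 ∧ IsConj b p.2 ∧ z ∈ zpowers (p.1 * p.2)} = 208 := by
  haveI := S.nb
  let B := (fun k => k * b * k⁻¹) '' (r1 φ a : Set G)
  have hcase : ∀ v ∈ {v | v ∈ par φ ∧ IsConj z v}, v ≠ z → z ∈ zpowers (v * b) := by
    intro v hv hne
    rw [S.conj_z_par hzm] at hv
    have hab : (a * b) * (a * b) = z := by
      nth_rewrite 1 [S.ab]
      rw [show b * a * z * (a * b) = b * a * (z * a) * b by group, ← S.zcomm_E S.ha,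
        show b * a * (a * z) * b = b * (a * a) * (z * b) by group, S.aa, mul_one, ← S.zcomm_E S.hb,
        ← mul_assoc, S.bb, one_mul]
    rcases hv with (e | e | e) | ⟨h1, h2, h3⟩
    · exact absurd e hne
    · rw [e]
      refine mem_zpowers_iff.2 ⟨2, ?_⟩
      rw [zpow_two, hab]
    · rw [e]
      refine mem_zpowers_iff.2 ⟨2, ?_⟩
      rw [zpow_two, show a * z * b = a * b * z by rw [mul_assoc, ← S.zcomm_E S.hb, ← mul_assoc],
        S.sq_mul_of_comm (S.zcomm_E (mul_mem S.ha S.hb)), hab, S.zz, mul_one]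
    · have Sv : Split z E φ x a b v := ⟨S.toFrame, h1, h3, h2⟩
      have hn : (b * v * b) * (b * v * b) = 1 := by
        rw [show b * v * b * (b * v * b) = b * v * (b * b) * v * b by group, S.bb, mul_one,
          mul_assoc b v v, h3, mul_one, S.bb]
      refine mem_zpowers_iff.2 ⟨4, ?_⟩
      rw [show (v * b) ^ (4 : ℤ) = (v * (b * v * b)) * (v * (b * v * b)) by
        rw [show (4 : ℤ) = ((4 : ℕ) : ℤ) from rfl, zpow_natCast, pow_succ, pow_succ, pow_two]; group]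
      have hc := Sv.cm_m_n.1
      simp only [cm, Sv.minv, inv_eq_of_mul_eq_one_right hn] at hc
      rw [show v * (b * v * b) * (v * (b * v * b)) = v * (b * v * b) * v * (b * v * b) by group, hc]
  have hfib : ∀ u ∈ B, {v | v ∈ {v | v ∈ par φ ∧ IsConj z v} ∧ z ∈ zpowers (v * u)} =
      {v | v ∈ par φ ∧ IsConj z v} \ {z} := by
    rintro _ ⟨r, hr, rfl⟩
    simp only
    have hrz : r ∈ cz z := rad_le (mem_r1.1 hr).1
    have hz' : r⁻¹ * z * r = z := by
      rw [mul_assoc, ← mem_cz.1 hrz, inv_mul_cancel_left]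
    ext v
    refine ⟨fun ⟨h1, h2⟩ => ⟨h1, fun e => ?_⟩, fun ⟨h1, h2⟩ => ⟨h1, ?_⟩⟩
    · rw [Set.mem_singleton_iff] at e
      subst e
      exact Invol.invol_notMem_zpowers_mul S.hz (Invol.invol_conj S.orderOf_b r) h2
    · have h := hcase (r⁻¹ * v * r) ⟨by simpa using par_normal (inv_mem hrz) h1.1,
        h1.2.trans (isConj_iff.2 ⟨r⁻¹, by group⟩)⟩ fun e => h2 (by
          rw [Set.mem_singleton_iff, show v = r * (r⁻¹ * v * r) * r⁻¹ by group, e,
            mul_inv_eq_iff_eq_mul, mem_cz.1 hrz])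
      obtain ⟨k, hk⟩ := mem_zpowers_iff.1 h
      refine mem_zpowers_iff.2 ⟨k, ?_⟩
      rw [show v * (r * b * r⁻¹) = r * (r⁻¹ * v * r * b) * r⁻¹ by group, conj_zpow, hk,
        mul_inv_eq_iff_eq_mul, mem_cz.1 hrz]
  have hmem : ∀ p : G × G, IsConj z p.1 → IsConj b p.2 → z ∈ zpowers (p.1 * p.2) →
      p.1 ∈ {v | v ∈ par φ ∧ IsConj z v} ∧ p.2 ∈ B := by
    rintro ⟨v, u⟩ hv hu h
    obtain ⟨g, hg⟩ := isConj_iff.1 hv
    obtain ⟨g', hg'⟩ := isConj_iff.1 hu
    have hv2 := hg ▸ Invol.invol_conj S.hz g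
    have hu2 := hg' ▸ Invol.invol_conj S.orderOf_b g'
    obtain ⟨k, hk⟩ := mem_zpowers_iff.1 h
    have h1 := Invol.conj_zpow_of_inverts (Invol.invol_conj_mul hv2 hu2) k
    have h2 := Invol.conj_zpow_of_inverts (Invol.invol_conj_mul' hv2 hu2) k
    rw [zpow_neg, hk, S.zinv, conj_iff_comm] at h1 h2
    refine ⟨⟨S.mem_par_of_mb (hg ▸ S.nb.conj_mem z S.z_mem_mb g) h1, hv⟩, ?_⟩
    have hup := S.mem_par_of_mb (hg' ▸ S.nb.conj_mem b S.bMb g') h2
    have hu2' := Invol.invol_mul_self hu2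
    show u ∈ (fun k => k * b * k⁻¹) '' (r1 φ a : Set G)
    rw [S.b_class.1]
    exact ⟨S.invol_mem_rad hup hu2', fun hR => S.no_b_in_r1 hR hu, hu2'⟩
  let e : {p : G × G // IsConj z p.1 ∧ IsConj b p.2 ∧ z ∈ zpowers (p.1 * p.2)} ≃
      Σ u : B, {v // v ∈ {v | v ∈ {v | v ∈ par φ ∧ IsConj z v} ∧ z ∈ zpowers (v * (u : G))}} :=
    { toFun := fun p => ⟨⟨p.1.2, (hmem _ p.2.1 p.2.2.1 p.2.2.2).2⟩,
        ⟨p.1.1, (hmem _ p.2.1 p.2.2.1 p.2.2.2).1, p.2.2.2⟩⟩
      invFun := fun q => ⟨(q.2.1, q.1.1), q.2.2.1.2, by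
        obtain ⟨k, -, hk⟩ := q.1.2
        exact isConj_iff.2 ⟨k, hk⟩, q.2.2.2⟩
      left_inv := fun _ => rfl
      right_inv := fun _ => rfl }
  haveI : Fintype B := Fintype.ofFinite _
  rw [Nat.card_congr e, Nat.card_sigma, Finset.sum_congr rfl (fun (u : B) _ =>
    (Nat.card_coe_set_eq _).trans (congrArg Set.ncard (hfib (u : G) u.2))),
    Finset.sum_const, Finset.card_univ, ← Nat.card_eq_fintype_card, Nat.card_coe_set_eq,
    show B.ncard = 8 from S.b_class.2, Set.ncard_diff_singleton_of_mem (s := {v | v ∈ par φ ∧ IsConj z v})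
      ⟨rad_le_par (S.E_le_rad S.hzE), IsConj.refl z⟩,
    S.card_conj_z_par hzm]
  rfl

/-- The order of `Y`. -/
theorem card_y (hzm : IsConj z m) (hM : Nat.card Mt = 120960) :
    Nat.card ↥(yB b Mb) = 432 := by
  haveI := S.nb
  have hMb : Nat.card Mb = 120960 := by
    have h1 := Mt.card_mul_index
    have h2 := Mb.card_mul_index
    rw [S.it, hM] at h1
    rw [S.ib] at h2
    omega
  have cz' := S.cover_mb (u := z) (mem_cz.1 S.ht)
  have cb' := S.cover_mb (u := b) S.tb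
  have hall : ∀ a' b' i : Mb, IsConj (⟨z, S.z_mem_mb⟩ : Mb) a' → IsConj (⟨b, S.bMb⟩ : Mb) b' →
      orderOf i = 2 → Commute i a' → Commute i b' →
      IsConj (⟨z, S.z_mem_mb⟩ : Mb) i ∨ IsConj (⟨b, S.bMb⟩ : Mb) i := by
    intro a' b' i _ _ hi _ _
    rw [isConj_iff_of_cover Mb S.z_mem_mb cz', isConj_iff_of_cover Mb S.bMb cb']
    exact S.mb_invol_cases hzm i.2 ((orderOf_injective Mb.subtype Mb.subtype_injective i).trans hi)
  have hzb : ¬ IsConj (⟨z, S.z_mem_mb⟩ : Mb) ⟨b, S.bMb⟩ := fun h =>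
    S.not_conj_b ((isConj_iff_of_cover Mb S.z_mem_mb cz' _).1 h)
  have hoz : orderOf (⟨z, S.z_mem_mb⟩ : Mb) = 2 := (orderOf_mk z _).trans S.hz
  have hob : orderOf (⟨b, S.bMb⟩ : Mb) = 2 := (orderOf_mk b _).trans S.orderOf_b
  have key := class_pairs _ _ _ _ hoz hob hoz hob hzb hzb hall
  rw [card_pairs_sub Mb S.z_mem_mb S.bMb S.z_mem_mb cz' cb',
    card_pairs_sub Mb S.z_mem_mb S.bMb S.bMb cz' cb', S.card_nz_b hzm, S.card_nb] at key
  have k1 := card_class_sub Mb S.z_mem_mb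
  have k2 := card_class_sub Mb S.bMb
  rw [show centralizer ({z} : Set G) = cz z from rfl, S.mb_par, S.card_par, hMb] at k1
  rw [show Mb ⊓ centralizer ({b} : Set G) = yB b Mb from rfl, S.card_yb, hMb] at k2
  rw [S.card_yb]
  set o := {v | v ∈ yB b Mb ∧ IsConj z v}.ncard
  set Z := Nat.card {y : Mb // IsConj (⟨z, S.z_mem_mb⟩ : Mb) y}
  set B := Nat.card {y : Mb // IsConj (⟨b, S.bMb⟩ : Mb) y}
  have hZ : Z = 315 := by omega
  rw [hZ] at key k1
  have hB : B * o = 2520 := by linarith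
  have h9 : 315 * 2520 = 315 * 208 * o + 2520 * o * o := by
    have : 315 * (B * o) = o * (315 * 208) + (B * o) * (o * o) := by
      calc 315 * (B * o) = o * (315 * B) := by ring
        _ = o * (315 * 208 + B * (o * o)) := by rw [key]
        _ = o * (315 * 208) + (B * o) * (o * o) := by ring
    rw [hB] at this
    linarith
  have : o = 9 := by nlinarith
  rw [this]

end Data

end CfsgLib.AutL34
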