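import Cfsg.Agent.Lib.Invol.AutLThreeFour.Cycle

/-!
# An involution of `R₁` outside `W`
-/

set_option autoImplicit false

open Subgroup Equiv

namespace CfsgLib.AutL34

universe u

variable {G : Type u} [Group G]

theorem even_cube : ∀ σ : Perm (Fin 4), Perm.sign σ = 1 → σ * σ * σ = 1 ∨ σ * σ = 1 := by
  decide +kernel

namespace Frame

variable {z : G} {E : Subgroup G} {φ : ↥(cz z) →* Perm (Fin 4)} {x a b : G}
  (S : Frame z E φ x a b)
include S

omit S in
theorem two_elem_par {g : G} (hg : g ∈ par φ) {n : ℕ} (hn : g ^ 2 ^ n = 1) : g ∈ rad φ := by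
  have hgc := par_le hg
  refine (mem_rad hgc).2 ⟨?_, (mem_par hgc).1 hg⟩
  rcases even_cube _ ((mem_par hgc).1 hg) with h | h
  · have h1 : (φ ⟨g, hgc⟩) ^ 3 = 1 := by rw [pow_succ, sq]; exact h
    have h2 : (φ ⟨g, hgc⟩) ^ 2 ^ n = 1 := by
      rw [← map_pow, show (⟨g, hgc⟩ : cz z) ^ 2 ^ n = 1 from Subtype.ext hn, map_one]
    have h3 := Nat.eq_one_of_dvd_coprimes (Nat.Coprime.pow_left n (by norm_num : Nat.Coprime 2 3))
      (orderOf_dvd_of_pow_eq_one h2) (orderOf_dvd_of_pow_eq_one h1)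
    rw [orderOf_eq_one_iff.1 h3, one_mul]
  · exact h

end Frame

namespace Full

variable {z : G} {E : Subgroup G} {φ : ↥(cz z) →* Perm (Fin 4)} {x a b t d : G}
  (S : Full z E φ x a b t d) [Finite G]
include S

theorem d_conj_r1 {k : G} (hk : k ∈ r1 φ a) : d * k * d⁻¹ ∈ r1 φ a := by
  have hk' := S.cycle_k0 S.dz S.da (Frame.r1_le_k0 hk)
  obtain ⟨hkz, hka⟩ := mem_k0.1 hk'
  have hpow : ∀ g, g ∈ r1 φ a → ∃ n : ℕ, (d * g * d⁻¹) ^ 2 ^ n = 1 := by
    intro g hg
    obtain ⟨n, hn⟩ := S.pgroup_rad ⟨g, (mem_r1.1 hg).1⟩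
    refine ⟨n, ?_⟩
    rw [conj_pow, show g ^ 2 ^ n = 1 from congrArg Subtype.val hn]
    simp
  have hp : d * k * d⁻¹ ∈ par φ := by
    by_contra hp
    have hr := S.inverts_x S.hx S.hx3 hkz hp
    set k' := d * k * d⁻¹ with hk'def
    have hy : k' * x * k'⁻¹ * x⁻¹ = d * (k * (x * k⁻¹ * x⁻¹)) * d⁻¹ := by
      have h1 : d * x * d⁻¹ = x := conj_iff_comm.2 S.dx
      calc k' * x * k'⁻¹ * x⁻¹ = d * k * d⁻¹ * x * (d * k⁻¹ * d⁻¹) * x⁻¹ := by rw [hk'def]; group
        _ = d * k * d⁻¹ * (d * x * d⁻¹) * (d * k⁻¹ * d⁻¹) * (d * x * d⁻¹)⁻¹ := by rw [h1]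
        _ = _ := by group
    obtain ⟨n, hn⟩ := hpow _ (mul_mem hk (S.r1_normal S.hx (inv_mem hk)))
    rw [← hy] at hn
    have e3 : x * x * x = 1 := by rw [← S.x_cube S.hx S.hx3, pow_succ, sq]
    have he : k' * x * k'⁻¹ * x⁻¹ = k' * x * k'⁻¹ * x * x := by
      calc k' * x * k'⁻¹ * x⁻¹ = k' * x * k'⁻¹ * x⁻¹ * (x * x * x) := by rw [e3, mul_one]
        _ = _ := by group
    rw [he] at hn
    have hmem := Frame.two_elem_par (mul_mem (rad_le_par hr) (S.x_mem_par S.hx S.hx3)) hn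
    exact S.x_notMem_rad S.hx S.hx3 (((rad φ).mul_mem_cancel_left hr).1 hmem)
  obtain ⟨n, hn⟩ := hpow k hk
  exact mem_r1.2 ⟨Frame.two_elem_par hp hn, hka⟩

theorem exists_split : ∃ m, Split z E φ x a b m := by
  by_contra hn
  push Not at hn
  obtain ⟨q, hq, hqs⟩ := exists_avoid (K := qE E a b) [1, z] (by rw [S.card_qE']; simp)
  simp only [List.mem_cons, List.not_mem_nil, or_false, not_or] at hqs
  have hqq := S.sq_qE hq hqs.1 hqs.2
  have hqR : q ∈ r1 φ a := S.e1_le_r1 (S.qE_le_e1 hq)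
  have hqE := (mem_qE.1 hq).1
  set r := d * q * d⁻¹ with hr
  have hrR : r ∈ r1 φ a := S.d_conj_r1 hqR
  have hrr : r * r = a := by
    rw [hr, show d * q * d⁻¹ * (d * q * d⁻¹) = d * (q * q) * d⁻¹ by group, hqq, S.dz]
  obtain ⟨ha1, haz, -, -, -, -⟩ := S.ab_ne
  have haz1 : a * z ≠ 1 := fun e => haz ((eq_inv_of_mul_eq_one_left e).trans S.zinv)
  have hrE : r ∉ E := fun h => by
    rcases S.hsq r h with e | e <;> rw [hrr] at e
    exacts [ha1 e, haz e]
  have hxk := S.x_mem_k0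
  have e3 : x * x * x = 1 := by rw [← S.x_cube S.hx S.hx3, pow_succ, sq]
  set r' := x * r * x⁻¹ with hr'
  set r'' := x⁻¹ * r * x with hr''
  have hr'R : r' ∈ r1 φ a := S.r1_normal S.hx hrR
  have hr''R : r'' ∈ r1 φ a := by simpa using S.r1_normal (inv_mem S.hx) hrR
  have hxa : x * a * x⁻¹ = a := conj_iff_comm.2 S.ax.symm
  have hxa' : x⁻¹ * a * x = a := by rw [mul_assoc, S.ax, inv_mul_cancel_left]
  have hr'2 : r' * r' = a := by
    rw [hr', show x * r * x⁻¹ * (x * r * x⁻¹) = x * (r * r) * x⁻¹ by group, hrr, hxa]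
  have hr''2 : r'' * r'' = a := by
    rw [hr'', show x⁻¹ * r * x * (x⁻¹ * r * x) = x⁻¹ * (r * r) * x by group, hrr, hxa']
  -- no value is `a z`
  have hval : ∀ s, s ∈ r1 φ a → s * s = a → s ∉ E → cm q s = 1 ∨ cm q s = z ∨ cm q s = a := by
    intro s hs hss hsE
    rcases S.mem_wS.1 (S.cm_r1 hqR hs) with e | e | e | e
    · exact Or.inl e
    · exact Or.inr (Or.inl e)
    · exact Or.inr (Or.inr e)
    exfalso
    refine hn (q * s) ⟨S.toFrame, mul_mem hqR hs, ?_, fun h => hsE ?_⟩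
    · have hcom : s * q = cm s q * (q * s) := by simp only [cm]; group
      have hc := S.cm_r1 hs hqR
      calc q * s * (q * s) = q * (s * q) * s := by group
        _ = q * (cm s q * (q * s)) * s := by rw [hcom]
        _ = q * cm s q * q * (s * s) := by group
        _ = cm s q * (q * q) * (s * s) := by rw [S.wS_central (Frame.r1_le_k0 hqR) hc]; group
        _ = a * z * z * a := by rw [S.cm_symm hqR hs, e, hqq, hss]
        _ = 1 := by rw [S.zcancel, S.aa]
    · have := mul_mem (inv_mem hqE) (mem_e1.1 (S.wS_le_e1 h)).1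
      rwa [inv_mul_cancel_left] at this
  have hr'E : r' ∉ E := fun h => hrE (by
    have := S.hn x⁻¹ (inv_mem S.hx) r' h
    rwa [hr', show x⁻¹ * (x * r * x⁻¹) * x⁻¹⁻¹ = r by group] at this)
  have hr''E : r'' ∉ E := fun h => hrE (by
    have := S.hn x S.hx r'' h
    rwa [hr'', show x * (x⁻¹ * r * x) * x⁻¹ = r by group] at this)
  have v0 := hval r hrR hrr hrE
  have v1 := hval r' hr'R hr'2 hr'E
  have v2 := hval r'' hr''R hr''2 hr''E
  have htrip := S.r1_trip hrR
  rw [← hr', ← hr''] at htrip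
  have hprod : cm q r * cm q r' * cm q r'' = 1 := by
    rw [← S.cm_mul_right hqR hrR hr'R, ← S.cm_mul_right hqR (mul_mem hrR hr'R) hr''R,
      S.cm_wS_right hqR htrip]
  -- `cm q e` for `e ∈ E₁`
  have hqe : ∀ e ∈ e1 E a, cm q e = 1 ∨ cm q e = z := by
    intro e he
    rcases S.hcomm q hqE e (mem_e1.1 he).1 with h | h <;> simp only [cm] <;> rw [h]
    · exact Or.inl (mul_inv_cancel e)
    · exact Or.inr (by rw [S.zcomm_E (mem_e1.1 he).1, mul_inv_cancel_right])
  have hdecomp : ∀ s ∈ r1 φ a, ∃ e ∈ e1 E a, ∃ k, (k = 1 ∨ k = r ∨ k = r' ∨ k = r'') ∧ s = e * k := by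
    intro s hs
    have mk : ∀ k, k ∈ r1 φ a → s * k⁻¹ ∈ E → (k = 1 ∨ k = r ∨ k = r' ∨ k = r'') →
        ∃ e ∈ e1 E a, ∃ k, (k = 1 ∨ k = r ∨ k = r' ∨ k = r'') ∧ s = e * k := fun k hk h hcase =>
      ⟨s * k⁻¹, mem_e1.2 ⟨h, (mem_r1.1 (mul_mem hs (inv_mem hk))).2⟩, k, hcase, by group⟩
    rcases S.rad_cases (mem_r1.1 hrR).1 hrE (mem_r1.1 hs).1 with h | h | h | h
    · exact mk 1 (one_mem _) (by simpa using h) (Or.inl rfl)
    · exact mk r hrR h (Or.inr (Or.inl rfl))
    · exact mk r' hr'R h (Or.inr (Or.inr (Or.inl rfl)))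
    · exact mk r'' hr''R h (Or.inr (Or.inr (Or.inr rfl)))
  have hkR : ∀ k, (k = 1 ∨ k = r ∨ k = r' ∨ k = r'') → k ∈ r1 φ a := by
    rintro k (rfl | rfl | rfl | rfl)
    exacts [one_mem _, hrR, hr'R, hr''R]
  by_cases hA : cm q r ≠ a ∧ cm q r' ≠ a ∧ cm q r'' ≠ a
  · -- then `q` is fixed modulo `⟨z⟩` by `R`
    have hz1 : ∀ s ∈ r1 φ a, cm q s ∈ zpowers z := by
      intro s hs
      obtain ⟨e, he, k, hk, rfl⟩ := hdecomp s hs
      rw [S.cm_mul_right hqR (S.e1_le_r1 he) (hkR k hk)]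
      refine mul_mem (S.mem_zpowers_z.2 (hqe e he)) ?_
      rcases hk with rfl | rfl | rfl | rfl
      · simp [cm]
      · exact S.mem_zpowers_z.2 (v0.imp_right fun h => h.resolve_right hA.1)
      · exact S.mem_zpowers_z.2 (v1.imp_right fun h => h.resolve_right hA.2.1)
      · exact S.mem_zpowers_z.2 (v2.imp_right fun h => h.resolve_right hA.2.2)
    refine S.pfix_q hq (S.mem_pfix.2 ⟨hqE, fun s hs => ?_⟩) hqs.1 hqs.2
    have hkey : ∀ k ∈ r1 φ a, k * q * k⁻¹ * q⁻¹ ∈ zpowers z := fun k hk => by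
      have h := hz1 k hk
      rw [← S.cm_symm hqR hk] at h
      exact h
    by_cases hs1 : s ∈ r1 φ a
    · exact hkey s hs1
    · have h2 := hkey _ (S.mul_b_mem_r1 hs hs1)
      have hbq : b * q * b⁻¹ = q := conj_iff_comm.2 (mem_qE.1 hq).2.2.symm
      rwa [show s * b * q * (s * b)⁻¹ = s * (b * q * b⁻¹) * s⁻¹ by group, hbq] at h2
  -- some value is `a`, so all are `1` or `a`
  have haz' : a * z ≠ a := fun e => S.zne (mul_eq_left.1 e)
  have hzaa : z * a * a = z := by rw [mul_assoc, S.aa, mul_one]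
  have haza : a * z * a = z := by rw [← S.zcomm_E S.ha] at hzaa; exact hzaa
  have haaz : a * a * z = z := by rw [S.aa, one_mul]
  have hall : (cm q r = 1 ∨ cm q r = a) ∧ (cm q r' = 1 ∨ cm q r' = a) ∧ (cm q r'' = 1 ∨ cm q r'' = a) := by
    have hza : z * a = a * z := (S.zcomm_E S.ha).symm
    have hz2 := S.zne
    rcases v0 with h0 | h0 | h0 <;> rcases v1 with h1 | h1 | h1 <;> rcases v2 with h2 | h2 | h2 <;>
      simp [h0, h1, h2, S.zz, S.aa, hza, haza, S.zcancel] at hprod ⊢ <;>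
      first
        | exact (hA ⟨by rw [h0]; first | exact Ne.symm ha1 | exact Ne.symm haz,
            by rw [h1]; first | exact Ne.symm ha1 | exact Ne.symm haz,
            by rw [h2]; first | exact Ne.symm ha1 | exact Ne.symm haz⟩).elim
        | exact absurd hprod ha1
        | exact absurd hprod haz1
        | exact absurd hprod S.zne
  -- all values of `cm r` are then `1` or `a`
  have hcr : ∀ s ∈ r1 φ a, cm r s = 1 ∨ cm r s = a := by
    have hmul : ∀ u v : G, (u = 1 ∨ u = a) → (v = 1 ∨ v = a) → (u * v = 1 ∨ u * v = a) := by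
      rintro u v (rfl | rfl) (rfl | rfl) <;> simp [S.aa]
    have hrr' : cm r r' = 1 ∨ cm r r' = a := by
      right
      have hinv : r * r' = (r * r' * r'') * r''⁻¹ := by group
      set w := r * r' * r'' with hw
      have h1 : r * r' * (r * r') = a := by
        rw [hinv, S.sq_mul_of_comm (S.wS_central (inv_mem (Frame.r1_le_k0 hr''R)) htrip).symm,
          S.wS_sq htrip, one_mul, ← mul_inv_rev, hr''2]
        exact inv_eq_of_mul_eq_one_right S.aa
      have hcom : r' * r = cm r' r * (r * r') := by simp only [cm]; group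
      have hc := S.cm_r1 hr'R hrR
      have h2 : r * r' * (r * r') = cm r' r * a * a := by
        calc r * r' * (r * r') = r * (r' * r) * r' := by group
          _ = r * (cm r' r * (r * r')) * r' := by rw [hcom]
          _ = r * cm r' r * r * (r' * r') := by group
          _ = cm r' r * (r * r) * (r' * r') := by rw [S.wS_central (Frame.r1_le_k0 hrR) hc]; group
          _ = cm r' r * a * a := by rw [hrr, hr'2]
      rw [h1, mul_assoc, S.aa, mul_one, S.cm_symm hrR hr'R] at h2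
      exact h2.symm
    have hrr'' : cm r r'' = 1 ∨ cm r r'' = a := by
      have h := S.cm_mul_right hrR (mul_mem hrR hr'R) hr''R
      rw [S.cm_wS_right hrR htrip, S.cm_mul_right hrR hrR hr'R, show cm r r = 1 by simp [cm],
        one_mul] at h
      have h' := eq_inv_of_mul_eq_one_right h.symm
      rw [h']
      rcases hrr' with e | e <;> rw [e]
      · exact Or.inl inv_one
      · exact Or.inr (inv_eq_of_mul_eq_one_right S.aa)
    intro s hs
    obtain ⟨e, he, k, hk, rfl⟩ := hdecomp s hs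
    rw [S.cm_mul_right hrR (S.e1_le_r1 he) (hkR k hk)]
    refine hmul _ _ ?_ ?_
    · obtain ⟨w, hw, p, hp, rfl⟩ := S.e1_decomp he
      have hpR : p ∈ r1 φ a := S.e1_le_r1 (S.qE_le_e1 hp)
      rw [S.cm_mul_right hrR (S.wS_le_r1 hw) hpR, S.cm_wS_right hrR hw, one_mul]
      have hshift : ∀ c, c ∈ r1 φ a → p * c⁻¹ ∈ wS z a → cm r p = cm r c := fun c hc h => by
        have h' := S.cm_mul_right hrR (S.wS_le_r1 h) hc
        rw [inv_mul_cancel_right, S.cm_wS_right hrR h, one_mul] at h'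
        exact h'
      rcases S.qE_cases hq hqs.1 hqs.2 hp with e' | e' | e' | e' | e'
      · left; rw [e']; simp [cm]
      · left; rw [e', S.cm_wS_right hrR S.z_mem_wS]
      · rw [hshift q hqR e', S.cm_symm hqR hrR]; exact hall.1
      · have h1 : cm r (x * q * x⁻¹) = cm r'' q := by
          have h := S.cm_conj hxk hr''R hqR
          rw [hr'', show x * (x⁻¹ * r * x) * x⁻¹ = r by group] at h
          rw [h, hr'']
        rw [hshift _ (S.r1_normal S.hx hqR) e', h1, S.cm_symm hqR hr''R]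
        exact hall.2.2
      · have h1 : cm r (x⁻¹ * q * x) = cm r' q := by
          have h := S.cm_conj (inv_mem hxk) hr'R hqR
          rw [inv_inv, hr', show x⁻¹ * (x * r * x⁻¹) * x = r by group] at h
          rw [h, hr']
        rw [hshift _ (by simpa using S.r1_normal (inv_mem S.hx) hqR) e', h1, S.cm_symm hqR hr'R]
        exact hall.2.1
    · rcases hk with rfl | rfl | rfl | rfl
      · left; simp [cm]
      · left; simp [cm]
      · exact hrr'
      · exact hrr''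
  obtain ⟨c, hc, hca⟩ : ∃ c ∈ r1 φ a, cm q c = a := by
    simp only [not_and_or, not_not] at hA
    rcases hA with h | h | h
    exacts [⟨r, hrR, h⟩, ⟨r', hr'R, h⟩, ⟨r'', hr''R, h⟩]
  have hq'R : x * q * x⁻¹ ∈ r1 φ a := S.r1_normal S.hx hqR
  have hqq' : cm q (x * q * x⁻¹) = z := by
    rcases hqe _ (S.qE_le_e1 (S.qE_conj S.hx S.ax S.bx hq)) with e | e
    · exfalso
      have h4 := S.anti_qE hq hqs.1 hqs.2
      simp only [cm] at e
      rw [mul_inv_eq_one, mul_inv_eq_iff_eq_mul] at e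
      rw [e] at h4
      exact S.zne (mul_left_cancel (h4.symm.trans (mul_one _).symm))
    · exact e
  have hs0 : cm q (c * (x * q * x⁻¹)) = a * z := by rw [S.cm_mul_right hqR hc hq'R, hca, hqq']
  have hfin := hcr _ (S.d_conj_r1 (mul_mem hc hq'R))
  rw [hr, ← cm_conj_map, hs0, S.cycle_az S.dz S.da] at hfin
  rcases hfin with e | e
  exacts [S.zne e, haz e.symm]

end Full

end CfsgLib.AutL34
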