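import Cfsg.Agent.Lib.Invol.AutLThreeFour.Halves
import Cfsg.Agent.Lib.Invol.AutLThreeFour.Exist

/-!
# Pairs of involutions over `z` in the subgroup containing `t`
-/

set_option autoImplicit false

open Subgroup Equiv

namespace CfsgLib.AutL34

universe u

variable {G : Type u} [Group G]

/-- All data, with an involution `m` of `R₁` outside `W`. -/
structure Data (z : G) (E : Subgroup G) (φ : ↥(cz z) →* Perm (Fin 4)) (x a b t d : G)
    (Mt Mb : Subgroup G) (m : G) : Prop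
    extends Halves z E φ x a b t d Mt Mb, Split z E φ x a b m

namespace Frame

variable {z : G} {E : Subgroup G} {φ : ↥(cz z) →* Perm (Fin 4)} {x a b : G}
  (S : Frame z E φ x a b)
include S

/-- Elements of the preimage of `A₄` centralizing `a`. -/
theorem par_k0_cases {g : G} (hg : g ∈ k0 z a) (hp : g ∈ par φ) :
    ∃ r ∈ r1 φ a, g = r ∨ g = r * x ∨ g = r * x⁻¹ := by
  obtain ⟨-, hga⟩ := mem_k0.1 hg
  have hxa : Commute x a := S.ax.symm
  rcases S.par_cases S.hx S.hx3 hp with c | c | c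
  · exact ⟨g, mem_r1.2 ⟨c, hga⟩, Or.inl rfl⟩
  · exact ⟨g * x, mem_r1.2 ⟨c, Commute.mul_left hga hxa⟩, Or.inr (Or.inr (by group))⟩
  · exact ⟨g * x⁻¹, mem_r1.2 ⟨c, Commute.mul_left hga hxa.inv_left⟩, Or.inr (Or.inl (by group))⟩

theorem exists_conj_k0_of_split {m : G} [Finite G] (Sm : Split z E φ x a b m) {g : G}
    (hg : g ∈ aS φ a m) (hgW : g ∉ wS z a) : ∃ k ∈ k0 z a, k * m * k⁻¹ = g := by
  have hkey : ∀ k ∈ k0 z a, g * (k * m * k⁻¹)⁻¹ ∈ wS z a → ∃ k ∈ k0 z a, k * m * k⁻¹ = g := by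
    intro k hk h
    have hkc := (mem_k0.1 hk).1
    have h' := S.wS_normal (inv_mem hkc) h
    have hmem : k⁻¹ * g * k ∈ (fun w => w * m) '' (wS z a : Set G) := ⟨_, h', by group⟩
    rw [← Sm.conj_set] at hmem
    obtain ⟨r, hr, e⟩ := hmem
    refine ⟨k * r, mul_mem hk (Frame.r1_le_k0 hr), ?_⟩
    simp only at e
    rw [show k * r * m * (k * r)⁻¹ = k * (r * m * r⁻¹) * k⁻¹ by group, e]; group
  rcases Sm.aS_cases hg with h | h | h | h
  · exact absurd h hgW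
  · exact hkey 1 (one_mem _) (by simpa using h)
  · exact hkey x S.x_mem_k0 h
  · exact hkey x⁻¹ (inv_mem S.x_mem_k0) (by simpa using h)

end Frame

namespace Halves

variable {z : G} {E : Subgroup G} {φ : ↥(cz z) →* Perm (Fin 4)} {x a b t d : G}
  {Mt Mb : Subgroup G} (S : Halves z E φ x a b t d Mt Mb) [Finite G]
include S

theorem mt_iff {g : G} : g * b ∈ Mt ↔ g ∉ Mt := by
  haveI := S.nt
  rw [Subgroup.mul_mem_iff_of_index_two S.it]
  exact ⟨fun h hg => S.bt (h.1 hg), fun h => iff_of_false h S.bt⟩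

theorem k0_le_mt : k0 z a ≤ Mt := by
  intro g hg
  haveI := S.nt
  obtain ⟨hR, hx, -⟩ := S.r1_le_index_two S.it
  have key : ∀ k, k ∈ k0 z a → k ∈ par φ → k ∈ Mt := fun k hk hp => by
    obtain ⟨r, hr, h | h | h⟩ := S.par_k0_cases hk hp
    · rw [h]; exact hR hr
    · rw [h]; exact mul_mem (hR hr) hx
    · rw [h]; exact mul_mem (hR hr) (inv_mem hx)
  by_cases hp : g ∈ par φ
  · exact key g hg hp
  · have h1 := key _ (mul_mem hg S.t_mem_k0) (mul_mem_par_of_notMem (mem_k0.1 hg).1 S.ht hp S.htp)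
    have := mul_mem h1 S.tMt
    rwa [mul_assoc, S.t2, mul_one] at this

theorem mem_k0_of_mt {g : G} (hg : g ∈ Mt) (hz : g ∈ cz z) : g ∈ k0 z a := by
  by_contra hn
  have hga := (S.hW g hz).resolve_left fun e => hn (mem_k0.2 ⟨hz, conj_iff_comm.1 e⟩)
  have h1 : g * b ∈ k0 z a := mem_k0.2 ⟨mul_mem hz (S.hEH S.hb), conj_iff_comm.1 (by
    rw [show g * b * a * (g * b)⁻¹ = g * (b * a * b⁻¹) * g⁻¹ by group, S.b_conj_a,
      S.conj_mul_z hz, hga, S.zcancel])⟩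
  exact S.mt_iff.1 (S.k0_le_mt h1) hg

theorem cover_z (g : G) : ∃ c, c * z = z * c ∧ g * c ∈ Mt := by
  by_cases h : g ∈ Mt
  · exact ⟨1, by simp, by simpa using h⟩
  · exact ⟨b, S.zcomm_E S.hb, S.mt_iff.2 h⟩

theorem cover_t (g : G) : ∃ c, c * t = t * c ∧ g * c ∈ Mt := by
  by_cases h : g ∈ Mt
  · exact ⟨1, by simp, by simpa using h⟩
  · exact ⟨b, S.tb.symm, S.mt_iff.2 h⟩

theorem qT_le_mt : S.qT ≤ Mt := by
  intro g hg
  haveI := S.nt
  obtain ⟨hR, -, -⟩ := S.r1_le_index_two S.it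
  rcases mem_ext2.1 hg with h | h
  · exact hR h
  · have := mul_mem (hR h) S.tMt
    rwa [mul_assoc, S.t2, mul_one] at this

theorem mem_qT_of_mt {g : G} (hg : g ∈ S.sT) (hm : g ∈ Mt) : g ∈ S.qT := by
  have key : ∀ k ∈ rad φ, k ∈ Mt → k ∈ r1 φ a := fun k hk hkm => by
    have := (mem_k0.1 (S.mem_k0_of_mt hkm (rad_le hk))).2
    exact mem_r1.2 ⟨hk, this⟩
  rcases mem_ext2.1 hg with h | h
  · exact Or.inl (key g h hm)
  · exact Or.inr (key _ h (mul_mem hm S.tMt))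

/-- A `2`-subgroup inside `Mt` is conjugate into `R₁⟨t⟩`. -/
theorem mt_two_conj {U : Subgroup G} (hU : U ≤ Mt) (hp : IsPGroup 2 U) :
    ∃ g, ∀ s ∈ U, g * s * g⁻¹ ∈ S.qT := by
  haveI : Fact (Nat.Prime 2) := ⟨Nat.prime_two⟩
  obtain ⟨P, hP⟩ := S.sylow_top
  obtain ⟨Q, hQ⟩ := hp.exists_le_sylow
  obtain ⟨g, hg⟩ := MulAction.exists_smul_eq G Q P
  refine ⟨g, fun s hs => S.mem_qT_of_mt ?_ (S.nt.conj_mem s (hU hs) g)⟩
  rw [← hP, ← hg, Sylow.smul_def, Sylow.pointwise_smul_def]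
  exact ⟨s, hQ hs, rfl⟩

/-- An involution of `k0` outside the preimage of `A₄` is conjugate to `t`. -/
theorem outer_k0_conj_t {u : G} (huk : u ∈ k0 z a) (hp : u ∉ par φ) (hu2 : u * u = 1) :
    u ∈ (fun k => k * t * k⁻¹) '' (k0 z a : Set G) := by
  obtain ⟨r, hr, hcase⟩ := S.par_k0_cases (mul_mem huk S.t_mem_k0)
    (mul_mem_par_of_notMem (mem_k0.1 huk).1 S.ht hp S.htp)
  have key : ∀ k, k ∈ k0 z a → u = r * (k * t * k⁻¹) → u ∈ (fun k => k * t * k⁻¹) '' (k0 z a : Set G) := by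
    intro k hk hu
    have hkc := (mem_k0.1 hk).1
    have h1 : k⁻¹ * r * k⁻¹⁻¹ ∈ r1 φ a := S.r1_normal (inv_mem hkc) hr
    have hmem : k⁻¹ * u * k ∈ {g | g * t ∈ r1 φ a ∧ g * g = 1} := by
      refine ⟨?_, ?_⟩
      · rw [hu, show k⁻¹ * (r * (k * t * k⁻¹)) * k * t = k⁻¹ * r * k⁻¹⁻¹ * (t * t) by group, S.t2,
          mul_one]
        exact h1
      · rw [show k⁻¹ * u * k * (k⁻¹ * u * k) = k⁻¹ * (u * u) * k by group, hu2]; simp
    rw [← S.t_class_r1.1] at hmem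
    obtain ⟨r', hr', e⟩ := hmem
    refine ⟨k * r', mul_mem hk (Frame.r1_le_k0 hr'), ?_⟩
    simp only at e ⊢
    rw [show k * r' * t * (k * r')⁻¹ = k * (r' * t * r'⁻¹) * k⁻¹ by group, e]; group
  have e3 : x * x * x = 1 := by rw [← S.x_cube S.hx S.hx3, pow_succ, sq]
  have hut : u = u * t * t := by rw [mul_assoc, S.t2, mul_one]
  have hx1 : x⁻¹ * t * x = x * t := by
    calc x⁻¹ * t * x = x⁻¹ * (t * x * t⁻¹) * t := by group
      _ = x⁻¹ * x⁻¹ * (x * x * x) * t := by rw [S.tx, e3, mul_one]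
      _ = x * t := by group
  have hx2 : x * t * x⁻¹ = x⁻¹ * t := by
    calc x * t * x⁻¹ = x * (t * x * t⁻¹)⁻¹ * t := by group
      _ = (x * x * x) * x⁻¹ * t := by rw [S.tx]; group
      _ = x⁻¹ * t := by rw [e3, one_mul]
  rcases hcase with e | e | e <;> rw [e] at hut
  · exact key 1 (one_mem _) (by rw [one_mul, inv_one, mul_one]; exact hut)
  · exact key x⁻¹ (inv_mem S.x_mem_k0) (by rw [inv_inv, hx1, hut, mul_assoc])
  · exact key x S.x_mem_k0 (by rw [hx2, hut, mul_assoc])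

/-- The conjugates of `t` in `C(z)`. -/
theorem t_class_cz : {u | u ∈ cz z ∧ IsConj t u} = (fun k => k * t * k⁻¹) '' (k0 z a : Set G) := by
  refine Set.Subset.antisymm ?_ ?_
  · rintro u ⟨huz, hc⟩
    obtain ⟨g, hg⟩ := isConj_iff.1 hc
    have hu2 : u * u = 1 := hg ▸ Invol.invol_mul_self (Invol.invol_conj S.orderOf_t g)
    have huk := S.mem_k0_of_mt (hg ▸ S.nt.conj_mem t S.tMt g) huz
    have hp : u ∉ par φ := fun h => S.no_t_in_rad (S.invol_mem_rad h hu2) hc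
    exact S.outer_k0_conj_t huk hp hu2
  · rintro _ ⟨k, hk, rfl⟩
    exact ⟨mul_mem (mul_mem (mem_k0.1 hk).1 S.ht) (inv_mem (mem_k0.1 hk).1), isConj_iff.2 ⟨k, rfl⟩⟩

theorem wt_hn : ∀ h ∈ wS z a, t * h * t ∈ wS z a :=
  fun _ hk => S.t_conj (fun _ hh _ hk' => S.wS_normal hh hk') hk

theorem mem_wt {g : G} :
    g ∈ ext2 (wS z a) t S.t2 S.wt_hn ↔ g ∈ k0 z a ∧ g * t = t * g := by
  have hwt : ∀ w ∈ wS z a, w * t = t * w := fun w hw => (S.wS_central S.t_mem_k0 hw).symm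
  constructor
  · intro hg
    have key : ∀ w ∈ wS z a, w ∈ k0 z a ∧ w * t = t * w := fun w hw =>
      ⟨Frame.r1_le_k0 (S.wS_le_r1 hw), hwt w hw⟩
    rcases mem_ext2.1 hg with h | h
    · exact key g h
    · obtain ⟨h1, h2⟩ := key _ h
      have h3 := mul_mem h1 S.t_mem_k0
      rw [mul_assoc, S.t2, mul_one] at h3
      have h4 := Commute.mul_left (h2 : Commute (g * t) t) (Commute.refl t)
      rw [mul_assoc, S.t2, mul_one] at h4
      exact ⟨h3, h4.eq⟩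
  · rintro ⟨hk, hc⟩
    have key : ∀ k, k ∈ dE E x → k * a = a * k → k ∈ wS z a := fun k hk hka => by
      obtain ⟨w, hw, q, hq, e⟩ := S.e1_decomp (mem_e1.2 ⟨(mem_dE.1 hk).1, hka⟩)
      have hqd : q ∈ dE E x := by
        have hwd : w ∈ dE E x := by
          rcases S.mem_wS.1 hw with rfl | rfl | rfl | rfl
          exacts [one_mem _, S.zd, S.ad, mul_mem S.ad S.zd]
        exact ((dE E x).mul_mem_cancel_left hwd).1 (e ▸ hk)
      rcases S.qE_inter S.hx S.hx3 S.ad S.bd S.ab hq hqd with r | r <;> rw [e, r]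
      · rw [mul_one]; exact hw
      · exact mul_mem hw S.z_mem_wS
    obtain ⟨hz, ha⟩ := mem_k0.1 hk
    rcases S.cz_centralizes_t hz hc with h | h
    · exact Or.inl (key g h ha)
    · exact Or.inr (key _ h (Commute.mul_left ha S.ta).eq)

theorem card_wt : Nat.card (ext2 (wS z a) t S.t2 S.wt_hn) = 8 := by
  rw [card_ext2 (fun h => S.htp (rad_le_par (mem_r1.1 (S.wS_le_r1 h)).1)), S.card_wS]

theorem t_class_cz_card : {u | u ∈ cz z ∧ IsConj t u}.ncard = 48 := by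
  rw [S.t_class_cz]
  have h := card_conj_orbit (k0 z a) t
  have hC : k0 z a ⊓ centralizer ({t} : Set G) = ext2 (wS z a) t S.t2 S.wt_hn := by
    ext g
    rw [Subgroup.mem_inf, mem_centralizer_singleton_iff, S.mem_wt]
  rw [hC, S.card_k0, S.card_wt] at h
  omega

end Halves

namespace Data

variable {z : G} {E : Subgroup G} {φ : ↥(cz z) →* Perm (Fin 4)} {x a b t d : G}
  {Mt Mb : Subgroup G} {m : G} (S : Data z E φ x a b t d Mt Mb m) [Finite G]
include S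

theorem conj_in_k0 {g : G} (hg : g ∈ r1 φ a) (hgW : g ∉ wS z a) (h2 : g * g = 1) :
    ∃ k ∈ k0 z a, k * m * k⁻¹ = g := by
  rcases S.invol_cases hg h2 with h | h
  · exact S.exists_conj_k0_of_split S.toSplit h hgW
  · set n2 := t * m * t⁻¹ with hn2
    have hB := S.conj_out_k0 S.t_mem_k0 S.htp
    have hn2W : n2 ∉ wS z a := fun e => S.hmW (by
      have := S.wS_normal (inv_mem S.ht) e
      rwa [hn2, show t⁻¹ * (t * m * t⁻¹) * t⁻¹⁻¹ = m by group] at this)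
    have Sn2 : Split z E φ x a b n2 := S.split_n.split_of_mem hB hn2W (S.split_n.aS_sq hB)
    obtain ⟨k, hk, e⟩ := S.exists_conj_k0_of_split Sn2 (S.split_n.aS_eq hB hn2W ▸ h) hgW
    refine ⟨k * t, mul_mem hk S.t_mem_k0, ?_⟩
    rw [show k * t * m * (k * t)⁻¹ = k * n2 * k⁻¹ by rw [hn2]; group, e]

theorem card_k0_m : Nat.card ↥(k0 z a ⊓ centralizer ({m} : Set G)) = 16 := by
  have h := card_conj_orbit (k0 z a) m
  have hs : (fun k => k * m * k⁻¹) '' (k0 z a : Set G) = {g | g ∈ r1 φ a ∧ g ∉ wS z a ∧ g * g = 1} := by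
    refine Set.Subset.antisymm ?_ fun g hg => ?_
    · rw [← S.conj_class]
      exact Set.image_mono fun k hk => (mem_k0.1 hk).1
    · obtain ⟨k, hk, e⟩ := S.conj_in_k0 hg.1 hg.2.1 hg.2.2
      exact ⟨k, hk, e⟩
  rw [hs, S.class_ncard, S.card_k0] at h
  omega

theorem cover_m (g : G) : ∃ c, c * m = m * c ∧ g * c ∈ Mt := by
  by_cases h : g ∈ Mt
  · exact ⟨1, by simp, by simpa using h⟩
  obtain ⟨c, hc, hcm⟩ : ∃ c ∈ cz z ⊓ centralizer ({m} : Set G), c ∉ Mt := by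
    by_contra hn
    push Not at hn
    have := card_le_of_le (show cz z ⊓ centralizer ({m} : Set G) ≤ k0 z a ⊓ centralizer ({m} : Set G) from
      fun c hc => ⟨S.mem_k0_of_mt (hn c hc) hc.1, hc.2⟩)
    rw [S.card_cz_m, S.card_k0_m] at this
    omega
  refine ⟨c, mem_centralizer_singleton_iff.1 hc.2, ?_⟩
  haveI := S.nt
  rw [Subgroup.mul_mem_iff_of_index_two S.it]
  exact iff_of_false h hcm

theorem orderOf_m : orderOf m = 2 :=
  orderOf_eq_prime (by rw [sq, S.mm]) fun e => S.hmW (e ▸ one_mem _)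

theorem m_mem_mt : m ∈ Mt := S.k0_le_mt (Frame.r1_le_k0 S.hm)

/-- Every involution of `Mt` is conjugate to `z`, `t` or `m`. -/
theorem mt_invol_cases {i : G} (hi : i ∈ Mt) (ho : orderOf i = 2) :
    IsConj z i ∨ IsConj t i ∨ IsConj m i := by
  have hp : IsPGroup 2 (zpowers i) := IsPGroup.of_card (n := 1) (by rw [Nat.card_zpowers, ho, pow_one])
  obtain ⟨g, hg⟩ := S.mt_two_conj (zpowers_le.2 hi) hp
  have hi' := hg i (mem_zpowers i)
  have hic : IsConj i (g * i * g⁻¹) := isConj_iff.2 ⟨g, rfl⟩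
  have h2 := Invol.invol_mul_self (Invol.invol_conj ho g)
  rcases mem_ext2.1 hi' with h | h
  · by_cases hW : g * i * g⁻¹ ∈ wS z a
    · exact Or.inl ((S.conj_z_w hW (Invol.invol_ne_one (Invol.invol_conj ho g))).trans hic.symm)
    · obtain ⟨k, -, e⟩ := S.conj_in_k0 h hW h2
      exact Or.inr (Or.inr ((isConj_iff.2 ⟨k, e⟩ : IsConj m _).trans hic.symm))
  · have hmem : g * i * g⁻¹ ∈ {g | g * t ∈ r1 φ a ∧ g * g = 1} := ⟨h, h2⟩
    rw [← S.t_class_r1.1] at hmem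
    obtain ⟨r, -, e⟩ := hmem
    exact Or.inr (Or.inl ((isConj_iff.2 ⟨r, e⟩ : IsConj t _).trans hic.symm))

theorem not_conj_z_t : ¬ IsConj z t := S.not_conj_outer S.ht S.htp

theorem conj_cases {u v : G} (hu : u ∈ k0 z a) (hp : u ∉ par φ) (Sv : Split z E φ x a b v) :
    u * v * u⁻¹ * (b * v * b)⁻¹ ∈ wS z a ∨ u * v * u⁻¹ * (x * (b * v * b) * x⁻¹)⁻¹ ∈ wS z a ∨
      u * v * u⁻¹ * (x⁻¹ * (b * v * b) * x)⁻¹ ∈ wS z a := by
  refine (Sv.split_n.aS_cases (Sv.conj_out_k0 hu hp)).resolve_left fun h => Sv.hmW ?_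
  have := S.wS_normal (inv_mem (mem_k0.1 hu).1) h
  rwa [show u⁻¹ * (u * v * u⁻¹) * u⁻¹⁻¹ = v by group] at this

omit [Finite G] in
theorem cm_coset {v c n : G} (hv : v ∈ r1 φ a) (hn : n ∈ r1 φ a) (hc : c ∈ r1 φ a)
    [Finite G] (h : c * n⁻¹ ∈ wS z a) : cm v c = cm v n := by
  have h' := S.cm_mul_right hv (S.wS_le_r1 h) hn
  rw [inv_mul_cancel_right, S.cm_wS_right hv h, one_mul] at h'
  exact h'

theorem t_class_props {u : G} (hu : u ∈ {u | u ∈ cz z ∧ IsConj t u}) :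
    u ∈ k0 z a ∧ u ∉ par φ ∧ u * u = 1 := by
  obtain ⟨k, hk⟩ := isConj_iff.1 hu.2
  have h2 : u * u = 1 := hk ▸ Invol.invol_mul_self (Invol.invol_conj S.orderOf_t k)
  exact ⟨S.mem_k0_of_mt (hk ▸ S.nt.conj_mem t S.tMt k) hu.1,
    fun h => S.no_t_in_rad (S.invol_mem_rad h h2) hu.2, h2⟩

theorem zpowers_mul_iff {u v : G} (hu : u ∈ {u | u ∈ cz z ∧ IsConj t u})
    (Sv : Split z E φ x a b v) :
    z ∈ zpowers (v * u) ↔ u * v * u⁻¹ * (b * v * b)⁻¹ ∈ wS z a := by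
  obtain ⟨huk, hup, hu2⟩ := S.t_class_props hu
  have hnR := S.r1_normal (mem_k0.1 huk).1 Sv.hm
  obtain ⟨c1, c2, c3⟩ := Sv.cm_m_n
  obtain ⟨-, v2, v3⟩ := Sv.cm_values
  rw [v3] at c3
  have huinv : u⁻¹ = u := inv_eq_of_mul_eq_one_right hu2
  set n := u * v * u⁻¹ with hn
  have hn2 : n * n = 1 := by
    rw [hn, show u * v * u⁻¹ * (u * v * u⁻¹) = u * (v * v) * u⁻¹ by group, Sv.mm]; simp
  have hg2 : (v * u) * (v * u) = v * n := by rw [hn, huinv]; group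
  have hvn : (v * n) * (v * n) = cm v n := by
    simp only [cm, Sv.minv, inv_eq_of_mul_eq_one_right hn2]; group
  have hcW := S.cm_r1 Sv.hm hnR
  obtain ⟨a1, a2, -, -, -, -⟩ := S.ab_ne
  have haz1 : a * z ≠ 1 := fun e => a2 ((eq_inv_of_mul_eq_one_left e).trans S.zinv)
  have hzaz : z * (a * z) = a := by rw [← mul_assoc, ← S.zcomm_E S.ha, S.zcancel]
  have hvals : cm v n ≠ 1 ∧ (cm v n = z ↔ n * (b * v * b)⁻¹ ∈ wS z a) := by
    refine ⟨?_, ⟨fun h => ?_, fun h => by rw [S.cm_coset Sv.hm Sv.n_mem hnR h, c1]⟩⟩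
    · rcases S.conj_cases huk hup Sv with h | h | h
      · rw [S.cm_coset Sv.hm Sv.n_mem hnR h, c1]; exact S.zne
      · rw [S.cm_coset Sv.hm Sv.split_n.mx_mem hnR h, c2]
        rcases v2 with e | e <;> rw [e]
        exacts [a1, haz1]
      · rw [S.cm_coset Sv.hm Sv.split_n.mx2_mem hnR h, c3]
        rcases v2 with e | e <;> rw [e]
        · rw [← S.zcomm_E S.ha]; exact haz1
        · rw [hzaz]; exact a1
    · rcases S.conj_cases huk hup Sv with h' | h' | h'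
      · exact h'
      · rw [S.cm_coset Sv.hm Sv.split_n.mx_mem hnR h', c2] at h
        rcases v2 with e | e <;> rw [e] at h
        · exact absurd h a2
        · exact absurd (mul_eq_right.1 h) a1
      · rw [S.cm_coset Sv.hm Sv.split_n.mx2_mem hnR h', c3] at h
        rcases v2 with e | e <;> rw [e] at h
        · exact absurd (mul_eq_left.1 h) a1
        · rw [hzaz] at h; exact absurd h a2
  have hg4 : (v * u) ^ 4 = cm v n := by
    rw [show 4 = 2 * 2 from rfl, pow_mul, sq, sq, hg2, hvn]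
  have ho4 : orderOf ((v * u) ^ 4) = 2 := by
    rw [hg4]; exact Invol.invol_iff.2 ⟨S.wS_sq hcW, hvals.1⟩
  rw [← hvals.2]
  constructor
  · intro h
    rw [← hg4]
    exact Invol.invol_zpowers_unique ho4 S.hz (npow_mem_zpowers _ _) h
  · intro h
    rw [← h, ← hg4]
    exact npow_mem_zpowers _ _

theorem fibre_card {v : G} (Sv : Split z E φ x a b v) :
    {u | u ∈ {u | u ∈ cz z ∧ IsConj t u} ∧ z ∈ zpowers (v * u)}.ncard = 16 := by
  classical
  set T := {u | u ∈ cz z ∧ IsConj t u}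
  set n := b * v * b with hn
  let F : G → Set G := fun c => {u | u ∈ T ∧ u * v * u⁻¹ * c⁻¹ ∈ wS z a}
  have e0 : {u | u ∈ T ∧ z ∈ zpowers (v * u)} = F n := by
    ext u
    exact ⟨fun ⟨h1, h2⟩ => ⟨h1, (S.zpowers_mul_iff h1 Sv).1 h2⟩,
      fun ⟨h1, h2⟩ => ⟨h1, (S.zpowers_mul_iff h1 Sv).2 h2⟩⟩
  rw [e0]
  have hxT : ∀ u ∈ T, x * u * x⁻¹ ∈ T := fun u hu =>
    ⟨mul_mem (mul_mem S.hx hu.1) (inv_mem S.hx), hu.2.trans (isConj_iff.2 ⟨x, rfl⟩)⟩
  have e3 : x * x * x = 1 := by rw [← S.x_cube S.hx S.hx3, pow_succ, sq]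
  have hstep : ∀ c, c ∈ r1 φ a → (F c).ncard ≤ (F (x⁻¹ * c * x)).ncard := by
    intro c hc
    refine Set.ncard_le_ncard_of_injOn (fun u => x * u * x⁻¹) (fun u hu => ⟨hxT u hu.1, ?_⟩)
      (fun u _ u' _ h => mul_left_cancel (mul_right_cancel h)) (Set.toFinite _)
    obtain ⟨huk, hup, -⟩ := S.t_class_props hu.1
    set r := u * x * u⁻¹ * x with hr
    have hr1 : r ∈ r1 φ a := mem_r1.2 ⟨S.inverts_x S.hx S.hx3 (mem_k0.1 huk).1 hup,
      (mem_k0.1 (mul_mem (mul_mem (mul_mem huk S.x_mem_k0) (inv_mem huk)) S.x_mem_k0)).2⟩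
    set n1 := u * v * u⁻¹ with hn1
    have hn1R : n1 ∈ r1 φ a := S.r1_normal (mem_k0.1 huk).1 Sv.hm
    have hxu : x * u * x⁻¹ = x⁻¹ * r⁻¹ * u := by
      calc x * u * x⁻¹ = (x * x * x) * x⁻¹ * x⁻¹ * (u * x⁻¹) := by group
        _ = x⁻¹ * r⁻¹ * u := by rw [e3, hr]; group
    show x * u * x⁻¹ * v * (x * u * x⁻¹)⁻¹ * (x⁻¹ * c * x)⁻¹ ∈ wS z a
    have h1 : cm r⁻¹ n1 * (n1 * c⁻¹) ∈ wS z a := mul_mem (S.cm_r1 (inv_mem hr1) hn1R) hu.2
    have h2 := S.wS_normal (inv_mem S.hx) h1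
    rw [hxu]
    rwa [show x⁻¹ * (cm r⁻¹ n1 * (n1 * c⁻¹)) * x⁻¹⁻¹ =
      x⁻¹ * r⁻¹ * u * v * (x⁻¹ * r⁻¹ * u)⁻¹ * (x⁻¹ * c * x)⁻¹ by simp only [cm, hn1]; group] at h2
  set n1 := x * n * x⁻¹ with hn1
  set n2 := x⁻¹ * n * x with hn2
  have hN := Sv.n_mem
  have hN1 : n1 ∈ r1 φ a := Sv.split_n.mx_mem
  have hN2 : n2 ∈ r1 φ a := Sv.split_n.mx2_mem
  have e1 : x⁻¹ * n1 * x = n := by rw [hn1]; group
  have e2 : x⁻¹ * n2 * x = n1 := by
    rw [hn2, show x⁻¹ * (x⁻¹ * n * x) * x = x * ((x * x * x)⁻¹ * n * (x * x * x)) * x⁻¹ by group, e3,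
      inv_one, one_mul, mul_one]
  have s1 := hstep n hN
  have s2 := hstep n2 hN2
  have s3 := hstep n1 hN1
  rw [← hn2] at s1
  rw [e2] at s2
  rw [e1] at s3
  have hdis : ∀ c c', c * c'⁻¹ ∉ wS z a → Disjoint (F c) (F c') := fun c c' h => by
    rw [Set.disjoint_left]
    rintro u ⟨-, h1⟩ ⟨-, h2⟩
    apply h
    have := mul_mem (inv_mem h1) h2
    rwa [show (u * v * u⁻¹ * c⁻¹)⁻¹ * (u * v * u⁻¹ * c'⁻¹) = c * c'⁻¹ by group] at this
  obtain ⟨q1, q2⟩ := Sv.split_n.m_cosets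
  rw [← hn, ← hn1] at q1
  rw [← hn, ← hn2] at q2
  have d01 : Disjoint (F n) (F n1) := (hdis n1 n q1).symm
  have d02 : Disjoint (F n) (F n2) := (hdis n2 n q2).symm
  have d12 : Disjoint (F n1) (F n2) := hdis n1 n2 fun h => by
    have h' := S.wS_normal (inv_mem S.hx) h
    rw [show x⁻¹ * (n1 * n2⁻¹) * x⁻¹⁻¹ = (x⁻¹ * n1 * x) * (x⁻¹ * n2 * x)⁻¹ by group, e1, e2] at h'
    have h'' := inv_mem h'
    rw [mul_inv_rev, inv_inv] at h''
    exact q1 h''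
  have hunion : T = F n ∪ F n1 ∪ F n2 := by
    refine Set.Subset.antisymm (fun u hu => ?_) ?_
    · obtain ⟨huk, hup, -⟩ := S.t_class_props hu
      rcases S.conj_cases huk hup Sv with h | h | h
      exacts [Or.inl (Or.inl ⟨hu, h⟩), Or.inl (Or.inr ⟨hu, h⟩), Or.inr ⟨hu, h⟩]
    · rintro u ((h | h) | h) <;> exact h.1
  have hT : T.ncard = 48 := S.t_class_cz_card
  rw [hunion, Set.ncard_union_eq (d02.union_left d12), Set.ncard_union_eq d01] at hT
  omega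

theorem card_nz [Decidable (IsConj z m)] :
    Nat.card {p : G × G // IsConj z p.1 ∧ IsConj t p.2 ∧ z ∈ zpowers (p.1 * p.2)} =
      if IsConj z m then 384 else 0 := by
  classical
  have hcomm : ∀ v u : G, IsConj z v → IsConj t u → z ∈ zpowers (v * u) → v ∈ cz z ∧ u ∈ cz z := by
    intro v u hv hu h
    obtain ⟨g, hg⟩ := isConj_iff.1 hv
    obtain ⟨g', hg'⟩ := isConj_iff.1 hu
    have hv2 := hg ▸ Invol.invol_conj S.hz g
    have hu2 := hg' ▸ Invol.invol_conj S.orderOf_t g'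
    obtain ⟨k, hk⟩ := mem_zpowers_iff.1 h
    have h1 := Invol.conj_zpow_of_inverts (Invol.invol_conj_mul hv2 hu2) k
    have h2 := Invol.conj_zpow_of_inverts (Invol.invol_conj_mul' hv2 hu2) k
    rw [zpow_neg, hk, S.zinv] at h1 h2
    exact ⟨mem_cz_conj.2 h1, mem_cz_conj.2 h2⟩
  let V := {g | g ∈ r1 φ a ∧ g ∉ wS z a ∧ g * g = 1}
  have hVW : ∀ v u : G, IsConj z v → IsConj t u → z ∈ zpowers (v * u) → v ∈ V := by
    intro v u hv hu h
    obtain ⟨hvz, huz⟩ := hcomm v u hv hu h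
    obtain ⟨g, hg⟩ := isConj_iff.1 hv
    have hvo := hg ▸ Invol.invol_conj S.hz g
    refine ⟨S.conj_mem_r1 hvz hv, fun hW => ?_, Invol.invol_mul_self hvo⟩
    obtain ⟨huk, hup, hu2⟩ := S.t_class_props ⟨huz, hu⟩
    have hc : Commute v u := (S.wS_central huk hW).symm
    have hsq : (v * u) * (v * u) = 1 := by
      rw [S.sq_mul_of_comm hc.eq, Invol.invol_mul_self hvo, hu2, one_mul]
    have ho : orderOf (v * u) = 2 := Invol.invol_iff.2 ⟨hsq, fun e => by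
      have : v = u := (mul_eq_one_iff_eq_inv.1 e).trans (inv_eq_of_mul_eq_one_right hu2)
      exact hup (this ▸ rad_le_par (mem_r1.1 (S.wS_le_r1 hW)).1)⟩
    have he := Invol.invol_zpowers_unique ho S.hz (mem_zpowers _) h
    refine hup ?_
    have : u = v⁻¹ * z := by rw [← he]; group
    rw [this]
    exact rad_le_par (mul_mem (inv_mem (mem_r1.1 (S.wS_le_r1 hW)).1) (S.E_le_rad S.hzE))
  have hVconj : ∀ v ∈ V, IsConj m v := fun v hv => by
    obtain ⟨k, -, e⟩ := S.conj_in_k0 hv.1 hv.2.1 hv.2.2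
    exact isConj_iff.2 ⟨k, e⟩
  split_ifs with hm
  · let e : {p : G × G // IsConj z p.1 ∧ IsConj t p.2 ∧ z ∈ zpowers (p.1 * p.2)} ≃
        Σ v : V, {u // u ∈ {u | u ∈ {u | u ∈ cz z ∧ IsConj t u} ∧ z ∈ zpowers ((v : G) * u)}} :=
      { toFun := fun p => ⟨⟨p.1.1, hVW _ _ p.2.1 p.2.2.1 p.2.2.2⟩,
          ⟨p.1.2, ⟨(hcomm _ _ p.2.1 p.2.2.1 p.2.2.2).2, p.2.2.1⟩, p.2.2.2⟩⟩
        invFun := fun q => ⟨(q.1.1, q.2.1), hm.trans (hVconj _ q.1.2), q.2.2.1.2, q.2.2.2⟩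
        left_inv := fun _ => rfl
        right_inv := fun _ => rfl }
    haveI : Fintype V := Fintype.ofFinite _
    rw [Nat.card_congr e, Nat.card_sigma, Finset.sum_congr rfl (fun v _ =>
      (Nat.card_coe_set_eq _).trans (S.fibre_card ⟨S.toFrame, v.2.1, v.2.2.2, v.2.2.1⟩)),
      Finset.sum_const, Finset.card_univ, ← Nat.card_eq_fintype_card, Nat.card_coe_set_eq]
    rw [show V.ncard = 24 from S.class_ncard]
    rfl
  · rw [Nat.card_eq_zero]
    left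
    refine ⟨fun ⟨⟨v, u⟩, h1, h2, h3⟩ => hm ?_⟩
    exact h1.trans (hVconj v (hVW v u h1 h2 h3)).symm

end Data

end CfsgLib.AutL34
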