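import Cfsg.Agent.Lib.Invol.AutLThreeFour.Fusion

/-!
# An element of order three on `W` commuting with an involution inverting `x`
-/

set_option autoImplicit false

open Subgroup Equiv

namespace CfsgLib.AutL34

universe u

variable {G : Type u} [Group G]

/-- In a group of order 384 the subgroups of order three are conjugate. -/
theorem conj_pm_of_card [Finite G] {K : Subgroup G} (hK : Nat.card K = 384) {x y : G} (hx : x ∈ K)
    (hy : y ∈ K) (hx3 : orderOf x = 3) (hy3 : orderOf y = 3) :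
    ∃ k ∈ K, k * y * k⁻¹ = x ∨ k * y * k⁻¹ = x⁻¹ := by
  haveI : Fact (Nat.Prime 3) := ⟨Nat.prime_three⟩
  have hfac : (384 : ℕ).factorization 3 = 1 := by
    rw [show 384 = 3 * 128 from rfl, Nat.factorization_mul (by norm_num) (by norm_num),
      Finsupp.add_apply, Nat.Prime.factorization Nat.prime_three,
      Nat.factorization_eq_zero_of_not_dvd (n := 128) (p := 3) (by norm_num)]
    simp
  have hord : ∀ g : K, orderOf g = 3 → ∃ P : Sylow 3 K, (P : Subgroup K) = zpowers g := by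
    intro g hg
    refine ⟨Sylow.ofCard (zpowers g) ?_, rfl⟩
    rw [Nat.card_zpowers, hg, hK, hfac, pow_one]
  obtain ⟨P, hP⟩ := hord ⟨x, hx⟩ (by rw [← Subgroup.orderOf_coe]; exact hx3)
  obtain ⟨Q, hQ⟩ := hord ⟨y, hy⟩ (by rw [← Subgroup.orderOf_coe]; exact hy3)
  obtain ⟨k, hk⟩ := MulAction.exists_smul_eq K Q P
  have hmem : k * ⟨y, hy⟩ * k⁻¹ ∈ zpowers (⟨x, hx⟩ : K) := by
    rw [← hP, ← hk, Sylow.smul_def, Sylow.pointwise_smul_def]
    exact ⟨⟨y, hy⟩, by rw [SetLike.mem_coe, hQ]; exact mem_zpowers _, rfl⟩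
  obtain ⟨i, hi⟩ := mem_zpowers_iff.1 hmem
  have hi' : x ^ i = (k : G) * y * (k : G)⁻¹ := congrArg Subtype.val hi
  refine ⟨k, k.2, ?_⟩
  rw [← hi']
  have h3 : (x : G) ^ (3 : ℤ) = 1 := by
    rw [show (3 : ℤ) = ((3 : ℕ) : ℤ) from rfl, zpow_natCast, ← hx3, pow_orderOf_eq_one]
  obtain ⟨q, r, hr, hqr⟩ : ∃ q r : ℤ, (r = 0 ∨ r = 1 ∨ r = 2) ∧ i = 3 * q + r :=
    ⟨i / 3, i % 3, by omega, by omega⟩
  have hxi : x ^ i = x ^ r := by rw [hqr, zpow_add, zpow_mul, h3, one_zpow, one_mul]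
  rcases hr with rfl | rfl | rfl
  · rw [hxi, zpow_zero, eq_comm, conj_eq_one_iff] at hi'
    rw [hi', orderOf_one] at hy3
    exact absurd hy3 (by norm_num)
  · left; rw [hxi, zpow_one]
  · right
    rw [hxi]
    refine eq_inv_of_mul_eq_one_left ?_
    rw [← h3, show (3 : ℤ) = 2 + 1 from rfl, zpow_add, zpow_one]

namespace Frame

variable {z : G} {E : Subgroup G} {φ : ↥(cz z) →* Perm (Fin 4)} {x a b : G}
  (S : Frame z E φ x a b)
include S

theorem comm_x_mem_par {h : G} (hh : h ∈ cz z) (hx : h * x = x * h) : h ∈ par φ := by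
  by_contra hp
  have h4 := S.inverts_x S.hx S.hx3 hh hp
  rw [conj_iff_comm.2 hx] at h4
  refine S.x_notMem_rad S.hx S.hx3 ?_
  have h5 := mul_mem h4 h4
  have e3 : x * x * x = 1 := by rw [← S.x_cube S.hx S.hx3, pow_succ, sq]
  rwa [← mul_assoc, e3, one_mul] at h5

theorem inverts_x_notMem_par {h : G} (hh : h * x * h⁻¹ = x⁻¹) : h ∉ par φ := by
  intro hp
  have hhc := par_le hp
  refine S.x_notMem_rad S.hx S.hx3 ?_
  have e3 : x * x * x = 1 := by rw [← S.x_cube S.hx S.hx3, pow_succ, sq]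
  have key : ∀ r, r ∈ rad φ → r * x * r⁻¹ = x⁻¹ → x ∈ rad φ := by
    intro r hr e
    have h1 : r * (x * r⁻¹ * x⁻¹) ∈ rad φ := mul_mem hr (rad_normal S.hx (inv_mem hr))
    rw [show r * (x * r⁻¹ * x⁻¹) = r * x * r⁻¹ * x⁻¹ by group, e] at h1
    have e4 : x⁻¹ * x⁻¹ = x := by
      calc x⁻¹ * x⁻¹ = x⁻¹ * x⁻¹ * (x * x * x) := by rw [e3, mul_one]
        _ = x := by group
    rwa [e4] at h1
  rcases S.par_cases S.hx S.hx3 hp with c | c | c
  · exact key h c hh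
  · exact key _ c (by rw [show h * x * x * (h * x)⁻¹ = h * x * h⁻¹ by group, hh])
  · exact key _ c (by rw [show h * x⁻¹ * x * (h * x⁻¹)⁻¹ = h * x * h⁻¹ by group, hh])

variable [Finite G]

theorem k0_comm_x {h : G} (hh : h ∈ k0 z a) (hx : h * x = x * h) :
    h ∈ wS z a ∨ h * x ∈ wS z a ∨ h * x⁻¹ ∈ wS z a := by
  obtain ⟨hz, ha⟩ := mem_k0.1 hh
  have hxa : Commute x a := S.ax.symm
  have key : ∀ k, k ∈ rad φ → Commute k x → Commute k a → k ∈ wS z a := fun k h1 h2 h3 =>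
    S.r1_x_fpf (mem_r1.2 ⟨h1, h3⟩) (by rw [conj_iff_comm.2 h2.symm.eq, mul_inv_cancel]; exact one_mem _)
  rcases S.par_cases S.hx S.hx3 (S.comm_x_mem_par hz hx) with c | c | c
  · exact Or.inl (key h c hx ha)
  · exact Or.inr (Or.inl (key _ c (Commute.mul_left hx (Commute.refl x)) (Commute.mul_left ha hxa)))
  · exact Or.inr (Or.inr (key _ c (Commute.mul_left hx (Commute.refl x).inv_left)
      (Commute.mul_left ha hxa.inv_left)))

end Frame

/-- All data: the involution `t` and the element `d` cycling `W`. -/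
structure Full (z : G) (E : Subgroup G) (φ : ↥(cz z) →* Perm (Fin 4)) (x a b t d : G) : Prop
    extends Glob z E φ x a b, OutFrame z E φ x a b t where
  t2 : t * t = 1
  dz : d * z * d⁻¹ = a
  da : d * a * d⁻¹ = a * z
  dx : d * x = x * d
  dt : d * t = t * d

namespace Glob

variable {z : G} {E : Subgroup G} {φ : ↥(cz z) →* Perm (Fin 4)} {x a b : G}
  (S : Glob z E φ x a b)
include S

theorem cycle_az {d : G} (h1 : d * z * d⁻¹ = a) (h2 : d * a * d⁻¹ = a * z) :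
    d * (a * z) * d⁻¹ = z := by
  rw [show d * (a * z) * d⁻¹ = d * a * d⁻¹ * (d * z * d⁻¹) by group, h1, h2, mul_assoc,
    ← S.zcomm_E S.ha, ← mul_assoc, S.aa, one_mul]

theorem cycle_k0 {d : G} (h1 : d * z * d⁻¹ = a) (h2 : d * a * d⁻¹ = a * z) {k : G}
    (hk : k ∈ k0 z a) : d * k * d⁻¹ ∈ k0 z a := by
  obtain ⟨hkz, hka⟩ := mem_k0.1 hk
  have g1 : Commute (d * k * d⁻¹) (d * z * d⁻¹) :=
    Commute.map (mem_cz.1 hkz : Commute k z) (MulAut.conj d).toMonoidHom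
  have g2 : Commute (d * k * d⁻¹) (d * (a * z) * d⁻¹) :=
    Commute.map (Commute.mul_right (hka : Commute k a) (mem_cz.1 hkz : Commute k z)) (MulAut.conj d).toMonoidHom
  rw [h1] at g1
  rw [S.cycle_az h1 h2] at g2
  exact mem_k0.2 ⟨mem_cz.2 g2.eq, g1.eq⟩

variable [Finite G]

theorem exists_full : ∃ t d, Full z E φ x a b t d := by
  obtain ⟨d0, h1, h2⟩ := S.exists_cycle
  have e3 : x * x * x = 1 := by rw [← S.x_cube S.hx S.hx3, pow_succ, sq]
  obtain ⟨k, hk, hkx⟩ := conj_pm_of_card S.card_k0 S.x_mem_k0 (S.cycle_k0 h1 h2 S.x_mem_k0) S.hx3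
    (by
      show orderOf (MulAut.conj d0 x) = 3
      rw [MulEquiv.orderOf_eq, S.hx3])
  set g1 := k * d0 with hg1
  have hkW : ∀ w ∈ wS z a, k * w * k⁻¹ = w := fun w hw => S.wS_conj hk hw
  have g1z : g1 * z * g1⁻¹ = a := by
    rw [show g1 * z * g1⁻¹ = k * (d0 * z * d0⁻¹) * k⁻¹ by rw [hg1]; group, h1, hkW a S.a_mem_wS]
  have g1a : g1 * a * g1⁻¹ = a * z := by
    rw [show g1 * a * g1⁻¹ = k * (d0 * a * d0⁻¹) * k⁻¹ by rw [hg1]; group, h2, hkW _ S.az_mem_wS]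
  have g1az := S.cycle_az g1z g1a
  have g1x : g1 * x * g1⁻¹ = x ∨ g1 * x * g1⁻¹ = x⁻¹ := by
    rw [show g1 * x * g1⁻¹ = k * (d0 * x * d0⁻¹) * k⁻¹ by rw [hg1]; group]
    exact hkx
  obtain ⟨d, dz, da, dx⟩ : ∃ d : G, d * z * d⁻¹ = a ∧ d * a * d⁻¹ = a * z ∧ d * x = x * d := by
    refine ⟨g1 * g1 * g1 * g1, ?_, ?_, conj_iff_comm.1 ?_⟩
    · rw [show g1 * g1 * g1 * g1 * z * (g1 * g1 * g1 * g1)⁻¹ =
        g1 * (g1 * (g1 * (g1 * z * g1⁻¹) * g1⁻¹) * g1⁻¹) * g1⁻¹ by group, g1z, g1a, g1az, g1z]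
    · rw [show g1 * g1 * g1 * g1 * a * (g1 * g1 * g1 * g1)⁻¹ =
        g1 * (g1 * (g1 * (g1 * a * g1⁻¹) * g1⁻¹) * g1⁻¹) * g1⁻¹ by group, g1a, g1az, g1z, g1a]
    · rcases g1x with e | e
      · rw [show g1 * g1 * g1 * g1 * x * (g1 * g1 * g1 * g1)⁻¹ =
          g1 * (g1 * (g1 * (g1 * x * g1⁻¹) * g1⁻¹) * g1⁻¹) * g1⁻¹ by group, e, e, e, e]
      · have e' : g1 * x⁻¹ * g1⁻¹ = x := by
          rw [show g1 * x⁻¹ * g1⁻¹ = (g1 * x * g1⁻¹)⁻¹ by group, e, inv_inv]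
        rw [show g1 * g1 * g1 * g1 * x * (g1 * g1 * g1 * g1)⁻¹ =
          g1 * (g1 * (g1 * (g1 * x * g1⁻¹) * g1⁻¹) * g1⁻¹) * g1⁻¹ by group, e, e', e, e']
  obtain ⟨t0, T⟩ := S.exists_outFrame
  have hdk := fun k (hk : k ∈ k0 z a) => S.cycle_k0 dz da (k := k) hk
  have hdtx : d * t0 * d⁻¹ * x * (d * t0 * d⁻¹)⁻¹ = x⁻¹ := by
    have hd' : d⁻¹ * x * d = x := by rw [mul_assoc, ← dx, inv_mul_cancel_left]
    rw [show d * t0 * d⁻¹ * x * (d * t0 * d⁻¹)⁻¹ = d * (t0 * (d⁻¹ * x * d) * t0⁻¹) * d⁻¹ by group,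
      hd', T.tx]
    exact conj_iff_comm.2 (Commute.inv_right dx).eq
  -- `d t d⁻¹ = w x^j t`
  set c := d * t0 * d⁻¹ * t0⁻¹ with hc
  have hck : c ∈ k0 z a := mul_mem (hdk t0 T.t_mem_k0) (inv_mem T.t_mem_k0)
  have hcx : c * x = x * c := by
    refine conj_iff_comm.1 ?_
    rw [show c * x * c⁻¹ = d * t0 * d⁻¹ * (t0⁻¹ * x * t0) * (d * t0 * d⁻¹)⁻¹ by rw [hc]; group]
    have : t0⁻¹ * x * t0 = x⁻¹ := by
      have h := T.tx
      calc t0⁻¹ * x * t0 = (t0⁻¹ * (t0 * x * t0⁻¹) * t0)⁻¹ := by rw [h]; group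
        _ = x⁻¹ := by group
    rw [this, show d * t0 * d⁻¹ * x⁻¹ * (d * t0 * d⁻¹)⁻¹ = (d * t0 * d⁻¹ * x * (d * t0 * d⁻¹)⁻¹)⁻¹ by
      group, hdtx, inv_inv]
  obtain ⟨w, hw, y, hy, hcwy⟩ : ∃ w ∈ wS z a, ∃ y, (y = 1 ∨ y = x⁻¹ ∨ y = x) ∧ c = w * y := by
    rcases S.k0_comm_x hck hcx with h | h | h
    · exact ⟨c, h, 1, Or.inl rfl, (mul_one c).symm⟩
    · exact ⟨_, h, x⁻¹, Or.inr (Or.inl rfl), by group⟩
    · exact ⟨_, h, x, Or.inr (Or.inr rfl), by group⟩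
  have hyx : Commute y x := by
    rcases hy with rfl | rfl | rfl
    exacts [Commute.one_left x, (Commute.refl x).inv_left, Commute.refl _]
  have hyk : y ∈ k0 z a := by
    rcases hy with rfl | rfl | rfl
    exacts [one_mem _, inv_mem S.x_mem_k0, S.x_mem_k0]
  have hyt : t0 * y * t0⁻¹ = y⁻¹ := by
    rcases hy with rfl | rfl | rfl
    · simp
    · rw [show t0 * x⁻¹ * t0⁻¹ = (t0 * x * t0⁻¹)⁻¹ by group, T.tx]
    · exact T.tx
  have hwt : Commute w t0 := (S.wS_central T.t_mem_k0 hw).symm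
  have hdt : d * t0 * d⁻¹ = w * y * t0 := by rw [← hcwy, hc]; group
  have hsq : d * (t0 * t0) * d⁻¹ = t0 * t0 := by
    calc d * (t0 * t0) * d⁻¹ = (d * t0 * d⁻¹) * (d * t0 * d⁻¹) := by group
      _ = w * y * (t0 * w) * (y * t0) := by rw [hdt]; group
      _ = w * y * (w * t0) * (y * t0) := by rw [hwt.eq]
      _ = w * (y * w) * ((t0 * y * t0⁻¹) * (t0 * t0)) := by group
      _ = w * (w * y) * (y⁻¹ * (t0 * t0)) := by rw [S.wS_central hyk hw, hyt]
      _ = (w * w) * (t0 * t0) := by group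
      _ = t0 * t0 := by rw [S.wS_sq hw, one_mul]
  have ht02 : t0 * t0 = 1 := T.tt.resolve_right fun e => by
    rw [e, dz] at hsq
    exact S.ab_ne.2.1 hsq
  -- the component in `W` is `1` or `a z`
  have hbd : ∀ v ∈ wS z a, b * d * b * v * (b * d * b)⁻¹ = d⁻¹ * v * d := by
    have hbz : b * z * b⁻¹ = z := S.conj_z (S.hEH S.hb)
    have hba : b * a * b⁻¹ = a * z := S.b_conj_a
    have hbaz : b * (a * z) * b⁻¹ = a := by rw [S.conj_mul_z (S.hEH S.hb), hba, S.zcancel]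
    have i1 : d⁻¹ * z * d = a * z := by
      have h := S.cycle_az dz da
      calc d⁻¹ * z * d = d⁻¹ * (d * (a * z) * d⁻¹) * d := by rw [h]
        _ = a * z := by group
    have i2 : d⁻¹ * a * d = z := by
      calc d⁻¹ * a * d = d⁻¹ * (d * z * d⁻¹) * d := by rw [dz]
        _ = z := by group
    have key : ∀ v, b * d * b * v * (b * d * b)⁻¹ = b * (d * (b * v * b⁻¹) * d⁻¹) * b⁻¹ := fun v => by
      group
    have i3 : b * d * b * z * (b * d * b)⁻¹ = a * z := by rw [key, hbz, dz, hba]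
    have i4 : b * d * b * a * (b * d * b)⁻¹ = z := by rw [key, hba, S.cycle_az dz da, hbz]
    intro v hv
    rcases S.mem_wS.1 hv with rfl | rfl | rfl | rfl
    · group
    · rw [i3, i1]
    · rw [i4, i2]
    · rw [show b * d * b * (a * z) * (b * d * b)⁻¹ =
        (b * d * b * a * (b * d * b)⁻¹) * (b * d * b * z * (b * d * b)⁻¹) by group, i4, i3,
        show d⁻¹ * (a * z) * d = (d⁻¹ * a * d) * (d⁻¹ * z * d) by group, i1, i2]
  have hbx : b * x * b⁻¹ = x := conj_iff_comm.2 S.bx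
  have hbinv : b⁻¹ = b := inv_eq_of_mul_eq_one_right S.bb
  -- `bdb = d⁻¹ k'` with `k' ∈ W⟨x⟩`
  set k' := d * (b * d * b) with hk'
  have hk'W : ∀ v ∈ wS z a, k' * v * k'⁻¹ = v := fun v hv => by
    rw [show k' * v * k'⁻¹ = d * (b * d * b * v * (b * d * b)⁻¹) * d⁻¹ by rw [hk']; group, hbd v hv]
    group
  have hk'k : k' ∈ k0 z a := mem_k0.2 ⟨mem_cz_conj.2 (hk'W z S.z_mem_wS),
    conj_iff_comm.1 (hk'W a S.a_mem_wS)⟩
  have hk'x : k' * x = x * k' := by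
    have hb' : Commute b x := S.bx
    exact ((Commute.mul_left (dx : Commute d x) ((hb'.mul_left dx).mul_left hb'))).eq
  obtain ⟨w', hw', y', hy', hk'wy⟩ : ∃ w' ∈ wS z a, ∃ y', (y' = 1 ∨ y' = x⁻¹ ∨ y' = x) ∧ k' = w' * y' := by
    rcases S.k0_comm_x hk'k hk'x with h | h | h
    · exact ⟨k', h, 1, Or.inl rfl, (mul_one k').symm⟩
    · exact ⟨_, h, x⁻¹, Or.inr (Or.inl rfl), by group⟩
    · exact ⟨_, h, x, Or.inr (Or.inr rfl), by group⟩
  have hy'k : y' ∈ k0 z a := by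
    rcases hy' with rfl | rfl | rfl
    exacts [one_mem _, inv_mem S.x_mem_k0, S.x_mem_k0]
  have hy'x : Commute y' x := by
    rcases hy' with rfl | rfl | rfl
    exacts [Commute.one_left x, (Commute.refl x).inv_left, Commute.refl _]
  have hy't : t0 * y' * t0⁻¹ = y'⁻¹ := by
    rcases hy' with rfl | rfl | rfl
    · simp
    · rw [show t0 * x⁻¹ * t0⁻¹ = (t0 * x * t0⁻¹)⁻¹ by group, T.tx]
    · exact T.tx
  -- two values of the conjugate of `t0` by `bdb`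
  have hv1 : (b * d * b) * t0 * (b * d * b)⁻¹ = (b * w * b) * y * t0 := by
    have htb : b * t0 * b⁻¹ = t0 := conj_iff_comm.2 T.tb.symm
    have hby : b * y * b⁻¹ = y := by
      rcases hy with rfl | rfl | rfl
      · simp
      · rw [show b * x⁻¹ * b⁻¹ = (b * x * b⁻¹)⁻¹ by group, hbx]
      · exact hbx
    calc (b * d * b) * t0 * (b * d * b)⁻¹ = b * (d * (b * t0 * b⁻¹) * d⁻¹) * b⁻¹ := by group
      _ = b * (w * y * t0) * b⁻¹ := by rw [htb, hdt]
      _ = (b * w * b⁻¹) * (b * y * b⁻¹) * (b * t0 * b⁻¹) := by group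
      _ = (b * w * b) * y * t0 := by rw [hby, htb, hbinv]
  have hv2 : (b * d * b) * t0 * (b * d * b)⁻¹ =
      (d⁻¹ * w * d)⁻¹ * (d⁻¹ * (y' * y') * d * (d⁻¹ * y⁻¹ * d)) * t0 := by
    have hw't : Commute w' t0 := (S.wS_central T.t_mem_k0 hw').symm
    have e1 : k' * t0 * k'⁻¹ = y' * y' * t0 := by
      calc k' * t0 * k'⁻¹ = w' * (y' * t0 * y'⁻¹) * w'⁻¹ := by rw [hk'wy]; group
        _ = w' * (y' * (t0 * y' * t0⁻¹)⁻¹⁻¹⁻¹ * t0) * w'⁻¹ := by group
        _ = w' * (y' * y' * t0) * w'⁻¹ := by rw [hy't]; group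
        _ = y' * y' * t0 := by
          refine conj_iff_comm.2 ?_
          have h1 : Commute w' y' := (S.wS_central hy'k hw').symm
          exact ((h1.mul_right h1).mul_right hw't).eq
    have e2 : d⁻¹ * t0 * d = (d⁻¹ * w * d)⁻¹ * (d⁻¹ * y⁻¹ * d) * t0 := by
      calc d⁻¹ * t0 * d = d⁻¹ * (y⁻¹ * w⁻¹ * (d * t0 * d⁻¹)) * d := by rw [hdt]; group
        _ = d⁻¹ * (w⁻¹ * y⁻¹ * (d * t0 * d⁻¹)) * d := by
          rw [(Commute.inv_inv (show Commute y w from S.wS_central hyk hw)).eq]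
        _ = _ := by group
    calc (b * d * b) * t0 * (b * d * b)⁻¹ = d⁻¹ * (k' * t0 * k'⁻¹) * d := by rw [hk']; group
      _ = d⁻¹ * (y' * y') * d * (d⁻¹ * t0 * d) := by rw [e1]; group
      _ = d⁻¹ * (y' * y') * d * (d⁻¹ * w * d)⁻¹ * (d⁻¹ * y⁻¹ * d) * t0 := by rw [e2]; group
      _ = _ := by
        have hc' : Commute (d⁻¹ * (y' * y') * d) (d⁻¹ * w * d)⁻¹ := by
          have h1 : Commute (y' * y') w⁻¹ := S.wS_central (mul_mem hy'k hy'k) (inv_mem hw)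
          have h2 : Commute (d⁻¹ * (y' * y') * d⁻¹⁻¹) (d⁻¹ * w⁻¹ * d⁻¹⁻¹) :=
            Commute.map h1 (MulAut.conj d⁻¹).toMonoidHom
          rw [inv_inv] at h2
          rwa [show (d⁻¹ * w * d)⁻¹ = d⁻¹ * w⁻¹ * d by group]
        rw [hc'.eq]; group
  have hdy : ∀ u, Commute u x → (u = 1 ∨ u = x⁻¹ ∨ u = x ∨ u = x * x ∨ u = x⁻¹ * x⁻¹) → d⁻¹ * u * d = u := by
    intro u _ hu
    have hd' : Commute d x := dx
    have : Commute d u := by
      rcases hu with rfl | rfl | rfl | rfl | rfl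
      exacts [Commute.one_right d, hd'.inv_right, hd', hd'.mul_right hd', hd'.inv_right.mul_right hd'.inv_right]
    rw [mul_assoc, ← this.eq, inv_mul_cancel_left]
  have hWcond : b * w * b = d⁻¹ * w * d := by
    have hy2 : d⁻¹ * (y' * y') * d = y' * y' := hdy _ (hy'x.mul_left hy'x) (by
      rcases hy' with rfl | rfl | rfl <;> simp)
    have hy1 : d⁻¹ * y⁻¹ * d = y⁻¹ := hdy _ hyx.inv_left (by
      rcases hy with rfl | rfl | rfl <;> simp)
    have h := hv1.symm.trans hv2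
    rw [hy2, hy1] at h
    have h' := mul_right_cancel h
    set P := (b * w * b)
    set Q := (d⁻¹ * w * d)
    have hP : P ∈ wS z a := by
      have := S.wS_normal (S.hEH S.hb) hw
      rwa [hbinv] at this
    have hQ : Q ∈ wS z a := by
      show d⁻¹ * w * d ∈ wS z a
      rw [← hbd w hw]
      have h1 : d * k' * d⁻¹ ∈ k0 z a := hdk k' hk'k
      have hb1 := S.wS_normal (S.hEH S.hb) hw
      rw [hbinv] at hb1
      have hd1 : ∀ v ∈ wS z a, d * v * d⁻¹ ∈ wS z a := by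
        intro v hv
        rcases S.mem_wS.1 hv with rfl | rfl | rfl | rfl
        · simp
        · rw [dz]; exact S.a_mem_wS
        · rw [da]; exact S.az_mem_wS
        · rw [S.cycle_az dz da]; exact S.z_mem_wS
      rw [show b * d * b * w * (b * d * b)⁻¹ = b * (d * (b * w * b⁻¹) * d⁻¹) * b⁻¹ by group]
      exact S.wS_normal (S.hEH S.hb) (hd1 _ (S.wS_normal (S.hEH S.hb) hw))
    rw [S.wS_inv hQ] at h'
    -- the quotient lies in `W ∩ ⟨x⟩`
    have hX : Q⁻¹ * P ∈ zpowers x := by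
      have e : Q⁻¹ * P = (y' * y') * y⁻¹ * y⁻¹ := by
        calc Q⁻¹ * P = Q⁻¹ * (P * y) * y⁻¹ := by group
          _ = (y' * y') * y⁻¹ * y⁻¹ := by rw [h']; group
      rw [e]
      have hmem : ∀ u, (u = 1 ∨ u = x⁻¹ ∨ u = x) → u ∈ zpowers x := by
        rintro u (rfl | rfl | rfl)
        exacts [one_mem _, inv_mem (mem_zpowers x), mem_zpowers _]
      exact mul_mem (mul_mem (mul_mem (hmem _ hy') (hmem _ hy')) (inv_mem (hmem _ hy)))
        (inv_mem (hmem _ hy))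
    have h1 := S.wS_sq (mul_mem (inv_mem hQ) hP)
    have h2 : orderOf (Q⁻¹ * P) ∣ Nat.gcd 2 3 := by
      refine Nat.dvd_gcd (orderOf_dvd_of_pow_eq_one (by rw [sq]; exact h1)) ?_
      rw [← S.hx3]
      exact orderOf_dvd_of_mem_zpowers hX
    rw [show Nat.gcd 2 3 = 1 from rfl, Nat.dvd_one, orderOf_eq_one_iff, inv_mul_eq_one] at h2
    exact h2.symm
  have hzne := S.zne
  obtain ⟨ha1, haz, -, -, -, -⟩ := S.ab_ne
  obtain ⟨t, T', t2, hdt'⟩ : ∃ t, OutFrame z E φ x a b t ∧ t * t = 1 ∧ d * t * d⁻¹ = y * t := by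
    rcases S.mem_wS.1 hw with e | e | e | e
    · exact ⟨t0, T, ht02, by rw [hdt, e, one_mul]⟩
    · exfalso
      have e5 : b * z * b⁻¹ = z := S.conj_z (S.hEH S.hb)
      rw [hbinv] at e5
      rw [e, e5] at hWcond
      have h := congrArg (fun g => d * g * d⁻¹) hWcond
      simp only [show d * (d⁻¹ * z * d) * d⁻¹ = z by group, dz] at h
      exact haz h
    · exfalso
      have e5 : b * a * b⁻¹ = a * z := S.b_conj_a
      rw [hbinv] at e5
      rw [e, e5] at hWcond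
      have h := congrArg (fun g => d * g * d⁻¹) hWcond
      simp only [show d * (d⁻¹ * a * d) * d⁻¹ = a by group, S.cycle_az dz da] at h
      exact haz h.symm
    · have hzt : Commute z t0 := (mem_cz.1 T.ht : Commute t0 z).symm
      have ht2 : z * t0 * (z * t0) = 1 := by rw [S.sq_mul_of_comm hzt.eq, S.zz, ht02, one_mul]
      have hzx : Commute z x := (S.zcomm S.hx).symm
      refine ⟨z * t0, ⟨S.toFrame, mul_mem (S.hEH S.hzE) T.ht,
        fun h => T.htp (((par φ).mul_mem_cancel_left (rad_le_par (S.E_le_rad S.hzE))).1 h), ?_,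
        (Commute.mul_left (S.zcomm_E S.ha : Commute a z).symm T.ta).eq,
        (Commute.mul_left (S.zcomm_E S.hb : Commute b z).symm T.tb).eq, Or.inl ht2⟩, ht2, ?_⟩
      · rw [show z * t0 * x * (z * t0)⁻¹ = z * (t0 * x * t0⁻¹) * z⁻¹ by group, T.tx]
        exact conj_iff_comm.2 hzx.inv_right.eq
      · have hyz : Commute y z := mem_cz.1 (mem_k0.1 hyk).1
        calc d * (z * t0) * d⁻¹ = (d * z * d⁻¹) * (d * t0 * d⁻¹) := by group
          _ = a * (a * z * y * t0) := by rw [dz, hdt, e]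
          _ = a * a * (z * y) * t0 := by group
          _ = y * z * t0 := by rw [S.aa, one_mul, hyz.eq]
          _ = y * (z * t0) := mul_assoc _ _ _
  refine ⟨t, d * y, S, T'.ht, T'.htp, T'.tx, T'.ta, T'.tb, Or.inl t2, t2, ?_, ?_, ?_, ?_⟩
  · rw [show d * y * z * (d * y)⁻¹ = d * (y * z * y⁻¹) * d⁻¹ by group, S.wS_conj hyk S.z_mem_wS, dz]
  · rw [show d * y * a * (d * y)⁻¹ = d * (y * a * y⁻¹) * d⁻¹ by group, S.wS_conj hyk S.a_mem_wS, da]
  · exact (Commute.mul_left (dx : Commute d x) hyx).eq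
  · refine conj_iff_comm.1 ?_
    have hy3 : y * y * y = 1 := by
      rcases hy with rfl | rfl | rfl
      · simp
      · calc x⁻¹ * x⁻¹ * x⁻¹ = (x * x * x)⁻¹ := by group
          _ = 1 := by rw [e3, inv_one]
      · exact e3
    have hty : t * y * t⁻¹ = y⁻¹ := by
      rcases hy with rfl | rfl | rfl
      · simp
      · rw [show t * x⁻¹ * t⁻¹ = (t * x * t⁻¹)⁻¹ by group, T'.tx]
      · exact T'.tx
    have hdyy : d * (y * y) * d⁻¹ = y * y := by
      have hd' : Commute d y := by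
        rcases hy with rfl | rfl | rfl
        exacts [Commute.one_right d, Commute.inv_right (dx : Commute d x), dx]
      exact conj_iff_comm.2 (hd'.mul_right hd').eq
    calc d * y * t * (d * y)⁻¹ = d * (y * (t * y * t⁻¹)⁻¹ * t) * d⁻¹ := by group
      _ = d * (y * y * t) * d⁻¹ := by rw [hty, inv_inv]
      _ = d * (y * y) * d⁻¹ * (d * t * d⁻¹) := by group
      _ = y * y * (y * t) := by rw [hdyy, hdt']
      _ = t := by rw [← mul_assoc, hy3, one_mul]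

end Glob

end CfsgLib.AutL34
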