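import Mathlib.GroupTheory.PGroup
import Mathlib.GroupTheory.Index
import Cfsg.Agent.Lib.Coprime.Solvable

/-!
# General facts used for the centralizer `(Q₈ ∘ D₈).S₄`
-/

set_option autoImplicit false

open Subgroup

namespace CfsgLib.AutL34

variable {G : Type*} [Group G] [Finite G]

omit [Finite G] in
theorem conj_mem_zpow_iff {K : Subgroup G} {x : G} {n : ℕ} (hn : 0 < n) (hxn : x ^ n = 1)
    (h : ∀ k ∈ K, x * k * x⁻¹ ∈ K) : ∀ k ∈ K, x⁻¹ * k * x ∈ K := by
  intro k hk
  have hpow : ∀ j : ℕ, x ^ j * k * (x ^ j)⁻¹ ∈ K := by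
    intro j
    induction j with
    | zero => simpa using hk
    | succ j ih =>
      have e : x ^ (j + 1) * k * (x ^ (j + 1))⁻¹ = x * (x ^ j * k * (x ^ j)⁻¹) * x⁻¹ := by
        rw [pow_succ']; group
      rw [e]; exact h _ ih
  have e : x ^ (n - 1) = x⁻¹ :=
    eq_inv_of_mul_eq_one_right (by rw [← pow_succ', Nat.sub_add_cancel hn, hxn])
  have := hpow (n - 1)
  rwa [e, inv_inv] at this

/-- Fixed points of an element of prime order on a subgroup it normalizes. -/
theorem card_fixed_modEq {K : Subgroup G} {r : ℕ} [Fact r.Prime] {u : G} (hu : u ^ r = 1)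
    (hK : ∀ k ∈ K, u * k * u⁻¹ ∈ K) :
    Nat.card K ≡ Nat.card ↥(K ⊓ centralizer ({u} : Set G)) [MOD r] := by
  have hK' := conj_mem_zpow_iff (Fact.out : r.Prime).pos hu hK
  have hN : zpowers u ≤ normalizer (K : Set G) := by
    rw [zpowers_le, Subgroup.mem_normalizer_iff]
    intro k
    refine ⟨hK k, fun h => ?_⟩
    have := hK' _ h
    rwa [show u⁻¹ * (u * k * u⁻¹) * u = k by group] at this
  letI : MulAction ↥(zpowers u) ↥K :=
    MulAction.compHom ↥K ((Subgroup.normalizerMonoidHom K).comp (Subgroup.inclusion hN))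
  have hp : IsPGroup r ↥(zpowers u) := fun g => ⟨1, Subtype.ext (by
    obtain ⟨i, hi⟩ := mem_zpowers_iff.1 g.2
    rw [pow_one, Subgroup.coe_pow, ← hi, ← zpow_natCast, ← zpow_mul, mul_comm, zpow_mul, zpow_natCast,
      hu, one_zpow]
    rfl)⟩
  have h0 := hp.card_modEq_card_fixedPoints ↥K
  suffices h : Nat.card ↥(MulAction.fixedPoints ↥(zpowers u) ↥K) =
      Nat.card ↥(K ⊓ centralizer ({u} : Set G)) by rwa [h] at h0
  have key : ∀ (g : ↥(zpowers u)) (v : ↥K), ((g • v : ↥K) : G) = (g : G) * v * (g : G)⁻¹ :=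
    fun _ _ => rfl
  refine Nat.card_congr ⟨fun v => ⟨v.1.1, v.1.2, mem_centralizer_singleton_iff.2 ?_⟩,
    fun v => ⟨⟨v.1, v.2.1⟩, fun g => Subtype.ext ?_⟩, fun _ => rfl, fun _ => rfl⟩
  · have h := congrArg Subtype.val (v.2 ⟨u, mem_zpowers u⟩)
    rw [key] at h
    exact (mul_inv_eq_iff_eq_mul.1 h).symm
  · obtain ⟨i, hi⟩ := mem_zpowers_iff.1 g.2
    have hc : Commute u v.1 := (mem_centralizer_singleton_iff.1 v.2.2).symm
    rw [key, ← hi, (hc.zpow_left i).eq, mul_inv_cancel_right]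

/-- A subgroup with pairwise products of outside elements inside has index at most two. -/
theorem card_le_two_mul {A B : Subgroup G} (hBA : B ≤ A)
    (h : ∀ a ∈ A, a ∉ B → ∀ b ∈ A, b ∉ B → a * b ∈ B) : Nat.card A ≤ 2 * Nat.card B := by
  classical
  by_cases hall : A ≤ B
  · have := card_le_of_le hall; omega
  obtain ⟨a₀, ha₀, ha₀B⟩ := SetLike.not_le_iff_exists.1 hall
  let f : A → B × Bool := fun a =>
    if ha : (a : G) ∈ B then (⟨a, ha⟩, false) else (⟨a₀ * a, h a₀ ha₀ ha₀B a a.2 ha⟩, true)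
  have hinj : Function.Injective f := by
    intro a b hab
    simp only [f] at hab
    apply Subtype.ext
    split_ifs at hab with ha hb
    · simpa using hab
    · simp at hab
    · simp at hab
    · simpa using hab
  have := Nat.card_le_card_of_injective f hinj
  rw [Nat.card_prod, Nat.card_eq_fintype_card (α := Bool), Fintype.card_bool] at this
  omega

omit [Finite G] in
/-- Cube of conjugation: three conjugates generate a fixed product. -/
theorem conj_three {x e : G} (hx3 : x ^ 3 = 1) :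
    x * (x * (x * e * x⁻¹) * x⁻¹) * x⁻¹ = e := by
  have e3 : x * x * x = 1 := by rw [← hx3, pow_succ, sq]
  calc x * (x * (x * e * x⁻¹) * x⁻¹) * x⁻¹ = (x * x * x) * e * (x * x * x)⁻¹ := by group
    _ = e := by rw [e3]; simp

/-- In a finite `p`-group a normal subgroup properly containing a normal subgroup contains an
element outside it that is central modulo it. -/
theorem exists_central_mod {p : ℕ} [Fact p.Prime] {T M N : Subgroup G} (hT : IsPGroup p T)
    (hMN : M ≤ N) (hNT : N ≤ T) (hlt : ¬ N ≤ M)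
    (hMn : ∀ t ∈ T, ∀ m ∈ M, t * m * t⁻¹ ∈ M) (hNn : ∀ t ∈ T, ∀ n ∈ N, t * n * t⁻¹ ∈ N) :
    ∃ n ∈ N, n ∉ M ∧ ∀ t ∈ T, t * n * t⁻¹ * n⁻¹ ∈ M := by
  haveI : (M.subgroupOf T).Normal := ⟨fun m hm t => hMn t t.2 m hm⟩
  haveI hN : (N.subgroupOf T).Normal := ⟨fun n hn t => hNn t t.2 n hn⟩
  let q := QuotientGroup.mk' (M.subgroupOf T)
  haveI : ((N.subgroupOf T).map q).Normal := hN.map q (QuotientGroup.mk'_surjective _)
  haveI : Group.IsNilpotent (↥T ⧸ M.subgroupOf T) := (hT.to_quotient _).isNilpotent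
  have hne : (N.subgroupOf T).map q ≠ ⊥ := by
    intro h
    apply hlt
    intro n hn
    have h1 : q ⟨n, hNT hn⟩ ∈ (N.subgroupOf T).map q := ⟨⟨n, hNT hn⟩, hn, rfl⟩
    rw [h, mem_bot, QuotientGroup.mk'_apply, QuotientGroup.eq_one_iff] at h1
    exact h1
  obtain ⟨w, hw, hw1⟩ := (Subgroup.bot_or_exists_ne_one _).resolve_left
    (Coprime.nilpotent_inf_center_ne_bot _ hne)
  obtain ⟨⟨n, hn, rfl⟩, hc⟩ := hw
  refine ⟨(n : G), hn, fun h => hw1 ((QuotientGroup.eq_one_iff n).2 h), fun t ht => ?_⟩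
  have h1 : q (⟨t, ht⟩ * n * ⟨t, ht⟩⁻¹ * n⁻¹) = 1 := by
    rw [map_mul, map_mul, map_mul, map_inv, map_inv, mem_center_iff.1 hc (q ⟨t, ht⟩),
      mul_inv_cancel_right, mul_inv_cancel]
  exact (QuotientGroup.eq_one_iff (N := M.subgroupOf T) _).1 h1

end CfsgLib.AutL34
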