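import Cfsg.Agent.Lib.Invol.AutLThreeFour.Radical
import Cfsg.Agent.Lib.Invol.AutLThreeFour.Tools

/-!
# Calculations in the extraspecial group
-/

set_option autoImplicit false

open Subgroup

namespace CfsgLib.AutL34

universe u

variable {G : Type u} [Group G]

/-- The fixed subgroup `D` of `x` on `E`. -/
def dE (E : Subgroup G) (x : G) : Subgroup G := E ⊓ centralizer ({x} : Set G)

/-- The centralizer `Q` of `a` and `b` in `E`. -/
def qE (E : Subgroup G) (a b : G) : Subgroup G :=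
  E ⊓ (centralizer ({a} : Set G) ⊓ centralizer ({b} : Set G))

theorem mem_dE {E : Subgroup G} {x e : G} : e ∈ dE E x ↔ e ∈ E ∧ e * x = x * e := by
  simp [dE, mem_inf, mem_centralizer_singleton_iff]

theorem mem_qE {E : Subgroup G} {a b e : G} :
    e ∈ qE E a b ↔ e ∈ E ∧ e * a = a * e ∧ e * b = b * e := by
  simp [qE, mem_inf, mem_centralizer_singleton_iff]

theorem conj_iff_comm {a b : G} : a * b * a⁻¹ = b ↔ a * b = b * a := mul_inv_eq_iff_eq_mul

/-- A finite subgroup larger than a finite set has an element outside it. -/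
theorem exists_avoid [Finite G] {K : Subgroup G} (s : List G) (h : s.length < Nat.card K) :
    ∃ k ∈ K, k ∉ s := by
  classical
  by_contra hn
  push Not at hn
  have hsub : (K : Set G) ⊆ (s.toFinset : Set G) := fun k hk => by simpa using hn k hk
  have h1 := Set.ncard_le_ncard hsub
  rw [Set.ncard_coe_finset, ← Nat.card_coe_set_eq] at h1
  have h2 := List.toFinset_card_le s
  change Nat.card K ≤ _ at h1
  omega

namespace Hyp

variable {z : G} {E : Subgroup G} {φ : ↥(cz z) →* Equiv.Perm (Fin 4)} (S : Hyp z E φ)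
include S

theorem zcancel (g : G) : g * z * z = g := by rw [mul_assoc, S.zz, mul_one]

theorem conj_z {h : G} (hh : h ∈ cz z) : h * z * h⁻¹ = z := mem_cz_conj.1 hh

theorem conj_mul_z {h : G} (hh : h ∈ cz z) (e : G) :
    h * (e * z) * h⁻¹ = h * e * h⁻¹ * z := by
  calc h * (e * z) * h⁻¹ = h * e * h⁻¹ * (h * z * h⁻¹) := by group
    _ = h * e * h⁻¹ * z := by rw [S.conj_z hh]

/-- Two elements of `E` commute or their commutator is `z`. -/
theorem comm_cases {e f : G} (he : e ∈ E) (hf : f ∈ E) : e * f = f * e ∨ e * f = f * e * z := by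
  rcases S.hcomm e he f hf with h | h
  · exact Or.inl (conj_iff_comm.1 h)
  · right
    rw [mul_inv_eq_iff_eq_mul] at h
    rw [h, mul_assoc, ← S.zcomm_E he, ← mul_assoc]

theorem sq_mul_of_comm {u v : G} (h : u * v = v * u) : (u * v) * (u * v) = u * u * (v * v) :=
  calc (u * v) * (u * v) = u * (v * u) * v := by group
    _ = u * (u * v) * v := by rw [h]
    _ = u * u * (v * v) := by group

theorem sq_mul_of_anti {u v : G} (hu : u ∈ E) (hv : v ∈ E) (h : u * v = v * u * z) :
    (u * v) * (u * v) = u * u * (v * v) * z := by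
  have h' : v * u = u * v * z := by rw [h, S.zcancel]
  calc (u * v) * (u * v) = u * (v * u) * v := by group
    _ = u * (u * v * z) * v := by rw [h']
    _ = u * u * v * (z * v) := by group
    _ = u * u * v * (v * z) := by rw [S.zcomm_E hv]
    _ = u * u * (v * v) * z := by group

theorem card_le_two_centralizer [Finite G] {A : Subgroup G} (hA : A ≤ E) {d : G} (hd : d ∈ E) :
    Nat.card A ≤ 2 * Nat.card ↥(A ⊓ centralizer ({d} : Set G)) := by
  refine card_le_two_mul inf_le_left fun a ha ha' b hb hb' => ⟨mul_mem ha hb, ?_⟩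
  have hne : ∀ c ∈ A, c ∉ A ⊓ centralizer ({d} : Set G) → c * d * c⁻¹ = d * z := fun c hc hc' =>
    (S.hcomm c (hA hc) d hd).resolve_left fun h =>
      hc' ⟨hc, mem_centralizer_singleton_iff.2 (conj_iff_comm.1 h)⟩
  refine mem_centralizer_singleton_iff.2 (conj_iff_comm.1 ?_)
  calc a * b * d * (a * b)⁻¹ = a * (b * d * b⁻¹) * a⁻¹ := by group
    _ = a * (d * z) * a⁻¹ := by rw [hne b hb hb']
    _ = a * d * a⁻¹ * z := S.conj_mul_z (S.hEH (hA ha)) d
    _ = d := by rw [hne a ha ha', S.zcancel]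

theorem exists_noncentral_invol [Finite G] :
    ∃ e ∈ E, e * e = 1 ∧ e ≠ 1 ∧ e ≠ z := by
  obtain ⟨e, he, hes⟩ := exists_avoid (K := E) [1, z] (by rw [S.hE32]; simp)
  simp only [List.mem_cons, List.not_mem_nil, or_false, not_or] at hes
  rcases S.hsq e he with h | h
  · exact ⟨e, he, h, hes.1, hes.2⟩
  have hc := S.card_le_two_centralizer le_rfl he
  rw [S.hE32] at hc
  obtain ⟨w, hw, hws⟩ := exists_avoid (K := E ⊓ centralizer ({e} : Set G)) [1, z, e, e * z]
    (by simp only [List.length_cons, List.length_nil]; omega)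
  simp only [List.mem_cons, List.not_mem_nil, or_false, not_or] at hws
  rcases S.hsq w hw.1 with h' | h'
  · exact ⟨w, hw.1, h', hws.1, hws.2.1⟩
  have hwe : w * e = e * w := mem_centralizer_singleton_iff.1 hw.2
  refine ⟨e * w, mul_mem he hw.1, by rw [S.sq_mul_of_comm hwe.symm, h, h', S.zz], fun k => ?_,
    fun k => ?_⟩
  · apply hws.2.2.2
    have e1 : e * z = e⁻¹ := eq_inv_of_mul_eq_one_right (by rw [← mul_assoc, h, S.zz])
    rw [e1]; exact eq_inv_of_mul_eq_one_right k
  · apply hws.2.2.1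
    exact mul_left_cancel (k.trans h.symm)

section X

variable {x : G} (hx : x ∈ cz z) (hx3 : orderOf x = 3)
include hx hx3

theorem x_cube : x ^ 3 = 1 := hx3 ▸ pow_orderOf_eq_one x

theorem conj_x_fixed_modz {e : G} (h : x * e * x⁻¹ = e ∨ x * e * x⁻¹ = e * z) : x * e = e * x := by
  rcases h with h | h
  · exact conj_iff_comm.1 h
  · exfalso
    have h3 := conj_three (e := e) (S.x_cube hx hx3)
    rw [h, S.conj_mul_z hx, h, S.zcancel, h] at h3
    exact S.zne (by simpa using h3)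

/-- The product of an `x`-orbit in `E` is fixed by `x`. -/
theorem trip_fixed {e : G} (he : e ∈ E) :
    e * (x * e * x⁻¹) * (x⁻¹ * e * x) ∈ dE E x := by
  have h1 := S.hn x hx e he
  have h2 : x⁻¹ * e * x ∈ E := by simpa using S.hn x⁻¹ (inv_mem hx) e he
  have hmem := mul_mem (mul_mem he h1) h2
  refine mem_dE.2 ⟨hmem, (S.conj_x_fixed_modz hx hx3 ?_).symm⟩
  have e3 : x * x * x = 1 := by rw [← S.x_cube hx hx3, pow_succ, sq]
  have key : x * (e * (x * e * x⁻¹) * (x⁻¹ * e * x)) * x⁻¹ =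
      e⁻¹ * (e * (x * e * x⁻¹) * (x⁻¹ * e * x)) * e :=
    calc x * (e * (x * e * x⁻¹) * (x⁻¹ * e * x)) * x⁻¹
        = (x * e * x⁻¹) * ((x * x * x) * (x⁻¹ * e * x) * (x * x * x)⁻¹) * e := by group
      _ = e⁻¹ * (e * (x * e * x⁻¹) * (x⁻¹ * e * x)) * e := by rw [e3]; group
  rw [key]
  have h4 := S.hcomm e⁻¹ (inv_mem he) _ hmem
  rwa [inv_inv] at h4

variable [Finite G]

theorem card_dE_cases : Nat.card (dE E x) = 2 ∨ Nat.card (dE E x) = 8 := by
  haveI : Fact (Nat.Prime 3) := ⟨Nat.prime_three⟩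
  have h : Nat.card E ≡ Nat.card (dE E x) [MOD 3] :=
    card_fixed_modEq (S.x_cube hx hx3) (S.hn x hx)
  rw [S.hE32] at h
  have hdvd : Nat.card (dE E x) ∣ 32 := S.hE32 ▸ card_dvd_of_le inf_le_left
  obtain ⟨k, hk, e⟩ := (Nat.dvd_prime_pow Nat.prime_two).1 (by norm_num; exact hdvd :
    Nat.card (dE E x) ∣ 2 ^ 5)
  rw [e] at h ⊢
  interval_cases k
  · exact absurd h (by decide)
  · exact Or.inl rfl
  · exact absurd h (by decide)
  · exact Or.inr rfl
  · exact absurd h (by decide)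
  · exfalso
    refine S.x_notMem_rad hx hx3 (S.E_le_rad (S.hCE x hx fun f hf => ?_))
    have : dE E x = E := eq_of_le_of_card_ge inf_le_left (by rw [e, S.hE32]; norm_num)
    exact (mem_dE.1 (this.symm ▸ hf : f ∈ dE E x)).2.symm

theorem card_dE : Nat.card (dE E x) = 8 := by
  refine (S.card_dE_cases hx hx3).resolve_left fun h2 => ?_
  have hle : ∀ k ∈ dE E x, k = 1 ∨ k = z := by
    intro k hk
    by_contra hn
    simp only [not_or] at hn
    have hzd : z ∈ dE E x := mem_dE.2 ⟨S.hzE, (S.zcomm hx).symm⟩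
    obtain ⟨u, v, -, huv⟩ := Nat.card_eq_two_iff.1 h2
    have hm : ∀ c : dE E x, c = u ∨ c = v := fun c => by
      have := huv ▸ Set.mem_univ c; simpa using this
    rcases hm ⟨k, hk⟩ with p | p <;> rcases hm ⟨z, hzd⟩ with q | q <;> rcases hm 1 with r | r <;>
      first
        | exact hn.1 (congrArg Subtype.val (p.trans r.symm))
        | exact hn.2 (congrArg Subtype.val (p.trans q.symm))
        | exact S.zne (congrArg Subtype.val (q.trans r.symm))
  obtain ⟨e, he, hee, hne1, hnez⟩ := S.exists_noncentral_invol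
  have hnot : x * e * x⁻¹ ≠ e ∧ x * e * x⁻¹ ≠ e * z := by
    refine ⟨fun h => ?_, fun h => ?_⟩ <;>
      exact not_or.2 ⟨hne1, hnez⟩
        (hle e (mem_dE.2 ⟨he, (S.conj_x_fixed_modz hx hx3 (by tauto)).symm⟩))
  have he' := S.hn x hx e he
  have he'2 : (x * e * x⁻¹) * (x * e * x⁻¹) = 1 := by
    rw [show (x * e * x⁻¹) * (x * e * x⁻¹) = x * (e * e) * x⁻¹ by group, hee]; simp
  have hanti : e * (x * e * x⁻¹) = (x * e * x⁻¹) * e * z := by
    refine (S.comm_cases he he').resolve_left fun hc => ?_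
    rcases S.hno8 e he _ he' hee he'2 hc hne1 hnez with h | h | h | h
    · exact hne1 (conj_eq_one_iff.1 h)
    · exact hnez (by
        have := congrArg (fun g => x⁻¹ * g * x) h
        simp only [show x⁻¹ * (x * e * x⁻¹) * x = e by group] at this
        rwa [mul_assoc, ← S.zcomm hx, ← mul_assoc, inv_mul_cancel, one_mul] at this)
    · exact hnot.1 h
    · exact hnot.2 h
  have hsq := S.sq_mul_of_anti he he' hanti
  rw [hee, he'2, one_mul, one_mul] at hsq
  have ht := S.trip_fixed hx hx3 he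
  have hk : (x⁻¹ * e * x) * (x⁻¹ * e * x) = 1 := by
    rw [show (x⁻¹ * e * x) * (x⁻¹ * e * x) = x⁻¹ * (e * e) * x by group, hee]; simp
  have hk2 : (x⁻¹ * e * x) = (e * (x * e * x⁻¹))⁻¹ * (e * (x * e * x⁻¹) * (x⁻¹ * e * x)) := by
    group
  have hmul := mul_mem he he'
  rcases hle _ ht with h | h <;> rw [h] at hk2
  · rw [hk2] at hk
    simp only [mul_one] at hk
    rw [← mul_inv_rev, hsq, S.zinv] at hk
    exact S.zne hk
  · rw [hk2] at hk
    have hc := S.zcomm_E (inv_mem hmul)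
    rw [S.sq_mul_of_comm hc, S.zz, mul_one, ← mul_inv_rev, hsq, S.zinv] at hk
    exact S.zne hk

/-- `D` is not abelian. -/
theorem dE_not_comm : ∃ u ∈ dE E x, ∃ v ∈ dE E x, u * v = v * u * z := by
  by_contra hn
  push Not at hn
  have hab : ∀ u ∈ dE E x, ∀ v ∈ dE E x, u * v = v * u := fun u hu v hv =>
    (S.comm_cases (mem_dE.1 hu).1 (mem_dE.1 hv).1).resolve_right (hn u hu v hv)
  set C := E ⊓ centralizer (dE E x : Set G) with hC
  have hDC : dE E x ≤ C := fun u hu =>
    ⟨(mem_dE.1 hu).1, mem_centralizer_iff.2 fun v hv => hab v hv u hu⟩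
  have hCx : ∀ c ∈ C, x * c * x⁻¹ ∈ C := fun c hc => ⟨S.hn x hx c hc.1, mem_centralizer_iff.2
    fun v hv => by
      have h1 := mem_centralizer_iff.1 hc.2 v hv
      have h2 := (mem_dE.1 hv).2
      calc v * (x * c * x⁻¹) = v * x * c * x⁻¹ := by group
        _ = x * (v * c) * x⁻¹ := by rw [h2]; group
        _ = x * (c * v) * x⁻¹ := by rw [h1]
        _ = x * c * (v * x⁻¹) := by group
        _ = x * c * (x⁻¹ * v) := by
          rw [show v * x⁻¹ = x⁻¹ * v from (Commute.inv_right h2).eq]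
        _ = x * c * x⁻¹ * v := by group⟩
  have hCfix : C ⊓ centralizer ({x} : Set G) = dE E x :=
    le_antisymm (fun u hu => ⟨hu.1.1, hu.2⟩) fun u hu => ⟨hDC hu, hu.2⟩
  haveI : Fact (Nat.Prime 3) := ⟨Nat.prime_three⟩
  have hmod := card_fixed_modEq (K := C) (S.x_cube hx hx3) hCx
  rw [hCfix, S.card_dE hx hx3] at hmod
  have h8 : 8 ≤ Nat.card C := (S.card_dE hx hx3).ge.trans (card_le_of_le hDC)
  have hdvd : Nat.card C ∣ 2 ^ 5 := by
    rw [show 2 ^ 5 = Nat.card E from S.hE32.symm]; exact card_dvd_of_le inf_le_left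
  obtain ⟨k, hk, e⟩ := (Nat.dvd_prime_pow Nat.prime_two).1 hdvd
  have hCD : C = dE E x := by
    interval_cases k <;> try omega
    · exact (eq_of_le_of_card_ge hDC (by rw [e, S.card_dE hx hx3]; norm_num)).symm
    · rw [e] at hmod; exact absurd hmod (by decide)
    · exfalso
      have hCE : C = E := eq_of_le_of_card_ge inf_le_left (by rw [e, S.hE32]; norm_num)
      have hsub : ∀ u ∈ dE E x, u = 1 ∨ u = z := fun u hu =>
        S.hcen u (mem_dE.1 hu).1 fun f hf =>
          mem_centralizer_iff.1 ((hCE.symm ▸ hf : f ∈ C).2) u hu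
      obtain ⟨u, hu, hus⟩ := exists_avoid (K := dE E x) [1, z]
        (by rw [S.card_dE hx hx3]; simp)
      simp only [List.mem_cons, List.not_mem_nil, or_false, not_or] at hus
      rcases hsub u hu with r | r
      exacts [hus.1 r, hus.2 r]
  refine S.x_notMem_rad hx hx3 (S.E_le_rad (S.hCE x hx fun e he => ?_))
  set k := e⁻¹ * (x * e * x⁻¹) with hk
  have hkC : k ∈ C := by
    refine Subgroup.mem_inf.2 ⟨E.mul_mem (E.inv_mem he) (S.hn x hx e he),
      mem_centralizer_iff.2 fun d hd => ?_⟩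
    obtain ⟨hdE, hdx⟩ := mem_dE.1 hd
    have heq : x * e * x⁻¹ * d * (x * e * x⁻¹)⁻¹ = e * d * e⁻¹ := by
      have h1 : x⁻¹ * d * x = d := by rw [mul_assoc, hdx, ← mul_assoc, inv_mul_cancel, one_mul]
      calc x * e * x⁻¹ * d * (x * e * x⁻¹)⁻¹ = x * (e * (x⁻¹ * d * x) * e⁻¹) * x⁻¹ := by group
        _ = x * (e * d * e⁻¹) * x⁻¹ := by rw [h1]
        _ = e * d * e⁻¹ := by
          refine conj_iff_comm.2 ?_
          rcases S.hcomm e he d hdE with h | h <;> rw [h]
          · exact hdx.symm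
          · rw [← mul_assoc x, ← hdx, mul_assoc, S.zcomm hx, ← mul_assoc]
    have h2 : k * d * k⁻¹ = d :=
      calc k * d * k⁻¹ = e⁻¹ * (x * e * x⁻¹ * d * (x * e * x⁻¹)⁻¹) * e := by rw [hk]; group
        _ = e⁻¹ * (e * d * e⁻¹) * e := by rw [heq]
        _ = d := by group
    exact (conj_iff_comm.1 h2).symm
  rw [hCD] at hkC
  have hkx : x * k * x⁻¹ = k := conj_iff_comm.2 (mem_dE.1 hkC).2.symm
  have he' : x * e * x⁻¹ = e * k := by rw [hk]; group
  have h3 := conj_three (e := e) (S.x_cube hx hx3)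
  rw [he', show x * (e * k) * x⁻¹ = x * e * x⁻¹ * (x * k * x⁻¹) by group, he', hkx,
    show x * (e * k * k) * x⁻¹ = x * e * x⁻¹ * (x * k * x⁻¹) * (x * k * x⁻¹) by group, he',
    hkx] at h3
  have hk3 : k ^ 3 = 1 := by
    rw [pow_succ, sq]
    exact mul_left_cancel (a := e) (by rw [mul_one]; simpa only [mul_assoc] using h3)
  obtain ⟨n, hn'⟩ := S.pgroup_E ⟨k, (mem_dE.1 hkC).1⟩
  have hn2 : k ^ (2 ^ n) = 1 := congrArg Subtype.val hn'
  have hk1 : k = 1 := orderOf_eq_one_iff.1 (Nat.eq_one_of_dvd_coprimes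
    (Nat.Coprime.pow_left n (by norm_num : Nat.Coprime 2 3))
    (orderOf_dvd_of_pow_eq_one hn2) (orderOf_dvd_of_pow_eq_one hk3))
  rw [hk1, mul_one] at he'
  exact conj_iff_comm.1 he'

end X

end Hyp

end CfsgLib.AutL34
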