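import Cfsg.Agent.Lib.AutPSL.Coset
import Cfsg.Agent.Lib.Classical.SLBasic
import Cfsg.Agent.S0813
import Mathlib.FieldTheory.Finite.GaloisField

/-!
# Automorphisms of the projective general linear group
-/

set_option autoImplicit false

open CfsgLib.AutPSL

namespace CfsgLib.AutL34

universe u v

variable {n : ℕ} {F : Type u} [Field F] [Finite F]

theorem indHom_ker (hn : 2 ≤ n) :
    (indHom (n := n) (F := F)).ker = Subgroup.center (GL (Fin n) F) := by
  ext g
  rw [MonoidHom.mem_ker, indHom_apply, Subgroup.mem_center_iff]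
  constructor
  · intro h X
    obtain ⟨-, c, -, hc⟩ := eq_one_of_ind_eq_one hn h
    apply Units.ext
    rw [Units.val_mul, Units.val_mul, hc, Matrix.mul_smul, Matrix.smul_mul, mul_one, one_mul]
  · intro h
    refine MulEquiv.ext fun x => ?_
    obtain ⟨s, rfl⟩ := QuotientGroup.mk'_surjective _ x
    show proj (slConj g (slField 1 s)) = proj s
    refine congrArg proj (Subtype.ext ?_)
    rw [slConj_val, slField_val, show s.1.map (⇑(1 : RingAut F)) = s.1 from
      Matrix.ext fun _ _ => rfl]
    have := congrArg (Units.val) (h (Matrix.SpecialLinearGroup.toGL s))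
    rw [Units.val_mul, Units.val_mul] at this
    erw [show g.1 * s.1 = s.1 * g.1 from this.symm]
    exact Units.mul_inv_cancel_right _ g

omit [Finite F] in
/-- Inner automorphisms come from `GL`. -/
theorem ind_toGL (s : Matrix.SpecialLinearGroup (Fin n) F) :
    ind (Matrix.SpecialLinearGroup.toGL s) 1 = MulAut.conj (proj s) := by
  refine MulEquiv.ext fun x => ?_
  obtain ⟨w, rfl⟩ := QuotientGroup.mk'_surjective _ x
  show proj (slConj (Matrix.SpecialLinearGroup.toGL s) (slField 1 w)) = proj s * proj w * (proj s)⁻¹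
  rw [← map_inv, ← map_mul, ← map_mul]
  refine congrArg proj (Subtype.ext ?_)
  rw [slConj_val, slField_val, show w.1.map (⇑(1 : RingAut F)) = w.1 from
    Matrix.ext fun _ _ => rfl, ← map_inv]
  rfl

theorem range_indHom_normal (hn : 2 ≤ n) : (indHom (n := n) (F := F)).range.Normal := by
  refine ⟨fun N hN β => ?_⟩
  obtain ⟨h, rfl⟩ := hN
  obtain ⟨g, σ, e, rfl⟩ := exists_rep hn β
  obtain ⟨g', hg'⟩ := ind_inv g σ
  have key : ∀ k : GL (Fin n) F, ind g σ * ind k 1 * (ind g σ)⁻¹ ∈ (indHom (n := n) (F := F)).range := by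
    intro k
    rw [hg', ind_mul, ind_mul, mul_one, mul_inv_cancel]
    exact ⟨_, rfl⟩
  cases e
  · simp only [rep, cond_false, mul_one]
    exact key h
  · simp only [rep, cond_true, mul_inv_rev, indHom_apply]
    rw [show ind g σ * itAut * ind h 1 * (itAut⁻¹ * (ind g σ)⁻¹) =
      ind g σ * (itAut * ind h 1 * itAut⁻¹) * (ind g σ)⁻¹ by group, itAut_ind,
      mul_inv_cancel_right]
    exact key _

/-- The automorphisms of `PGL` are those of `PSL`. -/
theorem mulAut_pgl (hn : 3 ≤ n) :
    Nonempty (MulAut (Matrix.ProjectiveSpecialLinearGroup (Fin n) F) ≃*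
      MulAut (GL (Fin n) F ⧸ Subgroup.center (GL (Fin n) F))) := by
  classical
  have hn2 : 2 ≤ n := by omega
  haveI := range_indHom_normal (F := F) hn2
  set P := Matrix.ProjectiveSpecialLinearGroup (Fin n) F with hP
  set N := (indHom (n := n) (F := F)).range with hN
  haveI hsimple : IsSimpleGroup P := Classical.psl_isSimple hn
  have hperf : commutator P = ⊤ := by
    have h := Classical.sl_commutator (F := F) hn
    rw [commutator_def] at h ⊢
    rw [← Subgroup.map_top_of_surjective (QuotientGroup.mk' _) (QuotientGroup.mk'_surjective _),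
      ← Subgroup.map_commutator, h]
  have hcent : ∀ p : P, (∀ q, p * q = q * p) → p = 1 := by
    intro p hp
    rcases (inferInstance : (Subgroup.center P).Normal).eq_bot_or_eq_top with h | h
    · exact Subgroup.mem_bot.1 (h ▸ Subgroup.mem_center_iff.2 fun q => (hp q).symm)
    · exfalso
      have hc : commutator P = ⊥ := by
        rw [commutator_def, Subgroup.commutator_eq_bot_iff_le_centralizer, Subgroup.coe_top,
          Subgroup.centralizer_univ, h]
      rw [hc] at hperf
      exact bot_ne_top hperf
  have hinnN : ∀ p : P, MulAut.conj p ∈ N := fun p => by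
    obtain ⟨s, rfl⟩ := QuotientGroup.mk'_surjective _ p
    exact ⟨Matrix.SpecialLinearGroup.toGL s, ind_toGL s⟩
  have hconj : ∀ (β : MulAut P) (p : P), β * MulAut.conj p * β⁻¹ = MulAut.conj (β p) := fun β p =>
    MulEquiv.ext fun q => by
      simp [MulAut.mul_apply, MulAut.conj_apply]
  have hinj : Function.Injective (MulAut.conj : P →* MulAut P) := fun p q h => by
    have h1 : ∀ r, p⁻¹ * q * r = r * (p⁻¹ * q) := fun r => by
      have h2 : p * r * p⁻¹ = q * r * q⁻¹ := by
        have := congrArg (fun f : MulAut P => f r) h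
        simpa [MulAut.conj_apply] using this
      calc p⁻¹ * q * r = p⁻¹ * (q * r * q⁻¹) * q := by group
        _ = p⁻¹ * (p * r * p⁻¹) * q := by rw [h2]
        _ = r * (p⁻¹ * q) := by group
    exact inv_mul_eq_one.1 (hcent _ h1)
  let inner : P →* N := (MulAut.conj : P →* MulAut P).codRestrict N hinnN
  have hinner : Function.Injective inner := fun p q h => hinj (congrArg Subtype.val h)
  have hcomm : commutator N = inner.range := by
    apply le_antisymm
    · rw [commutator_def, Subgroup.commutator_le]
      rintro ⟨_, g, rfl⟩ - ⟨_, h, rfl⟩ -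
      have hdet : (((g * h * g⁻¹ * h⁻¹ : GL (Fin n) F)) : Matrix (Fin n) (Fin n) F).det = 1 := by
        have h1 : Matrix.GeneralLinearGroup.det (g * h * g⁻¹ * h⁻¹) = 1 := by
          rw [map_mul, map_mul, map_mul, map_inv, map_inv, mul_right_comm (Matrix.GeneralLinearGroup.det g),
            mul_inv_cancel, one_mul, mul_inv_cancel]
        exact congrArg Units.val h1
      obtain ⟨s, hs⟩ : ∃ s : Matrix.SpecialLinearGroup (Fin n) F,
          Matrix.SpecialLinearGroup.toGL s = g * h * g⁻¹ * h⁻¹ := ⟨⟨_, hdet⟩, Units.ext rfl⟩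
      refine ⟨proj s, Subtype.ext ?_⟩
      show MulAut.conj (proj s) =
        indHom g * indHom h * (indHom g)⁻¹ * (indHom h)⁻¹
      rw [← ind_toGL, ← map_inv, ← map_inv, ← map_mul, ← map_mul, ← map_mul, indHom_apply]
      rw [hs]
    · rintro _ ⟨p, rfl⟩
      have h1 : p ∈ commutator P := hperf ▸ Subgroup.mem_top p
      have h2 : (commutator P).map inner ≤ commutator N := by
        rw [commutator_def, commutator_def, Subgroup.map_commutator]
        exact Subgroup.commutator_mono le_top le_top
      exact h2 ⟨p, h1, rfl⟩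
  let Φ : MulAut P →* MulAut N := MulAut.conjNormal
  have hΦ : ∀ (β : MulAut P) (ν : N), ((Φ β ν : N) : MulAut P) = β * (ν : MulAut P) * β⁻¹ :=
    fun β ν => MulAut.conjNormal_apply β ν
  have hΦi : Function.Injective Φ := by
    rw [injective_iff_map_eq_one]
    intro β hβ
    refine MulEquiv.ext fun p => hinj ?_
    have h1 := congrArg (fun f : MulAut N => ((f (inner p) : N) : MulAut P)) hβ
    simp only [hΦ] at h1
    rw [show ((inner p : N) : MulAut P) = MulAut.conj p from rfl, hconj] at h1
    exact h1
  have hΦs : Function.Surjective Φ := by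
    intro α
    have hα : ∀ p, α (inner p) ∈ inner.range := fun p => by
      rw [← hcomm]
      have h2 : (commutator N).map α.toMonoidHom ≤ commutator N := by
        rw [commutator_def, Subgroup.map_commutator]
        exact Subgroup.commutator_mono le_top le_top
      exact h2 ⟨inner p, hcomm ▸ ⟨p, rfl⟩, rfl⟩
    choose f hf using hα
    have hf_mul : ∀ p q, f (p * q) = f p * f q := fun p q => hinner (by
      rw [hf, map_mul, map_mul, map_mul, hf, hf])
    have hfb : Function.Bijective f := by
      refine Finite.injective_iff_bijective.1 fun p q h => hinner (α.injective ?_)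
      rw [← hf, ← hf, h]
    let θ : MulAut P := MulEquiv.ofBijective (MonoidHom.mk' f hf_mul) hfb
    refine ⟨θ, MulEquiv.ext fun ν => Subtype.ext ?_⟩
    rw [hΦ]
    have hθ : ∀ p, MulAut.conj (θ p) = ((α (inner p) : N) : MulAut P) := fun p =>
      congrArg Subtype.val (hf p)
    -- both sides agree on the inner automorphisms
    refine MulEquiv.ext fun q => hinj ?_
    obtain ⟨p, rfl⟩ := θ.surjective q
    have h1 : MulAut.conj ((θ * (ν : MulAut P) * θ⁻¹) (θ p)) =
        MulAut.conj (θ ((ν : MulAut P) p)) := by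
      simp [MulAut.mul_apply]
    rw [h1, hθ, ← hconj ((α ν : N) : MulAut P), hθ, ← Subgroup.coe_inv, ← Subgroup.coe_mul,
      ← Subgroup.coe_mul, ← map_inv, ← map_mul, ← map_mul]
    congr 2
    exact Subtype.ext (hconj (ν : MulAut P) p).symm
  let e : (GL (Fin n) F ⧸ Subgroup.center (GL (Fin n) F)) ≃* N :=
    (QuotientGroup.quotientMulEquivOfEq (indHom_ker hn2).symm).trans
      (QuotientGroup.quotientKerEquivRange _)
  exact ⟨(MulEquiv.ofBijective Φ ⟨hΦi, hΦs⟩).trans (MulAut.congr e.symm)⟩

/-- The automorphism group of `PSL₃(4)` has order `241920`. -/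
theorem card_mulAut_four {K : Type v} [Field K] [Fintype K] (hK : Fintype.card K = 4) :
    Nat.card (MulAut (Matrix.ProjectiveSpecialLinearGroup (Fin 3) K)) = 241920 := by
  haveI : Fact (Nat.Prime 2) := ⟨Nat.prime_two⟩
  rw [Cfsg.Agent.S0813.result 2 2 (by norm_num) (by rw [hK]; norm_num) 3 (by norm_num) (by norm_num),
    Classical.card_pgl_eq]
  have h := Classical.card_sl_mul (F := K) (n := 3) (by norm_num)
  rw [hK] at h
  simp only [Fin.prod_univ_three, Fin.val_zero, Fin.val_one, Fin.val_two] at h
  norm_num at h ⊢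
  omega

omit [Finite F] in
/-- `PSL₃` over isomorphic fields. -/
theorem psl_three_congr {K : Type v} [Field K] (σ : F ≃+* K) :
    Nonempty (Matrix.ProjectiveSpecialLinearGroup (Fin 3) F ≃*
      Matrix.ProjectiveSpecialLinearGroup (Fin 3) K) := by
  let ψ : Matrix.SpecialLinearGroup (Fin 3) F ≃* Matrix.SpecialLinearGroup (Fin 3) K :=
    MulEquiv.ofBijective (Matrix.SpecialLinearGroup.map σ.toRingHom)
      ⟨fun A B h => by
        ext i j
        exact σ.injective (congrFun (congrFun (congrArg Subtype.val h) i) j),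
      fun B => ⟨Matrix.SpecialLinearGroup.map σ.symm.toRingHom B, by
        ext i j
        simp⟩⟩
  refine ⟨QuotientGroup.congr _ _ ψ ?_⟩
  ext q
  rw [Subgroup.mem_map]
  constructor
  · rintro ⟨y, hy, rfl⟩
    rw [Subgroup.mem_center_iff] at hy ⊢
    intro g
    obtain ⟨g, rfl⟩ := ψ.surjective g
    show ψ g * ψ y = ψ y * ψ g
    rw [← map_mul, hy, map_mul]
  · intro hq
    obtain ⟨y, rfl⟩ := ψ.surjective q
    refine ⟨y, Subgroup.mem_center_iff.2 fun g => ψ.injective ?_, rfl⟩
    rw [map_mul, map_mul]
    exact Subgroup.mem_center_iff.1 hq _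

end CfsgLib.AutL34
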