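import Cfsg.Agent.Lib.Invol.AutLThreeFour.Simple
import Cfsg.Agent.Lib.Invol.AutLThreeFour.Model
import Cfsg.Agent.S0348

/-!
# The group is the automorphism group of `PGL₃(4)`
-/

set_option autoImplicit false

open Subgroup Equiv

namespace CfsgLib.AutL34

universe u v

variable {G : Type u} [Group G]

theorem card_psl_two_ne {K : Type} [Field K] [Fintype K] :
    Nat.card (Matrix.ProjectiveSpecialLinearGroup (Fin 2) K) ≠ 20160 := by
  intro h
  have h1 := Classical.card_psl_mul (F := K) (n := 2) (by norm_num)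
  rw [h] at h1
  simp only [Fin.prod_univ_two, Fin.val_zero, Fin.val_one, pow_zero, pow_one] at h1
  have hq1 : 1 < Fintype.card K := Fintype.one_lt_card
  obtain ⟨r, hr⟩ : ∃ r, Fintype.card K = r + 1 := ⟨Fintype.card K - 1, by omega⟩
  rw [hr, Nat.add_sub_cancel] at h1
  have e1 : (r + 1) ^ 2 - 1 = r * (r + 2) := by
    rw [show (r + 1) ^ 2 = r * (r + 2) + 1 by ring, Nat.add_sub_cancel]
  have e2 : (r + 1) ^ 2 - (r + 1) = r * (r + 1) := by
    rw [show (r + 1) ^ 2 = r * (r + 1) + (r + 1) by ring, Nat.add_sub_cancel]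
  rw [e1, e2] at h1
  have hg : Nat.gcd 2 r = 1 ∨ Nat.gcd 2 r = 2 :=
    (Nat.dvd_prime Nat.prime_two).1 (Nat.gcd_dvd_left 2 r)
  have hr0 : 0 < r := by omega
  have h2 : Nat.gcd 2 r * 20160 = r * ((r + 1) * (r + 2)) :=
    Nat.eq_of_mul_eq_mul_left hr0 (by linarith)
  have hle : r ≤ 40 := by
    by_contra hlt
    have h3 : 41 * (42 * 43) ≤ r * ((r + 1) * (r + 2)) :=
      Nat.mul_le_mul (by omega) (Nat.mul_le_mul (by omega) (by omega))
    rcases hg with e | e <;> rw [e] at h2 <;> omega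
  rcases hg with e | e <;> rw [e] at h2 <;> interval_cases r <;> simp_all

namespace Core

variable {z : G} {E : Subgroup G} {φ : ↥(cz z) →* Perm (Fin 4)} {x a b t d : G}
  {Mt Mb : Subgroup G} {m : G} {L : Subgroup G} (S : Core z E φ x a b t d Mt Mb m L) [Finite G]
include S

theorem iso {F : Type v} [Field F] [Fintype F] (hF : Fintype.card F = 4) :
    Nonempty (G ≃* MulAut (GL (Fin 3) F ⧸ Subgroup.center (GL (Fin 3) F))) := by
  haveI := S.simple
  haveI := S.normal
  rcases Cfsg.Agent.S0348.result (G := L) S.not_comm S.isPGroup_cit with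
    ⟨K, iK, iK', -, ⟨e⟩⟩ | ⟨K, iK, iK', hK, ⟨e⟩⟩ | ⟨-, k, hk, h⟩
  · exact absurd ((Nat.card_congr e.toEquiv).symm.trans S.cardL) card_psl_two_ne
  · obtain ⟨σ⟩ : Nonempty (K ≃+* F) :=
      ⟨FiniteField.ringEquivOfCardEq (hK.trans hF.symm)⟩
    obtain ⟨e'⟩ := psl_three_congr σ
    obtain ⟨e''⟩ := mulAut_pgl (F := F) (n := 3) le_rfl
    have hinj : Function.Injective (MulAut.conjNormal : G →* MulAut L) := by
      rw [injective_iff_map_eq_one]
      intro c hc
      refine S.centralizer_eq_bot fun l hl => ?_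
      have h1 := congrArg (fun f : MulAut L => ((f ⟨l, hl⟩ : L) : G)) hc
      simp only [MulAut.conjNormal_apply, MulAut.one_apply] at h1
      exact mul_inv_eq_iff_eq_mul.1 h1
    haveI : Finite (MulAut L) :=
      Finite.of_injective (fun f : MulAut L => (f : L → L)) DFunLike.coe_injective
    have hcard : Nat.card (MulAut L) = Nat.card G := by
      rw [S.cardG, Nat.card_congr (MulAut.congr (e.trans e')).toEquiv, card_mulAut_four hF]
    have hbij : Function.Bijective (MulAut.conjNormal : G →* MulAut L) :=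
      hinj.bijective_of_nat_card_le (le_of_eq hcard)
    exact ⟨(MulEquiv.ofBijective _ hbij).trans ((MulAut.congr (e.trans e')).trans e'')⟩
  · exfalso
    rw [S.cardL] at h
    have h8 : 8 ≤ 2 ^ (2 * k + 1) :=
      le_trans (by norm_num) (Nat.pow_le_pow_right (by norm_num) (show 3 ≤ 2 * k + 1 by omega))
    set q := 2 ^ (2 * k + 1)
    have : 64 * 65 * 7 ≤ q ^ 2 * (q ^ 2 + 1) * (q - 1) := by
      have h64 : 64 ≤ q ^ 2 := le_trans (by norm_num) (Nat.pow_le_pow_left h8 2)
      exact Nat.mul_le_mul (Nat.mul_le_mul h64 (by omega)) (by omega)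
    omega

end Core

/-- A non-solvable group with such a centralizer of an involution. -/
theorem Hyp.iso {z : G} {E : Subgroup G} {φ : ↥(cz z) →* Perm (Fin 4)} [Finite G] (S : Hyp z E φ)
    (hns : ¬ Group.IsSolvable G) {F : Type v} [Field F] [Fintype F] (hF : Fintype.card F = 4) :
    Nonempty (G ≃* MulAut (GL (Fin 3) F ⧸ Subgroup.center (GL (Fin 3) F))) := by
  obtain ⟨x, a, b, hf⟩ := S.exists_frame
  obtain ⟨t, d₀, hfull⟩ := Glob.exists_full ⟨hf, S.oddCore_eq_bot hns, hns⟩
  obtain ⟨d, Mt, Mb, hh⟩ := hfull.exists_halves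
  obtain ⟨m, hm⟩ := hh.toFull.exists_split
  obtain ⟨L, hc⟩ := Data.exists_core
    (⟨hh, hm.hm, hm.mm, hm.hmW⟩ : Data z E φ x a b t d Mt Mb m) hns
  exact hc.iso hF

/-- The hypothesis from an extraspecial normal subgroup of the centralizer. -/
theorem exists_hyp [Finite G] {z : G} (hz : orderOf z = 2)
    (E : Subgroup ↥(cz z)) [hEn : E.Normal] (hE : Cfsg.IsExtraspecial 2 ↥E)
    (hE32 : Nat.card ↥E = 32)
    (hEminus : ∀ A : Subgroup ↥E, Cfsg.IsElementaryAbelian 2 A → Nat.card ↥A ≠ 8)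
    (hCE : centralizer (E : Set ↥(cz z)) ≤ E)
    (e : (↥(cz z) ⧸ E) ≃* Perm (Fin 4)) :
    Hyp z (E.map (cz z).subtype) (e.toMonoidHom.comp (QuotientGroup.mk' E)) := by
  classical
  haveI : Fact (Nat.Prime 2) := ⟨Nat.prime_two⟩
  obtain ⟨⟨hp, hfrat, hcom⟩, hc2⟩ := hE
  have hzz : z ∈ cz z := mem_cz.2 rfl
  have hzE : (⟨z, hzz⟩ : cz z) ∈ E :=
    hCE (mem_centralizer_iff.2 fun h _ => Subtype.ext (mem_cz.1 h.2))
  set zE : E := ⟨⟨z, hzz⟩, hzE⟩ with hzEdef
  have hzEc : zE ∈ center E := Subgroup.mem_center_iff.2 fun g =>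
    Subtype.ext (Subtype.ext (mem_cz.1 g.1.2))
  have hz1 : z ≠ 1 := Invol.invol_ne_one hz
  have hzE1 : zE ≠ 1 := fun h => hz1 (congrArg (fun g : E => ((g : cz z) : G)) h)
  have hcenE : ∀ g : E, g ∈ center E → g = 1 ∨ g = zE := by
    intro g hg
    by_contra hn
    simp only [not_or] at hn
    have h3 := length_le_card (K := center E) [1, zE, g]
      (by simp [one_mem, hzEc, hg])
      (by simp only [List.nodup_cons, List.mem_cons, List.not_mem_nil, or_false, List.nodup_nil,
          not_or]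
          exact ⟨⟨hzE1.symm, Ne.symm hn.1⟩, Ne.symm hn.2, not_false, trivial⟩)
    rw [hc2] at h3
    simp at h3
  have hzEsq : zE * zE = 1 := Subtype.ext (Subtype.ext (Invol.invol_mul_self hz))
  have hsqE : ∀ g : E, g * g = 1 ∨ g * g = zE := fun g => hcenE _ (hfrat ▸ by
    rw [← sq]; exact Coprime.pow_mem_frattini hp g)
  refine
    { hz := hz
      hEH := map_subtype_le _
      hn := ?_
      hE32 := (card_map_of_injective (cz z).subtype_injective).trans hE32
      hzE := ⟨⟨z, hzz⟩, hzE, rfl⟩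
      hsq := ?_
      hcomm := ?_
      hcen := ?_
      hno8 := ?_
      hCE := ?_
      surj := e.surjective.comp (QuotientGroup.mk'_surjective E)
      ker := ?_ }
  · rintro h hh _ ⟨k, hk, rfl⟩
    exact ⟨⟨h, hh⟩ * k * ⟨h, hh⟩⁻¹, hEn.conj_mem k hk _, rfl⟩
  · rintro _ ⟨k, hk, rfl⟩
    rcases hsqE ⟨k, hk⟩ with h | h
    · exact Or.inl (congrArg (fun g : E => ((g : cz z) : G)) h)
    · exact Or.inr (congrArg (fun g : E => ((g : cz z) : G)) h)
  · rintro _ ⟨k, hk, rfl⟩ _ ⟨l, hl, rfl⟩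
    have hmem : (⟨k, hk⟩ * ⟨l, hl⟩ * (⟨k, hk⟩)⁻¹ * (⟨l, hl⟩)⁻¹ : E) ∈ commutator E := by
      rw [_root_.commutator_def, ← commutatorElement_def]
      exact commutator_mem_commutator (mem_top _) (mem_top _)
    rcases hcenE _ (hcom ▸ hmem) with h | h
    · left
      have := congrArg (fun g : E => ((g : cz z) : G)) (mul_inv_eq_one.1 h)
      exact this
    · right
      have h' := congrArg (fun g : E => ((g : cz z) : G)) (mul_inv_eq_iff_eq_mul.1 h)
      exact h'.trans (mem_cz.1 l.2).symm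
  · rintro _ ⟨k, hk, rfl⟩ hall
    rcases hcenE ⟨k, hk⟩ (Subgroup.mem_center_iff.2 fun g =>
      Subtype.ext (Subtype.ext (hall _ ⟨g.1, g.2, rfl⟩).symm)) with h | h
    · exact Or.inl (congrArg (fun g : E => ((g : cz z) : G)) h)
    · exact Or.inr (congrArg (fun g : E => ((g : cz z) : G)) h)
  · rintro _ ⟨k, hk, rfl⟩ _ ⟨l, hl, rfl⟩ huu hvv huv hu1 huz
    set u : E := ⟨k, hk⟩
    set v : E := ⟨l, hl⟩
    have hu2 : u * u = 1 := Subtype.ext (Subtype.ext huu)
    have hv2 : v * v = 1 := Subtype.ext (Subtype.ext hvv)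
    have huv' : Commute u v := Subtype.ext (Subtype.ext huv)
    by_contra hn
    simp only [not_or] at hn
    have hzc : ∀ g : E, Commute zE g := fun g => ((Subgroup.mem_center_iff.1 hzEc) g).symm
    have hZ : ∀ g, g ∈ zpowers zE → g = 1 ∨ g = zE := by
      intro g hg
      obtain ⟨i, rfl⟩ := mem_zpowers_iff.1 hg
      have h2 : zE ^ (2 : ℤ) = 1 := by rw [zpow_two, hzEsq]
      rcases Int.even_or_odd' i with ⟨j, rfl | rfl⟩
      · left; rw [zpow_mul, h2, one_zpow]
      · right; rw [zpow_add, zpow_mul, h2, one_zpow, one_mul, zpow_one]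
    have hn1 : ∀ g ∈ zpowers zE, u * g * u ∈ zpowers zE := fun g hg => by
      rcases hZ g hg with rfl | rfl
      · rw [mul_one, hu2]; exact one_mem _
      · rw [← (hzc u).eq, mul_assoc, hu2, mul_one]; exact mem_zpowers _
    set A₁ := ext2 (zpowers zE) u hu2 hn1
    have hu' : u ∉ zpowers zE := fun h => by
      rcases hZ u h with h | h
      · exact hu1 (congrArg (fun g : E => ((g : cz z) : G)) h)
      · exact huz (congrArg (fun g : E => ((g : cz z) : G)) h)
    have hA₁ : ∀ g, g ∈ A₁ → g = 1 ∨ g = zE ∨ g = u ∨ g = u * zE := by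
      intro g hg
      rcases mem_ext2.1 hg with h | h
      · exact (hZ g h).imp_right Or.inl
      · have hg' : g = g * u * u := by rw [mul_assoc, hu2, mul_one]
        rcases hZ _ h with e | e <;> rw [e] at hg'
        · exact Or.inr (Or.inr (Or.inl (by rw [hg', one_mul])))
        · exact Or.inr (Or.inr (Or.inr (by rw [hg', (hzc u).eq])))
    have hcv : ∀ g ∈ A₁, Commute v g := fun g hg => by
      rcases hA₁ g hg with rfl | rfl | rfl | rfl
      exacts [Commute.one_right v, (hzc v).symm, huv'.symm, huv'.symm.mul_right (hzc v).symm]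
    have hn2 : ∀ g ∈ A₁, v * g * v ∈ A₁ := fun g hg => by
      rw [(hcv g hg).eq, mul_assoc, hv2, mul_one]; exact hg
    have hv' : v ∉ A₁ := fun h => by
      rcases hA₁ v h with h | h | h | h
      · exact hn.1 (congrArg (fun g : E => ((g : cz z) : G)) h)
      · exact hn.2.1 (congrArg (fun g : E => ((g : cz z) : G)) h)
      · exact hn.2.2.1 (congrArg (fun g : E => ((g : cz z) : G)) h)
      · exact hn.2.2.2 (congrArg (fun g : E => ((g : cz z) : G)) h)
    set A := ext2 A₁ v hv2 hn2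
    have hgen : ∀ g ∈ A, ∃ h ∈ A₁, g = h ∨ g = h * v := fun g hg => by
      rcases mem_ext2.1 hg with h | h
      · exact ⟨g, h, Or.inl rfl⟩
      · exact ⟨g * v, h, Or.inr (by rw [mul_assoc, hv2, mul_one])⟩
    have hc1 : ∀ g ∈ A₁, ∀ g' ∈ A₁, Commute g g' := fun g hg g' hg' => by
      have hu : Commute u g' := by
        rcases hA₁ g' hg' with rfl | rfl | rfl | rfl
        exacts [Commute.one_right u, (hzc u).symm, Commute.refl _,
          (Commute.refl u).mul_right (hzc u).symm]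
      rcases hA₁ g hg with rfl | rfl | rfl | rfl
      exacts [Commute.one_left g', hzc g', hu, hu.mul_left (hzc g')]
    have hs1 : ∀ g ∈ A₁, g * g = 1 := fun g hg => by
      rcases hA₁ g hg with rfl | rfl | rfl | rfl
      exacts [one_mul 1, hzEsq, hu2,
        (mul_mul_mul_comm' (hzc u).symm).trans (by rw [hu2, hzEsq, one_mul])]
    have hElem : Cfsg.IsElementaryAbelian 2 A := by
      refine ⟨⟨⟨fun p q => Subtype.ext ?_⟩⟩, fun g hg => ?_⟩
      · obtain ⟨h, hh, e1⟩ := hgen p p.2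
        obtain ⟨h', hh', e2⟩ := hgen q q.2
        show (p : E) * q = q * p
        rcases e1 with e1 | e1 <;> rcases e2 with e2 | e2 <;> rw [e1, e2]
        exacts [(hc1 h hh h' hh').eq, ((hc1 h hh h' hh').mul_right (hcv h hh).symm).eq,
          ((hc1 h hh h' hh').mul_left (hcv h' hh')).eq,
          (((hc1 h hh h' hh').mul_right (hcv h hh).symm).mul_left
            ((hcv h' hh').mul_right (Commute.refl v))).eq]
      · obtain ⟨h, hh, e | e⟩ := hgen g hg <;> rw [e, sq]
        · exact hs1 h hh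
        · rw [mul_mul_mul_comm' (hcv h hh).symm, hs1 h hh, hv2, one_mul]
    refine hEminus A hElem ?_
    rw [card_ext2 hv', card_ext2 hu', Nat.card_zpowers,
      orderOf_eq_prime (by rw [sq]; exact hzEsq) hzE1]
  · intro h hh hall
    refine ⟨⟨h, hh⟩, hCE (mem_centralizer_iff.2 fun k hk => Subtype.ext ?_), rfl⟩
    exact (hall _ ⟨k, hk, rfl⟩).symm
  · intro h
    show e (QuotientGroup.mk' E h) = 1 ↔ _
    rw [MulEquiv.map_eq_one_iff, QuotientGroup.mk'_apply, QuotientGroup.eq_one_iff]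
    exact ⟨fun h' => ⟨h, h', rfl⟩, fun ⟨k, hk, e⟩ => Subtype.ext e ▸ hk⟩
where
  mul_mul_mul_comm' {M : Type u} [Group M] {p q : M} (h : Commute p q) :
      p * q * (p * q) = p * p * (q * q) := by
    rw [mul_assoc, ← mul_assoc q p q, ← h.eq]; group

end CfsgLib.AutL34
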