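import Cfsg.Agent.Lib.Invol.AutLThreeFour.Extra

/-!
# `E` is the product of `D = C_E(x)` and `Q = [E, x]`
-/

set_option autoImplicit false

open Subgroup

namespace CfsgLib.AutL34

universe u

variable {G : Type u} [Group G]

/-- Distinct members bound the order from below. -/
theorem length_le_card [Finite G] {K : Subgroup G} (s : List G) (hs : ∀ a ∈ s, a ∈ K)
    (hd : s.Nodup) : s.length ≤ Nat.card K := by
  classical
  rw [← List.toFinset_card_of_nodup hd, ← Set.ncard_coe_finset]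
  refine (Set.ncard_le_ncard (t := (K : Set G)) (fun a ha => hs a (by simpa using ha))).trans ?_
  rw [← Nat.card_coe_set_eq]
  rfl

/-- An `x` of order three and two non-commuting involutions in `C_E(x)`. -/
structure PreFrame (z : G) (E : Subgroup G) (φ : ↥(cz z) →* Equiv.Perm (Fin 4)) (x a b : G) : Prop
    extends Hyp z E φ where
  hx : x ∈ cz z
  hx3 : orderOf x = 3
  ha : a ∈ E
  hb : b ∈ E
  aa : a * a = 1
  bb : b * b = 1
  ax : a * x = x * a
  bx : b * x = x * b
  ab : a * b = b * a * z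

namespace Hyp

variable {z : G} {E : Subgroup G} {φ : ↥(cz z) →* Equiv.Perm (Fin 4)} (S : Hyp z E φ)
include S

theorem anti_ne {u v : G} (hu : u ∈ E) (h : u * v = v * u * z) :
    v ≠ 1 ∧ v ≠ z ∧ v ≠ u ∧ v ≠ u * z := by
  refine ⟨?_, ?_, ?_, ?_⟩ <;> rintro rfl
  · exact S.zne (by simpa using h)
  · rw [S.zcomm_E hu] at h
    exact S.zne (mul_left_cancel (h.symm.trans (mul_one _).symm))
  · exact S.zne (mul_left_cancel (h.symm.trans (mul_one _).symm))
  · rw [mul_assoc u z u, ← S.zcomm_E hu] at h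
    exact S.zne (mul_left_cancel (h.symm.trans (mul_one _).symm))

theorem anti_symm {u v : G} (h : u * v = v * u * z) : v * u = u * v * z := by
  rw [h, S.zcancel]

theorem anti_conj {u v : G} (hv : v ∈ E) (h : u * v = v * u * z) : v * u * v⁻¹ = u * z := by
  rw [S.anti_symm h, mul_assoc u v z, S.zcomm_E hv]
  group

theorem anti_mul {u v e : G} (hv : v ∈ E) (h : u * v = v * u * z)
    (he : u * e = e * u * z) (heE : e ∈ E) : v * e * u = u * (v * e) := by
  refine conj_iff_comm.1 ?_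
  calc v * e * u * (v * e)⁻¹ = v * (e * u * e⁻¹) * v⁻¹ := by group
    _ = v * (u * z) * v⁻¹ := by rw [S.anti_conj heE he]
    _ = u := by rw [S.conj_mul_z (S.hEH hv), S.anti_conj hv h, S.zcancel]

theorem comm_mul {u v e : G} (h : v * u = u * v) (he : e * u = u * e) : v * e * u = u * (v * e) := by
  rw [mul_assoc, he, ← mul_assoc, h, mul_assoc]

/-- Adjust an element by a member of a non-commuting pair to centralize both. -/
theorem exists_adjust {u v e : G} (hu : u ∈ E) (hv : v ∈ E) (huv : u * v = v * u * z) (he : e ∈ E) :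
    ∃ w ∈ ([1, u, v, u * v] : List G), (w * e) * u = u * (w * e) ∧ (w * e) * v = v * (w * e) := by
  have hvu := S.anti_symm huv
  rcases S.comm_cases hu he with c1 | c1 <;> rcases S.comm_cases hv he with c2 | c2
  · exact ⟨1, by simp, by rw [one_mul]; exact c1.symm, by rw [one_mul]; exact c2.symm⟩
  · exact ⟨u, by simp, S.comm_mul rfl c1.symm, S.anti_mul hu hvu c2 he⟩
  · exact ⟨v, by simp, S.anti_mul hv huv c1 he, S.comm_mul rfl c2.symm⟩
  · have h1 : v * e * u = u * (v * e) := S.anti_mul hv huv c1 he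
    have h2 : v * (v * e) = v * e * v * z := by
      calc v * (v * e) = v * (e * v * z) := by rw [c2]
        _ = v * e * v * z := by group
    exact ⟨u * v, by simp, by rw [mul_assoc u v e]; exact S.comm_mul rfl h1,
      by rw [mul_assoc u v e]; exact S.anti_mul hu hvu h2 (mul_mem hv he)⟩

section X

variable {x : G} (hx : x ∈ cz z) (hx3 : orderOf x = 3) [Finite G]
include hx hx3

/-- The centre of `D`. -/
theorem dE_center {u v m : G} (hu : u ∈ dE E x) (hv : v ∈ dE E x) (huv : u * v = v * u * z)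
    (hm : m ∈ dE E x) (hmu : m * u = u * m) (hmv : m * v = v * m) : m = 1 ∨ m = z := by
  obtain ⟨huE, -⟩ := mem_dE.1 hu
  set A := dE E x ⊓ centralizer ({u} : Set G) with hA
  have hvA : v ∉ A := fun h => (S.anti_ne huE huv).1 (by
    have h1 : v * u = u * v := mem_centralizer_singleton_iff.1 h.2
    rw [h1] at huv
    exact absurd (mul_left_cancel (huv.symm.trans (mul_one _).symm)) S.zne)
  have hle : Nat.card A ≤ 4 := by
    have hdvd : Nat.card A ∣ 2 ^ 3 := by
      rw [show 2 ^ 3 = Nat.card (dE E x) from (S.card_dE hx hx3).symm]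
      exact card_dvd_of_le inf_le_left
    obtain ⟨k, hk, e⟩ := (Nat.dvd_prime_pow Nat.prime_two).1 hdvd
    rw [e]
    interval_cases k <;> try norm_num
    exfalso
    have : A = dE E x := eq_of_le_of_card_ge inf_le_left (by rw [e, S.card_dE hx hx3]; norm_num)
    exact hvA (this.symm ▸ hv)
  by_contra hn
  simp only [not_or] at hn
  have hzd : z ∈ dE E x := mem_dE.2 ⟨S.hzE, (S.zcomm hx).symm⟩
  have hzA : z ∈ A := ⟨hzd, mem_centralizer_singleton_iff.2 (S.zcomm_E huE).symm⟩
  have huA : u ∈ A := ⟨hu, mem_centralizer_singleton_iff.2 rfl⟩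
  have hmA : m ∈ A := ⟨hm, mem_centralizer_singleton_iff.2 hmu⟩
  obtain ⟨hu1, huz, -, -⟩ := S.anti_ne (mem_dE.1 hv).1 (S.anti_symm huv)
  have hz1 := S.zne
  have hm1 : m ≠ u := fun e => hvA ⟨hv, mem_centralizer_singleton_iff.2 (e ▸ hmv).symm⟩
  have hm2 : m ≠ u * z := fun e => hvA ⟨hv, mem_centralizer_singleton_iff.2 (by
    rw [e, mul_assoc u z v, ← S.zcomm_E (mem_dE.1 hv).1, ← mul_assoc, ← mul_assoc] at hmv
    exact (mul_right_cancel hmv).symm)⟩
  have := length_le_card (K := A) [1, z, u, u * z, m] (by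
      simp only [List.mem_cons, List.not_mem_nil, or_false]
      rintro c (rfl | rfl | rfl | rfl | rfl)
      exacts [one_mem _, hzA, huA, mul_mem huA hzA, hmA]) (by
      simp only [List.nodup_cons, List.mem_cons, List.not_mem_nil, or_false, not_or, not_false_iff,
        List.nodup_nil, and_true]
      refine ⟨⟨hz1.symm, hu1.symm, fun e => huz ?_, Ne.symm hn.1⟩, ⟨Ne.symm huz, ?_, Ne.symm hn.2⟩,
        ⟨?_, Ne.symm hm1⟩, Ne.symm hm2⟩
      · exact (eq_inv_of_mul_eq_one_left e.symm).trans S.zinv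
      · exact fun e => hu1 (mul_eq_right.1 e.symm)
      · exact fun e => hz1 (by simpa using e))
  simp only [List.length_cons, List.length_nil] at this
  omega

omit hx hx3 in
theorem qE_conj {a b : G} (hx : x ∈ cz z) (ha : a * x = x * a) (hb : b * x = x * b) {q : G}
    (hq : q ∈ qE E a b) : x * q * x⁻¹ ∈ qE E a b := by
  obtain ⟨hqE, hqa, hqb⟩ := mem_qE.1 hq
  refine mem_qE.2 ⟨S.hn x hx q hqE, ?_, ?_⟩
  · calc x * q * x⁻¹ * a = x * q * (x⁻¹ * a) := by group
      _ = x * q * (a * x⁻¹) := by rw [(Commute.inv_right ha).eq]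
      _ = x * (q * a) * x⁻¹ := by group
      _ = x * (a * q) * x⁻¹ := by rw [hqa]
      _ = x * a * q * x⁻¹ := by group
      _ = a * (x * q * x⁻¹) := by rw [← ha]; group
  · calc x * q * x⁻¹ * b = x * q * (x⁻¹ * b) := by group
      _ = x * q * (b * x⁻¹) := by rw [(Commute.inv_right hb).eq]
      _ = x * (q * b) * x⁻¹ := by group
      _ = x * (b * q) * x⁻¹ := by rw [hqb]
      _ = x * b * q * x⁻¹ := by group
      _ = b * (x * q * x⁻¹) := by rw [← hb]; group

variable {u v : G} (hu : u ∈ dE E x) (hv : v ∈ dE E x) (huv : u * v = v * u * z)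
include hu hv huv

omit hx hx3 [Finite G] in
theorem decomp {e : G} (he : e ∈ E) :
    ∃ d ∈ dE E x, ∃ q ∈ qE E u v, e = d * q := by
  obtain ⟨huE, -⟩ := mem_dE.1 hu
  obtain ⟨hvE, -⟩ := mem_dE.1 hv
  obtain ⟨w, hw, h1, h2⟩ := S.exists_adjust huE hvE huv he
  have hwd : w ∈ dE E x := by
    simp only [List.mem_cons, List.not_mem_nil, or_false] at hw
    rcases hw with rfl | rfl | rfl | rfl
    exacts [one_mem _, hu, hv, mul_mem hu hv]
  exact ⟨w⁻¹, inv_mem hwd, w * e, mem_qE.2 ⟨mul_mem (mem_dE.1 hwd).1 he, h1, h2⟩, by group⟩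

theorem qE_inter {m : G} (hm : m ∈ qE E u v) (hmd : m ∈ dE E x) : m = 1 ∨ m = z :=
  S.dE_center hx hx3 hu hv huv hmd (mem_qE.1 hm).2.1 (mem_qE.1 hm).2.2

theorem card_qE : Nat.card (qE E u v) = 8 := by
  obtain ⟨huE, -⟩ := mem_dE.1 hu
  obtain ⟨hvE, -⟩ := mem_dE.1 hv
  have h1 := S.card_le_two_centralizer le_rfl huE
  have h2 := S.card_le_two_centralizer (A := E ⊓ centralizer ({u} : Set G)) inf_le_left hvE
  rw [S.hE32] at h1
  rw [inf_assoc] at h2
  change _ ≤ 2 * Nat.card (qE E u v) at h2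
  have hinj : Function.Injective (fun p : Fin 4 × qE E u v => (![1, u, v, u * v] p.1) * (p.2 : G)) := by
    rintro ⟨i, q⟩ ⟨j, q'⟩ h
    have hu1 := S.anti_ne (mem_dE.1 hv).1 (S.anti_symm huv)
    have hv1 := S.anti_ne huE huv
    have hmem : ∀ k : Fin 4, ![1, u, v, u * v] k ∈ dE E x := by
      intro k; fin_cases k
      exacts [one_mem _, hu, hv, mul_mem hu hv]
    have hd : (![1, u, v, u * v] j)⁻¹ * ![1, u, v, u * v] i = (q' : G) * (q : G)⁻¹ := by
      simp only at h
      calc _ = (![1, u, v, u * v] j)⁻¹ * (![1, u, v, u * v] i * (q : G)) * (q : G)⁻¹ := by group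
        _ = _ := by rw [h]; group
    have hz : (![1, u, v, u * v] j)⁻¹ * ![1, u, v, u * v] i = 1 ∨
        (![1, u, v, u * v] j)⁻¹ * ![1, u, v, u * v] i = z :=
      S.qE_inter hx hx3 hu hv huv (hd ▸ mul_mem q'.2 (inv_mem q.2))
        (mul_mem (inv_mem (hmem j)) (hmem i))
    have hij : i = j := by
      have hz' : ![1, u, v, u * v] i = ![1, u, v, u * v] j ∨
          ![1, u, v, u * v] i = ![1, u, v, u * v] j * z := by
        rcases hz with e | e
        · exact Or.inl (inv_mul_eq_one.1 e).symm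
        · exact Or.inr (inv_mul_eq_iff_eq_mul.1 e)
      have hne : u * v ≠ z := fun e => hv1.2.2.2 (by
        have hh : u * (u * v) = u * z := by rw [e]
        rcases S.hsq u huE with q | q
        · rwa [← mul_assoc, q, one_mul] at hh
        · exfalso
          rw [← mul_assoc, q, ← S.zcomm_E hvE] at hh
          have : v = u := mul_right_cancel hh
          exact hv1.2.2.1 this)
      have hne1 : u * v ≠ 1 := fun e => by
        have h' : v * u = 1 := mul_eq_one_comm.1 e
        rw [e, h', one_mul] at huv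
        exact S.zne huv.symm
      fin_cases i <;> fin_cases j <;> simp at hz' ⊢ <;>
        rcases hz' with e | e <;>
        first
          | exact hu1.1 e | exact hu1.1 e.symm | exact hu1.2.1 e | exact hv1.1 e | exact hv1.1 e.symm
          | exact hv1.2.1 e | exact hne1 e | exact hne1 e.symm | exact hne e
          | exact hu1.2.2.1 e | exact hv1.2.2.1 e | exact hu1.2.2.2 e | exact hv1.2.2.2 e
          | exact hv1.1 (by simpa using e) | exact hu1.1 (by simpa using e)
          | exact hv1.2.1 (by simpa using e) | exact hu1.2.1 (by simpa using e)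
          | exact hu1.2.1 ((eq_inv_of_mul_eq_one_left e.symm).trans S.zinv)
          | exact hv1.2.1 ((eq_inv_of_mul_eq_one_left e.symm).trans S.zinv)
          | exact hne ((eq_inv_of_mul_eq_one_left e.symm).trans S.zinv)
          | exact hv1.2.1 ((eq_inv_of_mul_eq_one_left (by simpa [mul_assoc] using e.symm)).trans S.zinv)
          | exact hu1.1 (by rw [huv, S.zcancel] at e; simpa using e)
          | exact hu1.1 (by rw [huv] at e; simpa [mul_assoc] using e)
    subst hij
    simp only [mul_right_inj] at h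
    exact Prod.ext rfl (Subtype.ext h)
  have hle : 4 * Nat.card (qE E u v) ≤ 32 := by
    rw [← S.hE32]
    refine le_trans (le_of_eq ?_) (Nat.card_le_card_of_injective
      (fun p : Fin 4 × qE E u v => (⟨(![1, u, v, u * v] p.1) * (p.2 : G), mul_mem (by
        rcases p with ⟨k, q⟩
        fin_cases k
        exacts [one_mem _, huE, hvE, mul_mem huE hvE]) (mem_qE.1 p.2.2).1⟩ : E))
      fun p p' h => hinj (congrArg Subtype.val h))
    rw [Nat.card_prod, Nat.card_fin]
  omega

theorem qE_moved {q : G} (hq : q ∈ qE E u v) (h1 : q ≠ 1) (hz : q ≠ z) :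
    x * q * x⁻¹ ≠ q ∧ x * q * x⁻¹ ≠ q * z := by
  refine ⟨fun h => ?_, fun h => ?_⟩ <;>
    exact not_or.2 ⟨h1, hz⟩ (S.qE_inter hx hx3 hu hv huv hq (mem_dE.2 ⟨(mem_qE.1 hq).1,
      (S.conj_x_fixed_modz hx hx3 (by tauto)).symm⟩))

theorem qE_sq {q : G} (hq : q ∈ qE E u v) (h1 : q ≠ 1) (hz : q ≠ z) :
    q * q = z ∧ q * (x * q * x⁻¹) = x * q * x⁻¹ * q * z := by
  obtain ⟨hm1, hm2⟩ := S.qE_moved hx hx3 hu hv huv hq h1 hz
  obtain ⟨hqE, hqu, hqv⟩ := mem_qE.1 hq
  have hq' := S.qE_conj hx (mem_dE.1 hu).2 (mem_dE.1 hv).2 hq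
  have hq'E := (mem_qE.1 hq').1
  have hanti : q * (x * q * x⁻¹) = x * q * x⁻¹ * q * z := by
    refine (S.comm_cases hqE hq'E).resolve_left fun hc => ?_
    set C := qE E u v ⊓ centralizer ({q} : Set G) with hC
    have hzC : z ∈ C := ⟨mem_qE.2 ⟨S.hzE, (S.zcomm_E (mem_dE.1 hu).1).symm,
      (S.zcomm_E (mem_dE.1 hv).1).symm⟩, mem_centralizer_singleton_iff.2 (S.zcomm_E hqE).symm⟩
    have hqC : q ∈ C := ⟨hq, mem_centralizer_singleton_iff.2 rfl⟩
    have hq'C : x * q * x⁻¹ ∈ C := ⟨hq', mem_centralizer_singleton_iff.2 hc.symm⟩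
    have h5 := length_le_card (K := C) [1, z, q, q * z, x * q * x⁻¹] (by
        simp only [List.mem_cons, List.not_mem_nil, or_false]
        rintro c (rfl | rfl | rfl | rfl | rfl)
        exacts [one_mem _, hzC, hqC, mul_mem hqC hzC, hq'C]) (by
        simp only [List.nodup_cons, List.mem_cons, List.not_mem_nil, or_false, not_or, not_false_iff,
          List.nodup_nil, and_true]
        refine ⟨⟨S.zne.symm, h1.symm, fun e => hz ?_, fun e => h1 (conj_eq_one_iff.1 e.symm)⟩,
          ⟨Ne.symm hz, fun e => h1 (mul_eq_right.1 e.symm), fun e => hz ?_⟩, ⟨fun e => ?_, Ne.symm hm1⟩,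
          Ne.symm hm2⟩
        · exact (eq_inv_of_mul_eq_one_left e.symm).trans S.zinv
        · calc q = x⁻¹ * (x * q * x⁻¹) * x := by group
            _ = x⁻¹ * z * x := by rw [← e]
            _ = z := by rw [mul_assoc, ← S.zcomm hx, ← mul_assoc, inv_mul_cancel, one_mul]
        · exact S.zne (by simpa using e))
    simp only [List.length_cons, List.length_nil] at h5
    have hdvd : Nat.card C ∣ 2 ^ 3 := by
      rw [show 2 ^ 3 = Nat.card (qE E u v) from (S.card_qE hx hx3 hu hv huv).symm]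
      exact card_dvd_of_le inf_le_left
    obtain ⟨k, hk, e⟩ := (Nat.dvd_prime_pow Nat.prime_two).1 hdvd
    have hk3 : k = 3 := by interval_cases k <;> omega
    subst hk3
    have hCq : C = qE E u v := eq_of_le_of_card_ge inf_le_left
      (by rw [e, S.card_qE hx hx3 hu hv huv]; norm_num)
    rcases S.hcen q hqE (fun f hf => by
      obtain ⟨d, hd, r, hr, rfl⟩ := S.decomp hu hv huv hf
      have hr' : r * q = q * r := mem_centralizer_singleton_iff.1 ((hCq.symm ▸ hr : r ∈ C).2)
      have hd' : d * q = q * d := by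
        rcases S.comm_cases (mem_dE.1 hd).1 hqE with c | c
        · exact c
        · exfalso
          obtain ⟨w, hw, e1, e2⟩ := S.exists_adjust (mem_dE.1 hu).1 (mem_dE.1 hv).1 huv (mem_dE.1 hd).1
          have hwd : w ∈ dE E x := by
            simp only [List.mem_cons, List.not_mem_nil, or_false] at hw
            rcases hw with rfl | rfl | rfl | rfl
            exacts [one_mem _, hu, hv, mul_mem hu hv]
          have hwq : w * q = q * w := by
            simp only [List.mem_cons, List.not_mem_nil, or_false] at hw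
            rcases hw with rfl | rfl | rfl | rfl
            · simp
            · exact hqu.symm
            · exact hqv.symm
            · exact S.comm_mul hqu.symm hqv.symm
          have hwd' : w * d * q = q * (w * d) := by
            rcases S.dE_center hx hx3 hu hv huv (mul_mem hwd hd) e1 e2 with k | k <;> rw [k]
            · simp
            · exact (S.zcomm_E hqE).symm
          have : d * q = q * d := mul_left_cancel (a := w) (by
            rw [← mul_assoc, hwd', ← mul_assoc, ← hwq, mul_assoc])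
          rw [this] at c
          exact S.zne (mul_left_cancel (c.symm.trans (mul_one _).symm))
      exact (S.comm_mul hd' hr').symm) with h | h
    exacts [h1 h, hz h]
  refine ⟨?_, hanti⟩
  have hq'sq : (x * q * x⁻¹) * (x * q * x⁻¹) = q * q := by
    rw [show (x * q * x⁻¹) * (x * q * x⁻¹) = x * (q * q) * x⁻¹ by group]
    rcases S.hsq q hqE with r | r <;> rw [r]
    · simp
    · exact S.conj_z hx
  have hsq := S.sq_mul_of_anti hqE hq'E hanti
  rw [hq'sq] at hsq
  have hprod : (q * (x * q * x⁻¹)) * (q * (x * q * x⁻¹)) = z := by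
    rw [hsq]
    rcases S.hsq q hqE with r | r <;> rw [r] <;> simp [S.zz]
  have hk := S.qE_inter hx hx3 hu hv huv (mul_mem (mul_mem hq hq')
    (by
      have := S.qE_conj hx (mem_dE.1 hu).2 (mem_dE.1 hv).2 hq'
      have e3 : x * x * x = 1 := by rw [← S.x_cube hx hx3, pow_succ, sq]
      have ee : x * (x * q * x⁻¹) * x⁻¹ = x⁻¹ * q * x :=
        calc x * (x * q * x⁻¹) * x⁻¹ = x⁻¹ * ((x * x * x) * q * (x * x * x)⁻¹) * x := by group
          _ = x⁻¹ * q * x := by rw [e3]; group
      exact ee ▸ this)) (S.trip_fixed hx hx3 hqE)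
  have hcz : x⁻¹ * q * x ∈ cz z := S.hEH (by simpa using S.hn x⁻¹ (inv_mem hx) q hqE)
  have hx'sq : (x⁻¹ * q * x) * (x⁻¹ * q * x) = q * q := by
    rw [show (x⁻¹ * q * x) * (x⁻¹ * q * x) = x⁻¹ * (q * q) * x by group]
    rcases S.hsq q hqE with r | r <;> rw [r]
    · simp
    · rw [mul_assoc, ← S.zcomm hx, ← mul_assoc, inv_mul_cancel, one_mul]
  have hmem := mul_mem hqE hq'E
  have hval : ∀ w : G, w = 1 ∨ w = z → q * (x * q * x⁻¹) * (x⁻¹ * q * x) = w → q * q = z := by
    intro w hw he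
    have e1 : x⁻¹ * q * x = (q * (x * q * x⁻¹))⁻¹ * w := by rw [← he]; group
    rw [← hx'sq, e1]
    rcases hw with rfl | rfl
    · rw [mul_one, ← mul_inv_rev, hprod, S.zinv]
    · rw [S.sq_mul_of_comm (S.zcomm_E (inv_mem hmem)), S.zz, mul_one, ← mul_inv_rev, hprod, S.zinv]
  rcases hk with h | h
  exacts [hval 1 (Or.inl rfl) h, hval z (Or.inr rfl) h]

omit hu hv huv in
/-- There are a frame of two involutions in `D`. -/
theorem exists_preFrame : ∃ a b : G, PreFrame z E φ x a b := by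
  obtain ⟨u, hu, v, hv, huv⟩ := S.dE_not_comm hx hx3
  have huE := (mem_dE.1 hu).1
  have hvE := (mem_dE.1 hv).1
  obtain ⟨a, had, haa, ha1, haz⟩ : ∃ a ∈ dE E x, a * a = 1 ∧ a ≠ 1 ∧ a ≠ z := by
    by_contra hn
    push Not at hn
    have hsq : ∀ d ∈ dE E x, d ≠ 1 → d ≠ z → d * d = z := fun d hd h1 h2 =>
      (S.hsq d (mem_dE.1 hd).1).resolve_left fun h => h2 (hn d hd h h1)
    obtain ⟨q, hq, hqs⟩ := exists_avoid (K := qE E u v) [1, z]
      (by rw [S.card_qE hx hx3 hu hv huv]; simp)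
    simp only [List.mem_cons, List.not_mem_nil, or_false, not_or] at hqs
    obtain ⟨hqq, hanti⟩ := S.qE_sq hx hx3 hu hv huv hq hqs.1 hqs.2
    obtain ⟨hqE, hqu, hqv⟩ := mem_qE.1 hq
    have hq' := S.qE_conj hx (mem_dE.1 hu).2 (mem_dE.1 hv).2 hq
    obtain ⟨hq'E, hq'u, hq'v⟩ := mem_qE.1 hq'
    have hq'1 : x * q * x⁻¹ ≠ 1 ∧ x * q * x⁻¹ ≠ z := by
      obtain ⟨g1, g2, -, -⟩ := S.anti_ne hqE hanti
      exact ⟨g1, g2⟩
    have hq'q := (S.qE_sq hx hx3 hu hv huv hq' hq'1.1 hq'1.2).1
    have hu1 := S.anti_ne hvE (S.anti_symm huv)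
    have hv1 := S.anti_ne huE huv
    have hA2 : (u * q) * (u * q) = 1 := by rw [S.sq_mul_of_comm hqu.symm, hsq u hu hu1.1 hu1.2.1, hqq, S.zz]
    have hB2 : (v * (x * q * x⁻¹)) * (v * (x * q * x⁻¹)) = 1 := by rw [S.sq_mul_of_comm hq'v.symm, hsq v hv hv1.1 hv1.2.1, hq'q, S.zz]
    have hAB : (u * q) * (v * (x * q * x⁻¹)) = (v * (x * q * x⁻¹)) * (u * q) := by
      calc (u * q) * (v * (x * q * x⁻¹)) = u * (q * v) * (x * q * x⁻¹) := by group
        _ = u * v * (q * (x * q * x⁻¹)) := by rw [hqv]; group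
        _ = v * u * (z * (x * q * x⁻¹ * q * z)) := by rw [huv, hanti]; group
        _ = v * u * (x * q * x⁻¹ * q) := by
          rw [← mul_assoc z, ← S.zcomm_E (mul_mem hq'E hqE), S.zcancel]
        _ = v * (u * (x * q * x⁻¹)) * q := by group
        _ = v * (x * q * x⁻¹ * u) * q := by rw [hq'u]
        _ = (v * (x * q * x⁻¹)) * (u * q) := by group
    have hd : ∀ w, w = 1 ∨ w = z → (u * q) ≠ w := by
      intro w hw e
      have hqd : q ∈ dE E x := by
        have : q = u⁻¹ * w := by rw [← e]; group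
        rw [this]
        exact mul_mem (inv_mem hu) (by
          rcases hw with rfl | rfl
          exacts [one_mem _, mem_dE.2 ⟨S.hzE, (S.zcomm hx).symm⟩])
      exact not_or.2 ⟨hqs.1, hqs.2⟩ (S.qE_inter hx hx3 hu hv huv hq hqd)
    have hB : ∀ w, w = 1 ∨ w = z ∨ w = (u * q) ∨ w = (u * q) * z → (v * (x * q * x⁻¹)) ≠ w := by
      intro w hw e
      have hzd : z ∈ dE E x := mem_dE.2 ⟨S.hzE, (S.zcomm hx).symm⟩
      have hzq : z ∈ qE E u v := mem_qE.2 ⟨S.hzE, (S.zcomm_E huE).symm, (S.zcomm_E hvE).symm⟩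
      rcases hw with rfl | hwz | rfl | rfl
      · have h1 : x * q * x⁻¹ = v⁻¹ := (inv_eq_of_mul_eq_one_right e).symm
        exact not_or.2 hq'1 (S.qE_inter hx hx3 hu hv huv hq' (h1 ▸ inv_mem hv))
      · rw [hwz] at e
        have h1 : x * q * x⁻¹ = v⁻¹ * z := by rw [← e]; group
        exact not_or.2 hq'1 (S.qE_inter hx hx3 hu hv huv hq' (h1 ▸ mul_mem (inv_mem hv) hzd))
      · have h1 : u⁻¹ * v = q * (x * q * x⁻¹)⁻¹ := by
          calc u⁻¹ * v = u⁻¹ * (v * (x * q * x⁻¹)) * (x * q * x⁻¹)⁻¹ := by group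
            _ = u⁻¹ * (u * q) * (x * q * x⁻¹)⁻¹ := by rw [e]
            _ = _ := by group
        rcases S.qE_inter hx hx3 hu hv huv (h1 ▸ mul_mem hq (inv_mem hq')) (mul_mem (inv_mem hu) hv)
          with k | k
        · exact hv1.2.2.1 (inv_mul_eq_one.1 k).symm
        · exact hv1.2.2.2 (inv_mul_eq_iff_eq_mul.1 k)
      · have h1 : u⁻¹ * v = q * z * (x * q * x⁻¹)⁻¹ := by
          calc u⁻¹ * v = u⁻¹ * (v * (x * q * x⁻¹)) * (x * q * x⁻¹)⁻¹ := by group
            _ = u⁻¹ * (u * q * z) * (x * q * x⁻¹)⁻¹ := by rw [e]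
            _ = _ := by group
        rcases S.qE_inter hx hx3 hu hv huv (h1 ▸ mul_mem (mul_mem hq hzq) (inv_mem hq'))
          (mul_mem (inv_mem hu) hv) with k | k
        · exact hv1.2.2.1 (inv_mul_eq_one.1 k).symm
        · exact hv1.2.2.2 (inv_mul_eq_iff_eq_mul.1 k)
    rcases S.hno8 (u * q) (mul_mem huE hqE) (v * (x * q * x⁻¹)) (mul_mem hvE hq'E) hA2 hB2 hAB (hd 1 (Or.inl rfl))
      (hd z (Or.inr rfl)) with h | h | h | h
    exacts [hB 1 (Or.inl rfl) h, hB z (Or.inr (Or.inl rfl)) h,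
      hB (u * q) (Or.inr (Or.inr (Or.inl rfl))) h, hB ((u * q) * z) (Or.inr (Or.inr (Or.inr rfl))) h]
  obtain ⟨haE, hax⟩ := mem_dE.1 had
  obtain ⟨w, hw, hawc⟩ : ∃ w ∈ dE E x, a * w = w * a * z := by
    by_contra hn
    push Not at hn
    have hc : ∀ d ∈ dE E x, a * d = d * a := fun d hd =>
      (S.comm_cases haE (mem_dE.1 hd).1).resolve_right (hn d hd)
    rcases S.dE_center hx hx3 hu hv huv had (hc u hu) (hc v hv) with r | r
    exacts [ha1 r, haz r]
  obtain ⟨hwE, hwx⟩ := mem_dE.1 hw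
  rcases S.hsq w hwE with h | h
  · exact ⟨a, w, ⟨S, hx, hx3, haE, hwE, haa, h, hax, hwx, hawc⟩⟩
  · refine ⟨a, a * w, ⟨S, hx, hx3, haE, mul_mem haE hwE, haa, ?_, hax, S.comm_mul hax hwx, ?_⟩⟩
    · rw [S.sq_mul_of_anti haE hwE hawc, haa, h, one_mul, S.zz]
    · calc a * (a * w) = a * (w * a * z) := by rw [hawc]
        _ = a * w * a * z := by group

end X

end Hyp

end CfsgLib.AutL34
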