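import Cfsg.Agent.Lib.Invol.AutLThreeFour.Frame

/-!
# A normal four-group of `C(z)` inside `E`
-/

set_option autoImplicit false

open Subgroup

namespace CfsgLib.AutL34

universe u

variable {G : Type u} [Group G]

/-- A pre-frame with `⟨z, a⟩` normal in `C(z)`. -/
structure Frame (z : G) (E : Subgroup G) (φ : ↥(cz z) →* Equiv.Perm (Fin 4)) (x a b : G) : Prop
    extends PreFrame z E φ x a b where
  hW : ∀ h ∈ cz z, h * a * h⁻¹ = a ∨ h * a * h⁻¹ = a * z

variable {z : G} {E : Subgroup G} {φ : ↥(cz z) →* Equiv.Perm (Fin 4)}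

namespace Hyp

variable (S : Hyp z E φ)
include S

theorem mem_zpowers_z {g : G} : g ∈ zpowers z ↔ g = 1 ∨ g = z := by
  refine ⟨fun h => ?_, ?_⟩
  · obtain ⟨k, rfl⟩ := mem_zpowers_iff.1 h
    have hz2 : z ^ (2 : ℤ) = 1 := by rw [zpow_two, S.zz]
    rcases Int.even_or_odd' k with ⟨m, rfl | rfl⟩
    · left; rw [zpow_mul, hz2, one_zpow]
    · right; rw [zpow_add, zpow_mul, hz2, one_zpow, one_mul, zpow_one]
  · rintro (rfl | rfl)
    exacts [one_mem _, mem_zpowers _]

theorem conj_mem_zpowers {h g : G} (hh : h ∈ cz z) (hg : g ∈ zpowers z) :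
    h * g * h⁻¹ = g := by
  rcases S.mem_zpowers_z.1 hg with rfl | rfl
  · simp
  · exact S.conj_z hh

theorem fixed_pm {h e : G} : h * e * h⁻¹ * e⁻¹ ∈ zpowers z → e ∈ E →
    h * e * h⁻¹ = e ∨ h * e * h⁻¹ = e * z := by
  intro hm he
  rcases S.mem_zpowers_z.1 hm with h1 | h1
  · exact Or.inl (mul_inv_eq_one.1 h1)
  · exact Or.inr (by rw [mul_inv_eq_iff_eq_mul] at h1; rw [h1, S.zcomm_E he])

end Hyp

namespace PreFrame

variable {x a b : G} (S : PreFrame z E φ x a b)
include S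

theorem ad : a ∈ dE E x := mem_dE.2 ⟨S.ha, S.ax⟩

theorem bd : b ∈ dE E x := mem_dE.2 ⟨S.hb, S.bx⟩

theorem zd : z ∈ dE E x := mem_dE.2 ⟨S.hzE, (S.zcomm S.hx).symm⟩

theorem zq : z ∈ qE E a b := mem_qE.2 ⟨S.hzE, (S.zcomm_E S.ha).symm, (S.zcomm_E S.hb).symm⟩

theorem ab_ne : a ≠ 1 ∧ a ≠ z ∧ b ≠ 1 ∧ b ≠ z ∧ b ≠ a ∧ b ≠ a * z := by
  obtain ⟨h1, h2, h3, h4⟩ := S.anti_ne S.ha S.ab
  obtain ⟨g1, g2, -, -⟩ := S.anti_ne S.hb (S.anti_symm S.ab)
  exact ⟨g1, g2, h1, h2, h3, h4⟩

theorem ab_sq : (a * b) * (a * b) = z := by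
  rw [S.sq_mul_of_anti S.ha S.hb S.ab, S.aa, S.bb, one_mul, one_mul]

theorem swap : PreFrame z E φ x b a :=
  ⟨S.toHyp, S.hx, S.hx3, S.hb, S.ha, S.bb, S.aa, S.bx, S.ax, S.anti_symm S.ab⟩

variable [Finite G]

theorem dE_eq {d : G} (hd : d ∈ dE E x) :
    d ∈ ([1, z, a, a * z, b, b * z, a * b, a * b * z] : List G) := by
  obtain ⟨w, hw, h1, h2⟩ := S.exists_adjust S.ha S.hb S.ab (mem_dE.1 hd).1
  have hwd : w ∈ dE E x := by
    simp only [List.mem_cons, List.not_mem_nil, or_false] at hw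
    rcases hw with rfl | rfl | rfl | rfl
    exacts [one_mem _, S.ad, S.bd, mul_mem S.ad S.bd]
  have hz := S.dE_center S.hx S.hx3 S.ad S.bd S.ab (mul_mem hwd hd) h1 h2
  have hd' : ∀ v, w * d = v → d = w⁻¹ * v := fun v hv => by rw [← hv]; group
  have hainv : a⁻¹ = a := inv_eq_of_mul_eq_one_right S.aa
  have hbinv : b⁻¹ = b := inv_eq_of_mul_eq_one_right S.bb
  have habinv : (a * b)⁻¹ = a * b * z :=
    inv_eq_of_mul_eq_one_right (by rw [← mul_assoc, S.ab_sq, S.zz])
  simp only [List.mem_cons, List.not_mem_nil, or_false] at hw ⊢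
  rcases hz with h | h <;> rw [hd' _ h] <;> rcases hw with rfl | rfl | rfl | rfl <;>
    simp [hainv, hbinv, habinv, S.zcancel]

theorem invol_dE {d : G} (hd : d ∈ dE E x) (h2 : d * d = 1) (h1 : d ≠ 1) (hz : d ≠ z) :
    d = a ∨ d = a * z ∨ d = b ∨ d = b * z := by
  have := S.dE_eq hd
  simp only [List.mem_cons, List.not_mem_nil, or_false] at this
  rcases this with h | h | h | h | h | h | h | h
  · exact absurd h h1
  · exact absurd h hz
  · exact Or.inl h
  · exact Or.inr (Or.inl h)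
  · exact Or.inr (Or.inr (Or.inl h))
  · exact Or.inr (Or.inr (Or.inr h))
  · exact absurd (by rw [h, S.ab_sq] at h2; exact h2) S.zne
  · refine absurd ?_ S.zne
    rw [h, S.sq_mul_of_comm (S.zcomm_E (mul_mem S.ha S.hb)), S.ab_sq, S.zz, mul_one] at h2
    exact h2

theorem sq_qE {q : G} (hq : q ∈ qE E a b) (h1 : q ≠ 1) (hz : q ≠ z) : q * q = z :=
  (S.qE_sq S.hx S.hx3 S.ad S.bd S.ab hq h1 hz).1

theorem anti_qE {q : G} (hq : q ∈ qE E a b) (h1 : q ≠ 1) (hz : q ≠ z) :
    q * (x * q * x⁻¹) = x * q * x⁻¹ * q * z :=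
  (S.qE_sq S.hx S.hx3 S.ad S.bd S.ab hq h1 hz).2

theorem card_qE' : Nat.card (qE E a b) = 8 := S.card_qE S.hx S.hx3 S.ad S.bd S.ab

theorem decomp' {e : G} (he : e ∈ E) : ∃ d ∈ dE E x, ∃ q ∈ qE E a b, e = d * q :=
  S.decomp S.ad S.bd S.ab he

omit [Finite G] in
theorem comm_dq {d q : G} (hd : d ∈ ([1, z, a, a * z, b, b * z, a * b, a * b * z] : List G))
    (hq : q ∈ qE E a b) : d * q = q * d := by
  obtain ⟨hqE, hqa, hqb⟩ := mem_qE.1 hq
  have hz : Commute z q := (S.zcomm_E hqE).symm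
  have ha : Commute a q := hqa.symm
  have hb : Commute b q := hqb.symm
  simp only [List.mem_cons, List.not_mem_nil, or_false] at hd
  rcases hd with rfl | rfl | rfl | rfl | rfl | rfl | rfl | rfl
  exacts [Commute.one_left q, hz, ha, ha.mul_left hz, hb, hb.mul_left hz, ha.mul_left hb,
    (ha.mul_left hb).mul_left hz]

/-- Elements of `E` centralizing `Q` lie in `D`. -/
theorem mem_dE_of_centralizes {e : G} (he : e ∈ E) (h : ∀ q ∈ qE E a b, e * q = q * e) :
    e ∈ dE E x := by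
  obtain ⟨d, hd, q, hq, rfl⟩ := S.decomp' he
  by_cases hq1 : q = 1
  · rw [hq1, mul_one]; exact hd
  by_cases hqz : q = z
  · rw [hqz]; exact mul_mem hd S.zd
  exfalso
  set q' := x * q * x⁻¹
  have hq' : q' ∈ qE E a b := S.qE_conj S.hx S.ax S.bx hq
  have h1 := h q' hq'
  rw [mul_assoc, S.anti_qE hq hq1 hqz] at h1
  have h2 : d * (q' * q * z) = d * (q' * q) := by
    rw [h1, ← mul_assoc, ← S.comm_dq (S.dE_eq hd) hq', mul_assoc]
  exact S.zne (by simpa using mul_left_cancel h2)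

/-- The elements of `E` fixed modulo `⟨z⟩` by `R`. -/
def pfix : Subgroup G where
  carrier := {e | e ∈ E ∧ ∀ r ∈ rad φ, r * e * r⁻¹ * e⁻¹ ∈ zpowers z}
  one_mem' := ⟨one_mem _, fun r _ => by simp⟩
  mul_mem' {e f} he hf := by
    refine ⟨mul_mem he.1 hf.1, fun r hr => ?_⟩
    have hc := S.conj_mem_zpowers (S.hEH he.1) (hf.2 r hr)
    rw [show r * (e * f) * r⁻¹ * (e * f)⁻¹ =
      (r * e * r⁻¹ * e⁻¹) * (e * (r * f * r⁻¹ * f⁻¹) * e⁻¹) by group, hc]
    exact mul_mem (he.2 r hr) (hf.2 r hr)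
  inv_mem' {e} he := by
    refine ⟨inv_mem he.1, fun r hr => ?_⟩
    have hc := S.conj_mem_zpowers (inv_mem (S.hEH he.1)) (inv_mem (he.2 r hr))
    rw [show r * e⁻¹ * r⁻¹ * e⁻¹⁻¹ = e⁻¹ * (r * e * r⁻¹ * e⁻¹)⁻¹ * e⁻¹⁻¹ by group, hc]
    exact inv_mem (he.2 r hr)

omit [Finite G] in
theorem mem_pfix {e : G} :
    e ∈ S.pfix ↔ e ∈ E ∧ ∀ r ∈ rad φ, r * e * r⁻¹ * e⁻¹ ∈ zpowers z := Iff.rfl

omit [Finite G] in
theorem pfix_conj {h e : G} (hh : h ∈ cz z) (he : e ∈ S.pfix) : h * e * h⁻¹ ∈ S.pfix := by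
  refine S.mem_pfix.2 ⟨S.hn h hh e he.1, fun r hr => ?_⟩
  have hr' : h⁻¹ * r * h ∈ rad φ := by simpa using rad_normal (inv_mem hh) hr
  rw [show r * (h * e * h⁻¹) * r⁻¹ * (h * e * h⁻¹)⁻¹ =
    h * ((h⁻¹ * r * h) * e * (h⁻¹ * r * h)⁻¹ * e⁻¹) * h⁻¹ by group,
    S.conj_mem_zpowers hh (he.2 _ hr')]
  exact he.2 _ hr'

omit [Finite G] in
theorem z_mem_pfix : z ∈ S.pfix := S.mem_pfix.2 ⟨S.hzE, fun r hr => by
  rw [S.conj_z (rad_le hr), mul_inv_cancel]; exact one_mem _⟩

theorem not_pfix_top (ha : a ∈ S.pfix) (hb : b ∈ S.pfix) (hq : ∀ q ∈ qE E a b, q ∈ S.pfix) :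
    False := by
  have hle : rad φ ≤ E := by
    intro r hr
    -- multiply `r` by an element of `E` to centralize `a`, `b` and `Q`
    have hall : ∀ e ∈ E, e ∈ S.pfix := fun e he => by
      obtain ⟨d, hd, q, hq', rfl⟩ := S.decomp' he
      refine mul_mem ?_ (hq q hq')
      have hd' := S.dE_eq hd
      simp only [List.mem_cons, List.not_mem_nil, or_false] at hd'
      have hz := S.z_mem_pfix
      rcases hd' with rfl | rfl | rfl | rfl | rfl | rfl | rfl | rfl
      exacts [one_mem _, hz, ha, mul_mem ha hz, hb, mul_mem hb hz, mul_mem ha hb,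
        mul_mem (mul_mem ha hb) hz]
    obtain ⟨q, hq', hqs⟩ := exists_avoid (K := qE E a b) [1, z] (by rw [S.card_qE']; simp)
    simp only [List.mem_cons, List.not_mem_nil, or_false, not_or] at hqs
    set q' := x * q * x⁻¹
    have hq'q : q' ∈ qE E a b := S.qE_conj S.hx S.ax S.bx hq'
    have hqanti := S.anti_qE hq' hqs.1 hqs.2
    obtain ⟨hqE, hqa, hqb⟩ := mem_qE.1 hq'
    obtain ⟨hq'E, hq'a, hq'b⟩ := mem_qE.1 hq'q
    -- one correction
    have step : ∀ (k e f : G), k ∈ cz z → k * f * k⁻¹ * f⁻¹ ∈ zpowers z → f ∈ E → e ∈ E →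
        e * f * e⁻¹ = f * z → ∃ c : G, (c = 1 ∨ c = e) ∧ (k * c) * f * (k * c)⁻¹ = f := by
      intro k e f hk hm hf he hef
      rcases S.fixed_pm hm hf with h | h
      · exact ⟨1, Or.inl rfl, by rw [mul_one]; exact h⟩
      · refine ⟨e, Or.inr rfl, ?_⟩
        rw [show k * e * f * (k * e)⁻¹ = k * (e * f * e⁻¹) * k⁻¹ by group, hef, S.conj_mul_z hk, h,
          S.zcancel]
    have mkpm : ∀ {k f : G}, k ∈ rad φ → f ∈ E → k * f * k⁻¹ * f⁻¹ ∈ zpowers z :=
      fun hk hf => (hall _ hf).2 _ hk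
    have keep : ∀ (k c f : G), k * f * k⁻¹ = f → c * f = f * c → (k * c) * f * (k * c)⁻¹ = f := by
      intro k c f h hc
      rw [show k * c * f * (k * c)⁻¹ = k * (c * f * c⁻¹) * k⁻¹ by group, conj_iff_comm.2 hc, h]
    obtain ⟨c1, hc1, f1⟩ := step r b a (rad_le hr) (mkpm hr S.ha) S.ha S.hb (S.anti_conj S.hb S.ab)
    have hc1E : c1 ∈ E := by rcases hc1 with rfl | rfl; exacts [one_mem _, S.hb]
    have h1 : r * c1 ∈ rad φ := mul_mem hr (S.E_le_rad hc1E)
    obtain ⟨c2, hc2, f2⟩ := step _ a b (rad_le h1) (mkpm h1 S.hb) S.hb S.ha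
      (S.anti_conj S.ha (S.anti_symm S.ab))
    have hc2E : c2 ∈ E := by rcases hc2 with rfl | rfl; exacts [one_mem _, S.ha]
    have g2 : (r * c1 * c2) * a * (r * c1 * c2)⁻¹ = a :=
      keep _ c2 a f1 (by rcases hc2 with rfl | rfl <;> simp)
    have h2 : r * c1 * c2 ∈ rad φ := mul_mem h1 (S.E_le_rad hc2E)
    obtain ⟨c3, hc3, f3⟩ := step _ q' q (rad_le h2) (mkpm h2 hqE) hqE hq'E
      (S.anti_conj hq'E hqanti)
    have hc3E : c3 ∈ E := by rcases hc3 with rfl | rfl; exacts [one_mem _, hq'E]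
    have g3a : (r * c1 * c2 * c3) * a * (r * c1 * c2 * c3)⁻¹ = a :=
      keep _ c3 a g2 (by rcases hc3 with rfl | rfl <;> simp [hq'a])
    have g3b : (r * c1 * c2 * c3) * b * (r * c1 * c2 * c3)⁻¹ = b :=
      keep _ c3 b f2 (by rcases hc3 with rfl | rfl <;> simp [hq'b])
    have h3 : r * c1 * c2 * c3 ∈ rad φ := mul_mem h2 (S.E_le_rad hc3E)
    obtain ⟨c4, hc4, f4⟩ := step _ q q' (rad_le h3) (mkpm h3 hq'E) hq'E hqE
      (S.anti_conj hqE (S.anti_symm hqanti))
    have hc4E : c4 ∈ E := by rcases hc4 with rfl | rfl; exacts [one_mem _, hqE]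
    set k := r * c1 * c2 * c3 * c4
    have ka : k * a * k⁻¹ = a := keep _ c4 a g3a (by rcases hc4 with rfl | rfl <;> simp [hqa])
    have kb : k * b * k⁻¹ = b := keep _ c4 b g3b (by rcases hc4 with rfl | rfl <;> simp [hqb])
    have kq : k * q * k⁻¹ = q := keep _ c4 q f3 (by rcases hc4 with rfl | rfl <;> simp)
    have hkR : k ∈ rad φ := mul_mem h3 (S.E_le_rad hc4E)
    set C := E ⊓ centralizer ({k} : Set G)
    have hCmem : ∀ {g : G}, g ∈ E → k * g * k⁻¹ = g → g ∈ C := fun hg h =>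
      ⟨hg, mem_centralizer_singleton_iff.2 (conj_iff_comm.1 h).symm⟩
    have hCa := hCmem S.ha ka
    have hCb := hCmem S.hb kb
    have hCq := hCmem hqE kq
    have hCq' := hCmem hq'E f4
    have hCz := hCmem S.hzE (S.conj_z (rad_le hkR))
    have hqsub : qE E a b ≤ C := by
      set T := qE E a b ⊓ C
      have hd : Nat.card T ∣ 2 ^ 3 := by
        rw [show 2 ^ 3 = Nat.card (qE E a b) from S.card_qE'.symm]; exact card_dvd_of_le inf_le_left
      obtain ⟨n1, n2⟩ := S.qE_moved S.hx S.hx3 S.ad S.bd S.ab hq' hqs.1 hqs.2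
      obtain ⟨p1, p2, -, -⟩ := S.anti_ne hqE hqanti
      have h5 := length_le_card (K := T) [1, z, q, q * z, q'] (by
          simp only [List.mem_cons, List.not_mem_nil, or_false]
          rintro c (rfl | rfl | rfl | rfl | rfl)
          exacts [one_mem _, ⟨S.zq, hCz⟩, ⟨hq', hCq⟩, ⟨mul_mem hq' S.zq, mul_mem hCq hCz⟩,
            ⟨hq'q, hCq'⟩]) (by
          simp only [List.nodup_cons, List.mem_cons, List.not_mem_nil, or_false, not_or, not_false_iff,
            List.nodup_nil, and_true]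
          refine ⟨⟨S.zne.symm, Ne.symm hqs.1, fun e => hqs.2 ?_, Ne.symm p1⟩,
            ⟨Ne.symm hqs.2, fun e => hqs.1 (mul_eq_right.1 e.symm), Ne.symm p2⟩,
            ⟨fun e => S.zne (by simpa using e), Ne.symm n1⟩, Ne.symm n2⟩
          exact (eq_inv_of_mul_eq_one_left e.symm).trans S.zinv)
      simp only [List.length_cons, List.length_nil] at h5
      obtain ⟨m, hm, e⟩ := (Nat.dvd_prime_pow Nat.prime_two).1 hd
      have hm3 : m = 3 := by interval_cases m <;> omega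
      subst hm3
      have : T = qE E a b := eq_of_le_of_card_ge inf_le_left (by rw [e, S.card_qE']; norm_num)
      exact this ▸ inf_le_right
    have hcent : ∀ e ∈ E, k * e = e * k := fun e he => by
      obtain ⟨d, hd, p, hp, rfl⟩ := S.decomp' he
      have hd' := S.dE_eq hd
      simp only [List.mem_cons, List.not_mem_nil, or_false] at hd'
      have hdC : d ∈ C := by
        rcases hd' with rfl | rfl | rfl | rfl | rfl | rfl | rfl | rfl
        exacts [one_mem _, hCz, hCa, mul_mem hCa hCz, hCb, mul_mem hCb hCz, mul_mem hCa hCb,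
          mul_mem (mul_mem hCa hCb) hCz]
      exact (mem_centralizer_singleton_iff.1 (mul_mem hdC (hqsub hp)).2).symm
    have hkE := S.hCE k (rad_le hkR) hcent
    have : r = k * (c1 * c2 * c3 * c4)⁻¹ := by
      show r = r * c1 * c2 * c3 * c4 * (c1 * c2 * c3 * c4)⁻¹
      group
    rw [this]
    exact mul_mem hkE (inv_mem (mul_mem (mul_mem (mul_mem hc1E hc2E) hc3E) hc4E))
  have := card_le_of_le hle
  rw [S.card_rad, S.hE32] at this
  omega

theorem pfix_q {q : G} (hq : q ∈ qE E a b) (hP : q ∈ S.pfix) (h1 : q ≠ 1) (hz : q ≠ z) : False := by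
  have hq' : x * q * x⁻¹ ∈ qE E a b := S.qE_conj S.hx S.ax S.bx hq
  -- all of `Q` is fixed
  have hall : ∀ p ∈ qE E a b, p ∈ S.pfix := by
    set T := qE E a b ⊓ S.pfix
    have hd : Nat.card T ∣ 2 ^ 3 := by
      rw [show 2 ^ 3 = Nat.card (qE E a b) from S.card_qE'.symm]; exact card_dvd_of_le inf_le_left
    obtain ⟨n1, n2⟩ := S.qE_moved S.hx S.hx3 S.ad S.bd S.ab hq h1 hz
    obtain ⟨p1, p2, -, -⟩ := S.anti_ne (mem_qE.1 hq).1 (S.anti_qE hq h1 hz)
    have h5 := length_le_card (K := T) [1, z, q, q * z, x * q * x⁻¹] (by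
        simp only [List.mem_cons, List.not_mem_nil, or_false]
        rintro c (rfl | rfl | rfl | rfl | rfl)
        exacts [one_mem _, ⟨S.zq, S.z_mem_pfix⟩, ⟨hq, hP⟩,
          ⟨mul_mem hq S.zq, mul_mem hP S.z_mem_pfix⟩, ⟨hq', S.pfix_conj S.hx hP⟩]) (by
        simp only [List.nodup_cons, List.mem_cons, List.not_mem_nil, or_false, not_or, not_false_iff,
          List.nodup_nil, and_true]
        refine ⟨⟨S.zne.symm, Ne.symm h1, fun e => hz ?_, Ne.symm p1⟩,
          ⟨Ne.symm hz, fun e => h1 (mul_eq_right.1 e.symm), Ne.symm p2⟩,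
          ⟨fun e => S.zne (by simpa using e), Ne.symm n1⟩, Ne.symm n2⟩
        exact (eq_inv_of_mul_eq_one_left e.symm).trans S.zinv)
    simp only [List.length_cons, List.length_nil] at h5
    obtain ⟨m, hm, e⟩ := (Nat.dvd_prime_pow Nat.prime_two).1 hd
    have hm3 : m = 3 := by interval_cases m <;> omega
    subst hm3
    have : T = qE E a b := eq_of_le_of_card_ge inf_le_left (by rw [e, S.card_qE']; norm_num)
    intro p hp
    exact ((this.symm ▸ hp : p ∈ T)).2
  -- the images of `a` and `b` are involutions of `D`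
  have himg : ∀ r ∈ rad φ, ∀ c, (c = a ∨ c = b) →
      r * c * r⁻¹ = a ∨ r * c * r⁻¹ = a * z ∨ r * c * r⁻¹ = b ∨ r * c * r⁻¹ = b * z := by
    intro r hr c hc
    have hcE : c ∈ E := by rcases hc with rfl | rfl; exacts [S.ha, S.hb]
    have hc2 : c * c = 1 := by rcases hc with rfl | rfl; exacts [S.aa, S.bb]
    have hcne : c ≠ 1 ∧ c ≠ z := by
      obtain ⟨h1, h2, h3, h4, -, -⟩ := S.ab_ne
      rcases hc with rfl | rfl; exacts [⟨h1, h2⟩, ⟨h3, h4⟩]
    have hrc := rad_le hr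
    refine S.invol_dE (S.mem_dE_of_centralizes (S.hn r hrc c hcE) fun p hp => ?_)
      (by rw [show r * c * r⁻¹ * (r * c * r⁻¹) = r * (c * c) * r⁻¹ by group, hc2]; simp)
      (fun e => hcne.1 (conj_eq_one_iff.1 e)) (fun e => hcne.2 ?_)
    · have h3 : r⁻¹ * p * r ∈ qE E a b := by
        have := (hall p hp).2 r⁻¹ (inv_mem hr)
        rw [inv_inv] at this
        rcases S.mem_zpowers_z.1 this with e | e
        · rw [mul_inv_eq_one] at e; rw [e]; exact hp
        · rw [mul_inv_eq_iff_eq_mul] at e; rw [e]; exact mul_mem S.zq hp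
      have hcom : c * (r⁻¹ * p * r) = r⁻¹ * p * r * c := by
        obtain ⟨-, ga, gb⟩ := mem_qE.1 h3
        rcases hc with rfl | rfl
        exacts [ga.symm, gb.symm]
      calc r * c * r⁻¹ * p = r * (c * (r⁻¹ * p * r)) * r⁻¹ := by group
        _ = r * (r⁻¹ * p * r * c) * r⁻¹ := by rw [hcom]
        _ = p * (r * c * r⁻¹) := by group
    · calc c = r⁻¹ * (r * c * r⁻¹) * r := by group
        _ = z := by rw [e, mul_assoc, ← S.zcomm hrc, ← mul_assoc, inv_mul_cancel, one_mul]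
  obtain ⟨-, -, -, -, hba, hbaz⟩ := S.ab_ne
  let A : G → Prop := fun g => g = a ∨ g = a * z
  let B : G → Prop := fun g => g = b ∨ g = b * z
  have hdisj : ∀ g, A g → B g → False := by
    rintro g (rfl | rfl) (h | h)
    · exact hba h.symm
    · exact hbaz (by rw [h, S.zcancel])
    · exact hbaz h.symm
    · exact hba (mul_right_cancel h).symm
  have hAimg : ∀ {r g}, r ∈ cz z → A g → A (r * a * r⁻¹) → A (r * g * r⁻¹) := by
    rintro r g hr (rfl | rfl) h
    · exact h
    · rw [S.conj_mul_z hr]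
      rcases h with e | e <;> rw [e]
      · exact Or.inr rfl
      · exact Or.inl (S.zcancel a)
  have hall2 : ∀ r ∈ rad φ, A (r * a * r⁻¹) := by
    by_contra hn
    push Not at hn
    obtain ⟨r, hr, hra⟩ := hn
    have hsw : ∀ s ∈ rad φ, B (s * a * s⁻¹) →
        (∀ g, A g → B (s * g * s⁻¹)) ∧ (∀ g, B g → A (s * g * s⁻¹)) := by
      intro s hs hsa
      have hsb : A (s * b * s⁻¹) := by
        rcases himg s hs b (Or.inr rfl) with e | e | e | e
        · exact Or.inl e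
        · exact Or.inr e
        all_goals
          exfalso
          rcases hsa with f | f
          · first
              | exact hba (mul_left_cancel (mul_right_cancel (e.trans f.symm)))
              | exact hbaz (mul_left_cancel (mul_right_cancel
                  ((e.trans (by rw [← f])).trans (S.conj_mul_z (rad_le hs) a).symm)))
          · first
              | exact hba (mul_left_cancel (mul_right_cancel (e.trans f.symm)))
              | exact hbaz (mul_left_cancel (mul_right_cancel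
                  ((e.trans (by rw [f, S.zcancel])).trans (S.conj_mul_z (rad_le hs) a).symm)))
      refine ⟨?_, ?_⟩
      · rintro g (rfl | rfl)
        · exact hsa
        · rw [S.conj_mul_z (rad_le hs)]
          rcases hsa with e | e <;> rw [e]
          exacts [Or.inr rfl, Or.inl (S.zcancel b)]
      · rintro g (rfl | rfl)
        · exact hsb
        · rw [S.conj_mul_z (rad_le hs)]
          rcases hsb with e | e <;> rw [e]
          exacts [Or.inr rfl, Or.inl (S.zcancel a)]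
    have hrB : B (r * a * r⁻¹) := by
      rcases himg r hr a (Or.inl rfl) with e | e | e | e
      exacts [absurd (Or.inl e) hra, absurd (Or.inr e) hra, Or.inl e, Or.inr e]
    have hxa : x⁻¹ * a * x = a := by rw [mul_assoc, S.ax, ← mul_assoc, inv_mul_cancel, one_mul]
    have hxa' : x * a * x⁻¹ = a := conj_iff_comm.2 S.ax.symm
    have hxb : ∀ g, B g → B (x * g * x⁻¹) ∧ B (x⁻¹ * g * x) := by
      have h1 : x * b * x⁻¹ = b := conj_iff_comm.2 S.bx.symm
      have h2 : x⁻¹ * b * x = b := by rw [mul_assoc, S.bx, ← mul_assoc, inv_mul_cancel, one_mul]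
      rintro g (rfl | rfl)
      · exact ⟨Or.inl h1, Or.inl h2⟩
      · refine ⟨Or.inr (by rw [S.conj_mul_z S.hx, h1]), Or.inr ?_⟩
        rw [show x⁻¹ * (b * z) * x = x⁻¹ * (b * z) * x⁻¹⁻¹ by rw [inv_inv],
          S.conj_mul_z (inv_mem S.hx), inv_inv, h2]
    have hr1 : x * r * x⁻¹ ∈ rad φ := rad_normal S.hx hr
    have hr2 : x⁻¹ * r * x ∈ rad φ := by simpa using rad_normal (inv_mem S.hx) hr
    have hB1 : B ((x * r * x⁻¹) * a * (x * r * x⁻¹)⁻¹) := by
      rw [show (x * r * x⁻¹) * a * (x * r * x⁻¹)⁻¹ = x * (r * (x⁻¹ * a * x) * r⁻¹) * x⁻¹ by group,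
        hxa]
      exact (hxb _ hrB).1
    have hB2 : B ((x⁻¹ * r * x) * a * (x⁻¹ * r * x)⁻¹) := by
      rw [show (x⁻¹ * r * x) * a * (x⁻¹ * r * x)⁻¹ = x⁻¹ * (r * (x * a * x⁻¹) * r⁻¹) * x by group,
        hxa']
      exact (hxb _ hrB).2
    have hfin := (hsw r hr hrB).1 _ ((hsw _ hr1 hB1).2 _ ((hsw _ hr2 hB2).1 a (Or.inl rfl)))
    have he := S.rad_x_prod S.hx S.hx3 hr
    set e := r * (x * r * x⁻¹) * (x⁻¹ * r * x)
    refine hdisj (e * a * e⁻¹) ?_ ?_
    · rcases S.hcomm e he a S.ha with h | h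
      exacts [Or.inl h, Or.inr h]
    · rw [show e * a * e⁻¹ = r * ((x * r * x⁻¹) * ((x⁻¹ * r * x) * a * (x⁻¹ * r * x)⁻¹) *
        (x * r * x⁻¹)⁻¹) * r⁻¹ by simp [e, mul_assoc]]
      exact hfin
  have hP_a : a ∈ S.pfix := S.mem_pfix.2 ⟨S.ha, fun r hr => by
    rcases hall2 r hr with e | e <;> rw [e]
    · rw [mul_inv_cancel]; exact one_mem _
    · rw [S.zcomm_E S.ha, mul_inv_cancel_right]; exact mem_zpowers z⟩
  have hP_b : b ∈ S.pfix := S.mem_pfix.2 ⟨S.hb, fun r hr => by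
    rcases himg r hr b (Or.inr rfl) with e | e | e | e
    · exfalso
      rcases hall2 r hr with f | f
      · exact hba (mul_left_cancel (mul_right_cancel (e.trans f.symm)))
      · exact hbaz (mul_left_cancel (mul_right_cancel
          ((e.trans (by rw [f, S.zcancel])).trans (S.conj_mul_z (rad_le hr) a).symm)))
    · exfalso
      rcases hall2 r hr with f | f
      · exact hbaz (mul_left_cancel (mul_right_cancel
          ((e.trans (by rw [f])).trans (S.conj_mul_z (rad_le hr) a).symm)))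
      · exact hba (mul_left_cancel (mul_right_cancel (e.trans f.symm)))
    · rw [e, mul_inv_cancel]; exact one_mem _
    · rw [e, S.zcomm_E S.hb, mul_inv_cancel_right]; exact mem_zpowers z⟩
  exact S.not_pfix_top hP_a hP_b hall

theorem pfix_le_dE {e : G} (he : e ∈ S.pfix) : e ∈ dE E x := by
  obtain ⟨d, hd, q, hq, rfl⟩ := S.decomp' he.1
  by_cases hq1 : q = 1
  · rw [hq1, mul_one]; exact hd
  by_cases hqz : q = z
  · rw [hqz]; exact mul_mem hd S.zd
  exfalso
  have h1 : (d * q)⁻¹ * (x * (d * q) * x⁻¹) ∈ S.pfix := mul_mem (inv_mem he) (S.pfix_conj S.hx he)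
  have hdx : x * d * x⁻¹ = d := conj_iff_comm.2 (mem_dE.1 hd).2.symm
  have h2 : (d * q)⁻¹ * (x * (d * q) * x⁻¹) = q⁻¹ * (x * q * x⁻¹) := by
    calc (d * q)⁻¹ * (x * (d * q) * x⁻¹) = q⁻¹ * d⁻¹ * (x * d * x⁻¹) * (x * q * x⁻¹) := by group
      _ = q⁻¹ * (x * q * x⁻¹) := by rw [hdx]; group
  rw [h2] at h1
  obtain ⟨n1, n2⟩ := S.qE_moved S.hx S.hx3 S.ad S.bd S.ab hq hq1 hqz
  exact S.pfix_q (mul_mem (inv_mem hq) (S.qE_conj S.hx S.ax S.bx hq)) h1
    (fun e => n1 (inv_mul_eq_one.1 e).symm) (fun e => n2 (inv_mul_eq_iff_eq_mul.1 e))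

theorem ab_notMem_pfix : a * b ∉ S.pfix := by
  intro hc
  have hnorm : ∀ r ∈ rad φ, ∀ q ∈ qE E a b, r * q * r⁻¹ ∈ qE E a b := by
    intro r hr q hq
    by_cases hq1 : q = 1
    · rw [hq1]; simp
    by_cases hqz : q = z
    · rw [hqz, S.conj_z (rad_le hr)]; exact S.zq
    obtain ⟨hqE, hqa, hqb⟩ := mem_qE.1 hq
    have hrc := rad_le hr
    obtain ⟨d, hd, p, hp, he⟩ := S.decomp' (S.hn r hrc q hqE)
    have hcom : (r * q * r⁻¹) * (a * b) = (a * b) * (r * q * r⁻¹) := by
      have h0 : Commute q (a * b) := Commute.mul_right hqa hqb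
      have h1 : Commute (r * q * r⁻¹) (r * (a * b) * r⁻¹) :=
        h0.map (MulAut.conj r).toMonoidHom
      rcases S.fixed_pm (hc.2 r hr) (mul_mem S.ha S.hb) with e | e <;> rw [e] at h1
      · exact h1
      · have h2 : Commute (r * q * r⁻¹) z := S.zcomm_E (S.hn r hrc q hqE)
        have h3 := h1.mul_right h2
        rw [S.zcancel] at h3
        exact h3
    have hsq : (r * q * r⁻¹) * (r * q * r⁻¹) = z := by
      rw [show r * q * r⁻¹ * (r * q * r⁻¹) = r * (q * q) * r⁻¹ by group, S.sq_qE hq hq1 hqz,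
        S.conj_z hrc]
    have hdl := S.dE_eq hd
    have hdp := S.comm_dq hdl hp
    have hdab : d * (a * b) = (a * b) * d := by
      have h1 : Commute p (a * b) := Commute.mul_right (mem_qE.1 hp).2.1 (mem_qE.1 hp).2.2
      rw [he] at hcom
      have h2 := (Commute.mul_left (hcom : Commute (d * p) (a * b)) h1.inv_left)
      rwa [mul_inv_cancel_right] at h2
    rw [he] at hsq ⊢
    obtain ⟨ha1, haz, hb1, hbz, -, -⟩ := S.ab_ne
    have hanti1 : ∀ g, g * (a * b) = (a * b) * g → g ≠ a ∧ g ≠ b := by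
      intro g hg
      have hne : a * b ≠ b * a := fun e => S.zne (by
        have h' := S.ab
        rw [e] at h'
        exact mul_left_cancel (h'.symm.trans (mul_one _).symm))
      refine ⟨?_, ?_⟩ <;> rintro rfl
      · exact hne (mul_left_cancel (a := g) (by rw [hg, mul_assoc]))
      · exact hne (mul_right_cancel (b := g) (by rw [← hg, mul_assoc]))
    simp only [List.mem_cons, List.not_mem_nil, or_false] at hdl
    have hz' : Commute z (a * b) := (S.zcomm_E (mul_mem S.ha S.hb)).symm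
    have hdz : ∀ g, d = g * z → g * (a * b) = (a * b) * g := by
      intro g hg
      have h2 := Commute.mul_left (hdab : Commute d (a * b)) hz'
      rw [hg, S.zcancel] at h2
      exact h2
    rcases hdl with h | h | h | h | h | h | h | h
    · rw [h, one_mul]; exact hp
    · rw [h]; exact mul_mem S.zq hp
    · exact absurd h (hanti1 d hdab).1
    · exact absurd rfl (hanti1 a (hdz a h)).1
    · exact absurd h (hanti1 d hdab).2
    · exact absurd rfl (hanti1 b (hdz b h)).2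
    all_goals
      exfalso
      have hd2 : d * d = z := by
        rw [h]
        first
          | exact S.ab_sq
          | rw [S.sq_mul_of_comm (S.zcomm_E (mul_mem S.ha S.hb)), S.ab_sq, S.zz, mul_one]
      rw [S.sq_mul_of_comm hdp, hd2] at hsq
      have hp2 : p * p = 1 := mul_left_cancel (hsq.trans (mul_one z).symm)
      have hpz : p = 1 ∨ p = z := by
        by_contra hn
        simp only [not_or] at hn
        exact S.zne ((S.sq_qE hp hn.1 hn.2).symm.trans hp2)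
      have heP : d * p ∈ S.pfix := by
        refine mul_mem ?_ ?_
        · rw [h]
          first
            | exact hc
            | exact mul_mem hc S.z_mem_pfix
        · rcases hpz with e | e <;> rw [e]
          exacts [one_mem _, S.z_mem_pfix]
      have hqP : q ∈ S.pfix := by
        have := S.pfix_conj (inv_mem hrc) heP
        rw [← he] at this
        rwa [show r⁻¹ * (r * q * r⁻¹) * r⁻¹⁻¹ = q by group] at this
      exact S.pfix_q hq hqP hq1 hqz
  haveI : Fact (Nat.Prime 2) := ⟨Nat.prime_two⟩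
  obtain ⟨n, hn, hnz, hfix⟩ := exists_central_mod (M := zpowers z) S.pgroup_rad
    (zpowers_le.2 S.zq) (fun g hg => S.E_le_rad (mem_qE.1 hg).1) (fun hle => by
      have := card_le_of_le hle
      rw [Nat.card_zpowers, S.hz, S.card_qE'] at this
      omega)
    (fun t ht m hm => by rw [S.conj_mem_zpowers (rad_le ht) hm]; exact hm) hnorm
  rw [S.mem_zpowers_z, not_or] at hnz
  exact S.pfix_q hn (S.mem_pfix.2 ⟨(mem_qE.1 hn).1, hfix⟩) hnz.1 hnz.2

theorem hW_of_pfix (ha : a ∈ S.pfix) : ∀ h ∈ cz z, h * a * h⁻¹ = a ∨ h * a * h⁻¹ = a * z := by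
  intro h hh
  have hP := S.pfix_conj hh ha
  obtain ⟨h1, h2, -, -, -, -⟩ := S.ab_ne
  rcases S.invol_dE (S.pfix_le_dE hP)
    (by rw [show h * a * h⁻¹ * (h * a * h⁻¹) = h * (a * a) * h⁻¹ by group, S.aa]; simp)
    (fun e => h1 (conj_eq_one_iff.1 e)) (fun e => h2 (by
      calc a = h⁻¹ * (h * a * h⁻¹) * h := by group
        _ = z := by rw [e, mul_assoc, ← S.zcomm hh, ← mul_assoc, inv_mul_cancel, one_mul]))
    with e | e | e | e
  · exact Or.inl e
  · exact Or.inr e
  · exact absurd (mul_mem ha (e ▸ hP)) S.ab_notMem_pfix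
  · exact absurd (mul_mem ha (by
      have := mul_mem (e ▸ hP) S.z_mem_pfix
      rwa [S.zcancel] at this)) S.ab_notMem_pfix

theorem exists_frame : ∃ a' b', Frame z E φ x a' b' := by
  haveI : Fact (Nat.Prime 2) := ⟨Nat.prime_two⟩
  obtain ⟨n, hn, hnz, hfix⟩ := exists_central_mod (M := zpowers z) S.pgroup_rad
    (zpowers_le.2 S.hzE) S.E_le_rad (fun hle => by
      have := card_le_of_le hle
      rw [Nat.card_zpowers, S.hz, S.hE32] at this
      omega)
    (fun t ht m hm => by rw [S.conj_mem_zpowers (rad_le ht) hm]; exact hm)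
    (fun t ht e he => S.hn t (rad_le ht) e he)
  have hP : n ∈ S.pfix := S.mem_pfix.2 ⟨hn, hfix⟩
  rw [S.mem_zpowers_z, not_or] at hnz
  have hsw : ∀ {e}, e ∈ S.pfix → e ∈ S.swap.pfix := fun he => he
  have hz := S.z_mem_pfix
  have hd := S.dE_eq (S.pfix_le_dE hP)
  simp only [List.mem_cons, List.not_mem_nil, or_false] at hd
  rcases hd with h | h | h | h | h | h | h | h
  · exact absurd h hnz.1
  · exact absurd h hnz.2
  · exact ⟨a, b, S, S.hW_of_pfix (h ▸ hP)⟩
  · exact ⟨a, b, S, S.hW_of_pfix (by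
      have := mul_mem (h ▸ hP) hz
      rwa [S.zcancel] at this)⟩
  · exact ⟨b, a, S.swap, S.swap.hW_of_pfix (hsw (h ▸ hP))⟩
  · exact ⟨b, a, S.swap, S.swap.hW_of_pfix (hsw (by
      have := mul_mem (h ▸ hP) hz
      rwa [S.zcancel] at this))⟩
  · exact absurd (h ▸ hP) S.ab_notMem_pfix
  · exact absurd (by
      have := mul_mem (h ▸ hP) hz
      rwa [S.zcancel] at this) S.ab_notMem_pfix

end PreFrame

namespace Hyp

theorem exists_frame [Finite G] (S : Hyp z E φ) : ∃ x a b : G, Frame z E φ x a b := by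
  obtain ⟨x, hx, hx3⟩ := S.exists_three
  obtain ⟨a, b, hF⟩ := S.exists_preFrame hx hx3
  obtain ⟨a', b', hF'⟩ := hF.exists_frame
  exact ⟨x, a', b', hF'⟩

end Hyp

end CfsgLib.AutL34
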