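import Cfsg.Agent.Lib.Invol.AutLThreeFour.Class
import Cfsg.Agent.Lib.Invol.ZStar

/-!
# Fusion of involutions in a non-solvable group
-/

set_option autoImplicit false

open Subgroup Equiv

namespace CfsgLib.AutL34

universe u

variable {G : Type u} [Group G]

theorem three_odd : ∀ σ ρ : Perm (Fin 4), ρ ^ 3 = 1 → ρ ≠ 1 → Perm.sign σ ≠ 1 → σ * ρ ≠ ρ * σ := by
  decide +kernel

/-- Conjugation transports centralizers. -/
theorem card_transport (z : G) {g u : G} (hg : g * u * g⁻¹ = z) :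
    Nat.card ↥(cz z ⊓ centralizer ({u} : Set G)) =
      Nat.card ↥(cz z ⊓ centralizer ({g * z * g⁻¹} : Set G)) := by
  have e : (cz z ⊓ centralizer ({u} : Set G)).map (MulAut.conj g).toMonoidHom =
      cz z ⊓ centralizer ({g * z * g⁻¹} : Set G) := by
    apply le_antisymm
    · rintro _ ⟨k, ⟨h1, h2⟩, rfl⟩
      refine ⟨mem_cz.2 ?_, mem_centralizer_singleton_iff.2 ?_⟩
      · have h3 : Commute (g * k * g⁻¹) (g * u * g⁻¹) :=
          Commute.map (mem_centralizer_singleton_iff.1 h2 : Commute k u) (MulAut.conj g).toMonoidHom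
        rw [hg] at h3
        exact h3.eq
      · exact (Commute.map (mem_cz.1 h1 : Commute k z) (MulAut.conj g).toMonoidHom).eq
    · rintro k ⟨h1, h2⟩
      refine ⟨g⁻¹ * k * g, ⟨mem_cz.2 ?_, mem_centralizer_singleton_iff.2 ?_⟩, ?_⟩
      · have h3 : Commute (g⁻¹ * k * g⁻¹⁻¹) (g⁻¹ * (g * z * g⁻¹) * g⁻¹⁻¹) :=
          Commute.map (mem_centralizer_singleton_iff.1 h2 : Commute k (g * z * g⁻¹))
            (MulAut.conj g⁻¹).toMonoidHom
        rw [inv_inv, show g⁻¹ * (g * z * g⁻¹) * g = z by group] at h3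
        exact h3.eq
      · have h3 : Commute (g⁻¹ * k * g⁻¹⁻¹) (g⁻¹ * z * g⁻¹⁻¹) :=
          Commute.map (mem_cz.1 h1 : Commute k z) (MulAut.conj g⁻¹).toMonoidHom
        rw [inv_inv, show g⁻¹ * z * g = u by rw [← hg]; group] at h3
        exact h3.eq
      · show g * (g⁻¹ * k * g) * g⁻¹ = k
        group
  rw [← e, card_map_of_injective (MulEquiv.injective _)]

namespace Frame

variable {z : G} {E : Subgroup G} {φ : ↥(cz z) →* Perm (Fin 4)} {x a b : G}
  (S : Frame z E φ x a b)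
include S

theorem sq_comm_a {h : G} (hh : h ∈ cz z) : (h * h) * a = a * (h * h) := by
  refine conj_iff_comm.1 ?_
  rw [show h * h * a * (h * h)⁻¹ = h * (h * a * h⁻¹) * h⁻¹ by group]
  rcases S.hW h hh with e | e
  · rw [e, e]
  · rw [e, S.conj_mul_z hh, e, S.zcancel]

theorem b_not_comm_a : b * a ≠ a * b := fun e => S.zne (by
  have h := S.ab
  rw [← e] at h
  exact mul_left_cancel (h.symm.trans (mul_one _).symm))

theorem az_conj_a : IsConj a (a * z) := isConj_iff.2 ⟨b, S.b_conj_a⟩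

theorem w_cases {v : G} (hv : v ∈ wS z a) (h1 : v ≠ 1) (hz : v ≠ z) : v = a ∨ v = a * z := by
  rcases S.mem_wS.1 hv with h | h | h | h
  exacts [absurd h h1, absurd h hz, Or.inl h, Or.inr h]

variable [Finite G]

theorem card_cz_w {v : G} (hv : v = a ∨ v = a * z) :
    Nat.card ↥(cz z ⊓ centralizer ({v} : Set G)) = 384 := by
  have e : cz z ⊓ centralizer ({v} : Set G) = k0 z a := by
    apply le_antisymm
    · rintro g ⟨h1, h2⟩
      refine mem_k0.2 ⟨h1, ?_⟩
      rcases hv with rfl | rfl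
      · exact mem_centralizer_singleton_iff.1 h2
      · have h3 : Commute g (a * z) := mem_centralizer_singleton_iff.1 h2
        have h4 := h3.mul_right (mem_cz.1 h1 : Commute g z)
        rwa [S.zcancel] at h4
    · intro g hg
      obtain ⟨h1, h2⟩ := mem_k0.1 hg
      refine ⟨h1, mem_centralizer_singleton_iff.2 ?_⟩
      rcases hv with rfl | rfl
      · exact h2
      · exact Commute.mul_right h2 (mem_cz.1 h1)
  rw [e, S.card_k0]

theorem not_three_dvd_outer {u : G} (hu : u ∈ cz z) (hp : u ∉ par φ) :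
    ¬ 3 ∣ Nat.card ↥(cz z ⊓ centralizer ({u} : Set G)) := by
  intro h
  haveI : Fact (Nat.Prime 3) := ⟨Nat.prime_three⟩
  obtain ⟨y, hy⟩ := exists_prime_orderOf_dvd_card' (G := ↥(cz z ⊓ centralizer ({u} : Set G))) 3 h
  have hy3 : orderOf (y : G) = 3 := by rw [Subgroup.orderOf_coe, hy]
  obtain ⟨hyz, hyu⟩ := y.2
  refine three_odd (φ ⟨u, hu⟩) (φ ⟨y, hyz⟩) (S.phi_x_three hyz hy3).1 (S.phi_x_three hyz hy3).2
    (fun e => hp ((mem_par hu).2 e)) ?_
  rw [← map_mul, ← map_mul]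
  exact congrArg φ (Subtype.ext (mem_centralizer_singleton_iff.1 hyu).symm)

theorem invol_comm_b {e : G} (he : e ∈ E) (heb : e * b = b * e) (h2 : e * e = 1) :
    e ∈ ([1, z, b, b * z] : List G) := by
  obtain ⟨d, hd, q, hq, rfl⟩ := S.decomp' he
  have hdl := S.dE_eq hd
  have hdq := S.comm_dq hdl hq
  rw [S.sq_mul_of_comm hdq] at h2
  have hdb : Commute d b := by
    have h := Commute.mul_left (heb : Commute (d * q) b) (Commute.inv_left ((mem_qE.1 hq).2.2 : Commute q b))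
    rwa [mul_inv_cancel_right] at h
  have hne : ∀ c, c = a ∨ c = a * b → ¬ Commute c b := by
    rintro c (rfl | rfl) hc
    · exact S.b_not_comm_a hc.eq.symm
    · have h := hc.mul_left (Commute.inv_left (Commute.refl b))
      rw [mul_inv_cancel_right] at h
      exact S.b_not_comm_a h.eq.symm
  have hzb : Commute z b := (S.zcomm_E S.hb).symm
  have hdz : ∀ c, d = c * z → Commute c b := fun c e => by
    have h := hdb.mul_left hzb
    rwa [e, S.zcancel] at h
  have hd2 : d = 1 ∨ d = z ∨ d = b ∨ d = b * z := by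
    simp only [List.mem_cons, List.not_mem_nil, or_false] at hdl
    rcases hdl with h | h | h | h | h | h | h | h
    · exact Or.inl h
    · exact Or.inr (Or.inl h)
    · exact absurd (h ▸ hdb) (hne a (Or.inl rfl))
    · exact absurd (hdz a h) (hne a (Or.inl rfl))
    · exact Or.inr (Or.inr (Or.inl h))
    · exact Or.inr (Or.inr (Or.inr h))
    · exact absurd (h ▸ hdb) (hne _ (Or.inr rfl))
    · exact absurd (hdz _ h) (hne _ (Or.inr rfl))
  have hdd : d * d = 1 := by
    rcases hd2 with rfl | rfl | rfl | rfl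
    · exact one_mul 1
    · exact S.zz
    · exact S.bb
    · rw [S.sq_mul_of_comm (S.zcomm_E S.hb), S.bb, S.zz, one_mul]
  rw [hdd, one_mul] at h2
  have hq' : q = 1 ∨ q = z := by
    by_contra hn
    simp only [not_or] at hn
    exact S.zne ((S.sq_qE hq hn.1 hn.2).symm.trans h2)
  simp only [List.mem_cons, List.not_mem_nil, or_false]
  have hbz : z * b = b * z := hzb.eq
  rcases hd2 with rfl | rfl | rfl | rfl <;> rcases hq' with rfl | rfl <;>
    simp [S.zz, hbz, S.zcancel]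

end Frame

/-- A frame in a non-solvable group with trivial odd core. -/
structure Glob (z : G) (E : Subgroup G) (φ : ↥(cz z) →* Perm (Fin 4)) (x a b : G) : Prop
    extends Frame z E φ x a b where
  hO : Cfsg.oddCore G = ⊥
  hns : ¬ Group.IsSolvable G

namespace Glob

variable {z : G} {E : Subgroup G} {φ : ↥(cz z) →* Perm (Fin 4)} {x a b : G}
  (S : Glob z E φ x a b) [Finite G]
include S

theorem exists_fused : ∃ v ∈ cz z, v ≠ z ∧ IsConj z v := by
  by_contra hn
  push Not at hn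
  have hiso : Cfsg.IsIsolatedInvolution z := ⟨S.hz, fun g hg => by
    by_contra hne
    exact hn _ (mem_cz.2 hg.symm.eq) hne (isConj_iff.2 ⟨g, rfl⟩)⟩
  have hc := Invol.zstar hiso
  have htop : ∀ g : G, g ∈ cz z := fun g => by
    have h := hc g
    rw [show Cfsg.pPrimeCore 2 G = ⊥ from S.hO, Subgroup.mem_bot, mul_inv_eq_one,
      mul_inv_eq_iff_eq_mul] at h
    exact mem_cz.2 h.symm
  haveI := S.isSolvable_cz
  exact S.hns (solvable_of_surjective (f := (cz z).subtype) fun g => ⟨⟨g, htop g⟩, rfl⟩)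

theorem not_conj_b : ¬ IsConj z b := by
  intro hc
  obtain ⟨g, hg⟩ := isConj_iff.1 hc.symm
  set v := g * z * g⁻¹ with hv
  have hcard := card_transport z hg
  rw [S.card_cz_b, ← hv] at hcard
  have hvz : v ∈ cz z := mem_cz.2 (by
    have h : Commute (g * z * g⁻¹) (g * b * g⁻¹) :=
      Commute.map ((S.zcomm_E S.hb).symm : Commute z b) (MulAut.conj g).toMonoidHom
    rw [hg] at h
    exact h.eq)
  have hv2 : v * v = 1 := Invol.invol_mul_self (Invol.invol_conj S.hz g)
  have hv1 : v ≠ 1 := Invol.invol_ne_one (Invol.invol_conj S.hz g)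
  have hvne : v ≠ z := fun e => S.ab_ne.2.2.2.1 (by
    have h := e.trans hg.symm
    exact (mul_left_cancel (mul_right_cancel h)).symm)
  by_cases hp : v ∈ par φ
  swap
  · exact S.not_three_dvd_outer hvz hp (by rw [← hcard]; norm_num)
  have hvR := S.invol_mem_rad hp hv2
  by_cases hr : v ∈ r1 φ a
  · by_cases hW : v ∈ wS z a
    · rw [S.card_cz_w (S.w_cases hW hv1 hvne)] at hcard; omega
    · have Sv : Split z E φ x a b v := ⟨S.toFrame, hr, hv2, hW⟩
      rw [Sv.card_cz_m] at hcard; omega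
  · obtain ⟨r, hr', hrv⟩ := S.exists_conj_b hvR hr hv2
    obtain ⟨q, hq, hqs⟩ := exists_avoid (K := qE E a b) [1, z] (by rw [S.card_qE']; simp)
    simp only [List.mem_cons, List.not_mem_nil, or_false, not_or] at hqs
    have hy : g * q * g⁻¹ ∈ cz z := mem_cz.2 (by
      have h : Commute (g * q * g⁻¹) (g * b * g⁻¹) :=
        Commute.map ((mem_qE.1 hq).2.2 : Commute q b) (MulAut.conj g).toMonoidHom
      rw [hg] at h
      exact h.eq)
    have hrc := rad_le (mem_r1.1 hr').1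
    have h1 := S.sq_comm_a (mul_mem (mul_mem (inv_mem hrc) hy) hrc)
    have h2 : r⁻¹ * (g * q * g⁻¹) * r * (r⁻¹ * (g * q * g⁻¹) * r) = b := by
      calc r⁻¹ * (g * q * g⁻¹) * r * (r⁻¹ * (g * q * g⁻¹) * r)
          = r⁻¹ * (g * (q * q) * g⁻¹) * r := by group
        _ = r⁻¹ * v * r := by rw [S.sq_qE hq hqs.1 hqs.2, hv]
        _ = b := by rw [← hrv]; group
    rw [h2] at h1
    exact S.b_not_comm_a h1

theorem not_conj_outer {u : G} (hu : u ∈ cz z) (hp : u ∉ par φ) : ¬ IsConj z u := by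
  intro hc
  obtain ⟨g, hg⟩ := isConj_iff.1 hc.symm
  have hu2 : u * u = 1 := by
    obtain ⟨k, hk⟩ := isConj_iff.1 hc
    rw [← hk]; exact Invol.invol_mul_self (Invol.invol_conj S.hz k)
  set v := g * z * g⁻¹ with hv
  have hcard := card_transport z hg
  rw [← hv] at hcard
  obtain ⟨e, he, hee, heu⟩ := S.outer_invol_sqrt hu hp hu2
  have hy : g * e * g⁻¹ ∈ cz z := mem_cz.2 (by
    have h : Commute (g * e * g⁻¹) (g * u * g⁻¹) :=
      Commute.map (heu : Commute e u) (MulAut.conj g).toMonoidHom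
    rw [hg] at h
    exact h.eq)
  have hyv : g * e * g⁻¹ * (g * e * g⁻¹) = v := by
    rw [hv, ← hee]; group
  have hv2 : v * v = 1 := Invol.invol_mul_self (Invol.invol_conj S.hz g)
  have hv1 : v ≠ 1 := Invol.invol_ne_one (Invol.invol_conj S.hz g)
  have hvne : v ≠ z := fun h => by
    have huz : u = z := (mul_left_cancel (mul_right_cancel (h.trans hg.symm))).symm
    exact hp (huz ▸ rad_le_par (S.E_le_rad S.hzE))
  have hvR : v ∈ rad φ := hyv ▸ S.sq_invol_mem_rad hy (by rw [hyv, hv2])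
  have hr : v ∈ r1 φ a := mem_r1.2 ⟨hvR, hyv ▸ S.sq_comm_a hy⟩
  have hvz := rad_le hvR
  by_cases hW : v ∈ wS z a
  · rw [S.card_cz_w (S.w_cases hW hv1 hvne)] at hcard
    exact S.not_three_dvd_outer hu hp (by rw [hcard]; norm_num)
  -- `v` lies in an elementary group of order 16, whose preimage meets `R` in order 8
  have Sv : Split z E φ x a b v := ⟨S.toFrame, hr, hv2, hW⟩
  set A' := (aS φ a v).map (MulAut.conj g⁻¹).toMonoidHom with hA'
  have hconjmem : ∀ k ∈ aS φ a v, g⁻¹ * k * g ∈ A' := fun k hk =>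
    ⟨k, hk, by simp [MulEquiv.coe_toMonoidHom]⟩
  have hcardA' : Nat.card A' = 16 := by
    rw [hA', card_map_of_injective (MulEquiv.injective _), Sv.card_aS]
  have hzA' : z ∈ A' := by
    have := hconjmem v Sv.m_mem_aS
    rwa [hv, show g⁻¹ * (g * z * g⁻¹) * g = z by group] at this
  have huA' : u ∈ A' := by
    have := hconjmem z (Sv.wS_le_aS S.z_mem_wS)
    rwa [← hg, show g⁻¹ * (g * u * g⁻¹) * g = u by group] at this
  have hcommA' : ∀ k ∈ A', ∀ l ∈ A', k * l = l * k := by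
    rintro _ ⟨k, hk, rfl⟩ _ ⟨l, hl, rfl⟩
    rw [← map_mul, ← map_mul, Sv.aS_comm hk hl]
  have hsqA' : ∀ k ∈ A', k * k = 1 := by
    rintro _ ⟨k, hk, rfl⟩
    rw [← map_mul, Sv.aS_sq hk, map_one]
  have hA'z : A' ≤ cz z := fun k hk => mem_cz.2 (hcommA' k hk z hzA')
  set K := A' ⊓ par φ with hK
  have hKR : K ≤ rad φ := fun k hk => S.invol_mem_rad hk.2 (hsqA' k hk.1)
  have hK8 : 8 ≤ Nat.card K := by
    have := card_le_two_mul (A := A') (B := K) inf_le_left fun k hk hk' l hl hl' =>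
      ⟨mul_mem hk hl, mul_mem_par_of_notMem (hA'z hk) (hA'z hl) (fun h => hk' ⟨hk, h⟩)
        (fun h => hl' ⟨hl, h⟩)⟩
    omega
  have hK1 : K ≤ r1 φ a := by
    intro k hk
    by_contra hk1
    obtain ⟨r, hr', hrk⟩ := S.exists_conj_b (hKR hk) hk1 (hsqA' k hk.1)
    have hrc := rad_le (mem_r1.1 hr').1
    classical
    let f : K → (([1, z, b, b * z] : List G).toFinset : Finset G) := fun l => ⟨r⁻¹ * l * r, by
      rw [List.mem_toFinset]
      have hl2 : r⁻¹ * (l : G) * r * (r⁻¹ * (l : G) * r) = 1 := by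
        rw [show r⁻¹ * (l : G) * r * (r⁻¹ * (l : G) * r) = r⁻¹ * ((l : G) * l) * r by group,
          hsqA' _ l.2.1]
        simp
      have hlb : r⁻¹ * (l : G) * r * b = b * (r⁻¹ * (l : G) * r) := by
        have h : (l : G) * k = k * l := hcommA' _ l.2.1 _ hk.1
        calc r⁻¹ * (l : G) * r * b = r⁻¹ * ((l : G) * (r * b * r⁻¹)) * r := by group
          _ = r⁻¹ * (r * b * r⁻¹ * l) * r := by rw [hrk, h]
          _ = b * (r⁻¹ * (l : G) * r) := by group
      have hlR : r⁻¹ * (l : G) * r ∈ rad φ := by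
        simpa using rad_normal (inv_mem hrc) (hKR l.2)
      exact S.invol_comm_b (S.rad_centralizes_b hlR hlb) hlb hl2⟩
    have hf : Function.Injective f := fun l l' h =>
      Subtype.ext (mul_left_cancel (mul_right_cancel (congrArg Subtype.val h)))
    have h4 := Nat.card_le_card_of_injective f hf
    rw [Nat.card_eq_finsetCard] at h4
    have h5 := List.toFinset_card_le ([1, z, b, b * z] : List G)
    simp only [List.length_cons, List.length_nil] at h5
    omega
  have huK : ∀ k ∈ K, u * k = k * u := fun k hk => hcommA' u huA' k hk.1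
  have hzK : z ∈ K := ⟨hzA', rad_le_par (S.E_le_rad S.hzE)⟩
  obtain ⟨c, hc, hcW⟩ : ∃ c ∈ K, c ∉ wS z a := by
    by_contra hn
    push Not at hn
    have := card_le_of_le (show K ≤ wS z a from hn)
    rw [S.card_wS] at this
    omega
  have Sc : Split z E φ x a b c := ⟨S.toFrame, hK1 hc, hsqA' c hc.1, hcW⟩
  have hKA : K ≤ aS φ a c := fun k hk => mem_aS.2 ⟨hK1 hk, hcommA' k hk.1 c hc.1⟩
  have huc : u * c * u⁻¹ = c := conj_iff_comm.2 (huK c hc)
  by_cases hua : u * a = a * u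
  · exact Sc.no_fix_a (mem_k0.2 ⟨hu, hua⟩) hp (by rw [huc, mul_inv_cancel]; exact one_mem _)
  -- `K` meets `W` in `⟨z⟩` so maps onto `A / W`
  have hKW : ∀ k ∈ K, k ∈ wS z a → k = 1 ∨ k = z := by
    intro k hk hkW
    by_contra hn
    simp only [not_or] at hn
    rcases S.w_cases hkW hn.1 hn.2 with rfl | rfl
    · exact hua (huK _ hk)
    · have h : Commute u (a * z) := huK _ hk
      have h2 := h.mul_right (mem_cz.1 hu : Commute u z)
      rw [S.zcancel] at h2
      exact hua h2.eq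
  obtain ⟨k, hk, hks⟩ := exists_avoid (K := K) [1, z, c, z * c]
    (by simp only [List.length_cons, List.length_nil]; omega)
  simp only [List.mem_cons, List.not_mem_nil, or_false, not_or] at hks
  have huW : ∀ w ∈ wS z a, u * w * u⁻¹ * w⁻¹ ∈ wS z a := fun w hw =>
    mul_mem (S.wS_normal hu hw) (inv_mem hw)
  have hfix : ∀ c', k * c'⁻¹ ∈ wS z a → u * c' * u⁻¹ * c'⁻¹ ∈ wS z a := by
    intro c' h
    set w := k * c'⁻¹ with hw
    have e : c' = w⁻¹ * k := by rw [hw]; group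
    have huk : u * k * u⁻¹ = k := conj_iff_comm.2 (huK k hk)
    rw [e, show u * (w⁻¹ * k) * u⁻¹ * (w⁻¹ * k)⁻¹ = u * w⁻¹ * u⁻¹ * (u * k * u⁻¹) * k⁻¹ * w⁻¹⁻¹ by group,
      huk, show u * w⁻¹ * u⁻¹ * k * k⁻¹ * w⁻¹⁻¹ = u * w⁻¹ * u⁻¹ * w⁻¹⁻¹ by group]
    exact huW _ (inv_mem h)
  rcases Sc.aS_cases (hKA hk) with h | h | h | h
  · rcases hKW k hk h with e | e
    exacts [hks.1 e, hks.2.1 e]
  · rcases hKW _ (mul_mem hk (inv_mem hc)) h with e | e
    · exact hks.2.2.1 (mul_inv_eq_one.1 e)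
    · exact hks.2.2.2 (mul_inv_eq_iff_eq_mul.1 e)
  · exact Sc.no_fix_quot hu hp (by rw [huc, mul_inv_cancel]; exact one_mem _) (hfix _ h)
  · refine Sc.split_x2.no_fix_quot hu hp (hfix _ h) ?_
    rw [show x * (x⁻¹ * c * x) * x⁻¹ = c by group, huc, mul_inv_cancel]
    exact one_mem _

/-- Conjugates of `z` in `C(z)` lie in `R₁`. -/
theorem conj_mem_r1 {v : G} (hv : v ∈ cz z) (hc : IsConj z v) : v ∈ r1 φ a := by
  by_contra hn
  have hp : v ∈ par φ := by_contra fun h => S.not_conj_outer hv h hc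
  have hv2 : v * v = 1 := by
    obtain ⟨k, hk⟩ := isConj_iff.1 hc
    rw [← hk]; exact Invol.invol_mul_self (Invol.invol_conj S.hz k)
  obtain ⟨r, -, hrv⟩ := S.exists_conj_b (S.invol_mem_rad hp hv2) hn hv2
  exact S.not_conj_b (hc.trans (isConj_iff.2 ⟨r, hrv⟩ : IsConj b v).symm)

theorem conj_a : IsConj z a := by
  obtain ⟨v, hvz, hvne, hc⟩ := S.exists_fused
  have hval : ∀ {w}, w ∈ wS z a → w ≠ z → IsConj z w → IsConj z a := by
    intro w hw hne hcw
    have hw1 : w ≠ 1 := by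
      obtain ⟨k, hk⟩ := isConj_iff.1 hcw
      rw [← hk]; exact Invol.invol_ne_one (Invol.invol_conj S.hz k)
    rcases S.w_cases hw hw1 hne with rfl | rfl
    exacts [hcw, hcw.trans S.az_conj_a.symm]
  have hv := S.conj_mem_r1 hvz hc
  by_cases hW : v ∈ wS z a
  · exact hval hW hvne hc
  have hv2 : v * v = 1 := by
    obtain ⟨k, hk⟩ := isConj_iff.1 hc
    rw [← hk]; exact Invol.invol_mul_self (Invol.invol_conj S.hz k)
  have Sm : Split z E φ x a b v := ⟨S.toFrame, hv, hv2, hW⟩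
  have hav : Commute a v := (S.wS_central (Frame.r1_le_k0 hv) S.a_mem_wS).symm
  -- `v a` is conjugate to `v`
  have hma : IsConj v (a * v) := by
    have h : a * v ∈ (fun h => h * v * h⁻¹) '' (cz z : Set G) := by
      rw [Sm.conj_class]
      refine ⟨mul_mem (S.e1_le_r1 S.aE1) hv, fun h => hW ?_, ?_⟩
      · have := mul_mem (inv_mem S.a_mem_wS) h
        rwa [inv_mul_cancel_left] at this
      · rw [S.sq_mul_of_comm hav.eq, S.aa, hv2, one_mul]
    obtain ⟨k, -, hk⟩ := h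
    exact isConj_iff.2 ⟨k, hk⟩
  obtain ⟨g, hg⟩ := isConj_iff.1 hc.symm
  set v2 := g * (a * v) * g⁻¹ with hv2def
  have hc2 : IsConj z v2 := (hc.trans hma).trans (isConj_iff.2 ⟨g, rfl⟩)
  have hv2z : v2 ∈ cz z := mem_cz.2 (by
    have h : Commute (g * (a * v) * g⁻¹) (g * v * g⁻¹) :=
      Commute.map (hav.mul_left (Commute.refl v)) (MulAut.conj g).toMonoidHom
    rw [hg] at h
    exact h.eq)
  have hv2ne : v2 ≠ z := fun e => S.ab_ne.1 (by
    have h := mul_left_cancel (mul_right_cancel (e.trans hg.symm))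
    exact mul_eq_right.1 h)
  have hzv2 : g * a * g⁻¹ = v2 * z := by
    rw [hv2def, ← hg, show g * (a * v) * g⁻¹ * (g * v * g⁻¹) = g * (a * (v * v)) * g⁻¹ by group, hv2,
      mul_one]
  have hv2r := S.conj_mem_r1 hv2z hc2
  by_cases hW2 : v2 ∈ wS z a
  · exact hval hW2 hv2ne hc2
  have hv22 : v2 * v2 = 1 := by
    obtain ⟨k, hk⟩ := isConj_iff.1 hc2
    rw [← hk]; exact Invol.invol_mul_self (Invol.invol_conj S.hz k)
  have Sm2 : Split z E φ x a b v2 := ⟨S.toFrame, hv2r, hv22, hW2⟩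
  have h : z * v2 ∈ (fun k => k * v2 * k⁻¹) '' (r1 φ a : Set G) := by
    rw [Sm2.conj_set]; exact ⟨z, S.z_mem_wS, rfl⟩
  obtain ⟨k, -, hk⟩ := h
  have h3 : IsConj v2 (g * a * g⁻¹) :=
    isConj_iff.2 ⟨k, by rw [hzv2, S.zcomm (rad_le (mem_r1.1 hv2r).1)]; exact hk⟩
  exact (hc2.trans h3).trans (isConj_iff.2 ⟨g, rfl⟩ : IsConj a (g * a * g⁻¹)).symm

/-- An element of order dividing a multiple of three permuting `z, a, az` cyclically. -/
theorem exists_cycle : ∃ d : G, d * z * d⁻¹ = a ∧ d * a * d⁻¹ = a * z := by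
  obtain ⟨g, hg⟩ := isConj_iff.1 S.conj_a.symm
  set v := g * z * g⁻¹ with hv
  have hcard := card_transport z hg
  rw [S.card_cz_w (Or.inl rfl), ← hv] at hcard
  have hvz : v ∈ cz z := mem_cz.2 (by
    have h : Commute (g * z * g⁻¹) (g * a * g⁻¹) :=
      Commute.map ((S.zcomm_E S.ha).symm : Commute z a) (MulAut.conj g).toMonoidHom
    rw [hg] at h
    exact h.eq)
  have hvne : v ≠ z := fun e => S.ab_ne.2.1 (by
    exact (mul_left_cancel (mul_right_cancel (e.trans hg.symm))).symm)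
  have hv1 : v ≠ 1 := Invol.invol_ne_one (Invol.invol_conj S.hz g)
  have hvr := S.conj_mem_r1 hvz (isConj_iff.2 ⟨g, rfl⟩)
  have hW : v ∈ wS z a := by
    by_contra hW
    have Sv : Split z E φ x a b v :=
      ⟨S.toFrame, hvr, Invol.invol_mul_self (Invol.invol_conj S.hz g), hW⟩
    rw [Sv.card_cz_m] at hcard
    omega
  rcases S.w_cases hW hv1 hvne with e | e
  · refine ⟨g * b, ?_, ?_⟩
    · rw [show g * b * z * (g * b)⁻¹ = g * (b * z * b⁻¹) * g⁻¹ by group, S.conj_z (S.hEH S.hb), ← hv, e]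
    · rw [show g * b * a * (g * b)⁻¹ = g * (b * a * b⁻¹) * g⁻¹ by group, S.b_conj_a,
        show g * (a * z) * g⁻¹ = g * a * g⁻¹ * (g * z * g⁻¹) by group, hg, ← hv, e, S.zcomm_E S.ha]
  · refine ⟨g⁻¹, ?_, ?_⟩
    · rw [← hg]; group
    · have h1 : g * (a * z) * g⁻¹ = a := by
        rw [show g * (a * z) * g⁻¹ = g * a * g⁻¹ * (g * z * g⁻¹) by group, hg, ← hv, e,
          S.zcomm_E S.ha, ← mul_assoc, S.zz, one_mul]
      calc g⁻¹ * a * g⁻¹⁻¹ = g⁻¹ * (g * (a * z) * g⁻¹) * g⁻¹⁻¹ := by rw [h1]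
        _ = a * z := by group

end Glob

end CfsgLib.AutL34
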