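import Cfsg.Agent.Lib.Invol.AutLThreeFour.Cycle
import Cfsg.Agent.Lib.Invol.AutLThreeFour.Count

/-!
# Two normal subgroups of index two
-/

set_option autoImplicit false

open Subgroup Equiv

namespace CfsgLib.AutL34

universe u

variable {G : Type u} [Group G]

/-- A `2`-element normalizing a Sylow `2`-subgroup lies in it. -/
theorem mem_of_normalizes_sylow [Finite G] {K T : Subgroup G} {n o : ℕ} (hTK : T ≤ K)
    (hT : Nat.card T = 2 ^ n) (hK : Nat.card K = 2 ^ n * o) (ho : ¬ 2 ∣ o) {g : G} (hg : g ∈ K)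
    (hgp : ∃ k : ℕ, g ^ 2 ^ k = 1) (hn : ∀ t ∈ T, g * t * g⁻¹ ∈ T) : g ∈ T := by
  haveI : Fact (Nat.Prime 2) := ⟨Nat.prime_two⟩
  obtain ⟨k, hk⟩ := hgp
  have hp : IsPGroup 2 (zpowers g) := fun x => ⟨k, Subtype.ext (by
    obtain ⟨i, hi⟩ := mem_zpowers_iff.1 x.2
    rw [Subgroup.coe_pow, ← hi, ← zpow_natCast, ← zpow_mul, mul_comm, zpow_mul, zpow_natCast, hk,
      one_zpow]
    rfl)⟩
  have hn' : ∀ t ∈ T, g⁻¹ * t * g ∈ T := conj_mem_zpow_iff (pow_pos two_pos k) hk hn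
  have hgN : zpowers g ≤ normalizer (T : Set G) := by
    rw [zpowers_le, Subgroup.mem_normalizer_iff]
    intro t
    refine ⟨hn t, fun h => ?_⟩
    have := hn' _ h
    rwa [show g⁻¹ * (g * t * g⁻¹) * g = t by group] at this
  have hS : IsPGroup 2 ↥(T ⊔ zpowers g) :=
    (IsPGroup.of_card hT).to_sup_of_normal_left' hp hgN
  obtain ⟨j, hj⟩ := hS.exists_card_eq
  have hle : T ⊔ zpowers g ≤ K := sup_le hTK (zpowers_le.2 hg)
  have hd : Nat.card ↥(T ⊔ zpowers g) ∣ 2 ^ n * o := hK ▸ card_dvd_of_le hle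
  rw [hj] at hd
  have hd2 : 2 ^ j ∣ 2 ^ n :=
    (Nat.Coprime.pow_left j ((Nat.prime_two.coprime_iff_not_dvd).2 ho)).dvd_of_dvd_mul_right hd
  have he : T = T ⊔ zpowers g := eq_of_le_of_card_ge le_sup_left
    (by rw [hj, hT]; exact Nat.le_of_dvd (pow_pos two_pos n) hd2)
  rw [he]
  exact mem_sup_right (mem_zpowers g)

theorem commutator_mem {M : Subgroup G} [M.Normal] {g k : G} (hk : k ∈ M) : k * g * k⁻¹ * g⁻¹ ∈ M := by
  rw [show k * g * k⁻¹ * g⁻¹ = k * (g * k⁻¹ * g⁻¹) by group]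
  exact mul_mem hk (Normal.conj_mem inferInstance _ (inv_mem hk) g)

namespace Full

variable {z : G} {E : Subgroup G} {φ : ↥(cz z) →* Perm (Fin 4)} {x a b t d : G}
  (S : Full z E φ x a b t d)
include S

theorem tinv : t⁻¹ = t := inv_eq_of_mul_eq_one_right S.t2

theorem t_conj {H : Subgroup G} (hH : ∀ h ∈ cz z, ∀ k ∈ H, h * k * h⁻¹ ∈ H) {k : G} (hk : k ∈ H) :
    t * k * t ∈ H := by
  have := hH t S.ht k hk
  rwa [S.tinv] at this

theorem rad_hn : ∀ h ∈ rad φ, t * h * t ∈ rad φ := fun _ hk =>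
  S.t_conj (fun _ hh _ hk' => rad_normal hh hk') hk

theorem r1_hn : ∀ h ∈ r1 φ a, t * h * t ∈ r1 φ a := fun _ hk =>
  S.t_conj (fun _ hh _ hk' => S.r1_normal hh hk') hk

theorem rb_hn : ∀ h ∈ rad φ ⊓ centralizer ({b} : Set G),
    t * h * t ∈ rad φ ⊓ centralizer ({b} : Set G) := fun h hh =>
  ⟨S.rad_hn h hh.1, mem_centralizer_singleton_iff.2 (Commute.mul_left
    (Commute.mul_left S.tb (mem_centralizer_singleton_iff.1 hh.2)) S.tb).eq⟩

theorem dE_hn : ∀ h ∈ dE E x, t * h * t ∈ dE E x := by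
  intro h hh
  obtain ⟨hE, hx⟩ := mem_dE.1 hh
  refine mem_dE.2 ⟨S.t_conj (fun k hk => S.hn k hk) hE, ?_⟩
  have h1 : Commute (t * h * t⁻¹) (t * x * t⁻¹) :=
    Commute.map (hx : Commute h x) (MulAut.conj t).toMonoidHom
  rw [S.tx, S.tinv] at h1
  have := h1.inv_right
  rwa [inv_inv] at this

/-- The Sylow 2-subgroup `R⟨t⟩`. -/
abbrev sT : Subgroup G := ext2 (rad φ) t S.t2 S.rad_hn

/-- `R₁⟨t⟩`. -/
abbrev qT : Subgroup G := ext2 (r1 φ a) t S.t2 S.r1_hn

theorem qT_le_sT : S.qT ≤ S.sT := fun _ hg =>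
  hg.imp (fun h => (mem_r1.1 h).1) (fun h => (mem_r1.1 h).1)

theorem sT_le : S.sT ≤ cz z := fun g hg => by
  rcases mem_ext2.1 hg with h | h
  · exact rad_le h
  · have := mul_mem (rad_le h) S.ht
    rwa [mul_assoc, S.t2, mul_one] at this

theorem t_notMem_rad : t ∉ rad φ := fun h => S.htp (rad_le_par h)

variable [Finite G]

theorem card_sT : Nat.card S.sT = 2 ^ 8 := by
  rw [card_ext2 S.t_notMem_rad, S.card_rad]; norm_num

theorem card_qT : Nat.card S.qT = 128 := by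
  rw [card_ext2 (fun h => S.t_notMem_rad (mem_r1.1 h).1), S.card_r1]

theorem sT_center {c : G} (hc : c ∈ S.sT) (h : ∀ g ∈ S.sT, c * g = g * c) : c = 1 ∨ c = z := by
  have hta : Commute t a := S.ta
  have htb : Commute t b := S.tb
  have hct : Commute c t := h t (Or.inr (by rw [S.t2]; exact one_mem _))
  have hca : Commute c a := h a (Or.inl (S.E_le_rad S.ha))
  have hcb : Commute c b := h b (Or.inl (S.E_le_rad S.hb))
  have key : ∀ k ∈ rad φ, Commute k t → Commute k a → Commute k b → k = 1 ∨ k = z := fun k hk h1 h2 h3 =>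
    S.dE_center S.hx S.hx3 S.ad S.bd S.ab (S.rad_centralizes_t hk h1.eq) h2.eq h3.eq
  rcases mem_ext2.1 hc with hr | hr
  · exact key c hr hct hca hcb
  exfalso
  obtain ⟨q, hq, hqs⟩ := exists_avoid (K := qE E a b) [1, z] (by rw [S.card_qE']; simp)
  simp only [List.mem_cons, List.not_mem_nil, or_false, not_or] at hqs
  have hcq : Commute c q := h q (Or.inl (S.E_le_rad (mem_qE.1 hq).1))
  have hc' : c = c * t * t := by rw [mul_assoc, S.t2, mul_one]
  have htq : t * q * t⁻¹ = q := by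
    refine conj_iff_comm.2 ?_
    rcases key _ hr (hct.mul_left (Commute.refl t)) (hca.mul_left hta) (hcb.mul_left htb) with e | e
    · rw [e, one_mul] at hc'; rw [hc'] at hcq; exact hcq
    · rw [e] at hc'; rw [hc'] at hcq
      have hzq : Commute z q := (S.zcomm_E (mem_qE.1 hq).1).symm
      have h2 := hzq.inv_left.mul_left hcq
      rw [inv_mul_cancel_left] at h2
      exact h2
  rcases S.centralizes_qE hq htq with e | e
  exacts [hqs.1 e, hqs.2 e]

theorem sylow_top : ∃ P : Sylow 2 G, (P : Subgroup G) = S.sT := by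
  haveI : Fact (Nat.Prime 2) := ⟨Nat.prime_two⟩
  obtain ⟨⟨o, ho, hcard⟩, -⟩ := sylow_criterion (K := (⊤ : Subgroup G)) (T := S.sT) le_top
    (IsPGroup.of_card S.card_sT) fun g _ hgp hn => by
    have hzT : z ∈ S.sT := Or.inl (S.E_le_rad S.hzE)
    have hgz : g * z * g⁻¹ = z := by
      obtain ⟨j, hj⟩ := hgp
      refine (S.sT_center (hn z hzT) fun k hk => ?_).resolve_left fun e => S.zne (conj_eq_one_iff.1 e)
      have hk' := conj_mem_zpow_iff (pow_pos two_pos j) hj hn k hk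
      have h1 : Commute (g * z * g⁻¹) (g * (g⁻¹ * k * g) * g⁻¹) :=
        Commute.map ((mem_cz.1 (S.sT_le hk')).symm : Commute z (g⁻¹ * k * g)) (MulAut.conj g).toMonoidHom
      rw [show g * (g⁻¹ * k * g) * g⁻¹ = k by group] at h1
      exact h1.eq
    exact mem_of_normalizes_sylow S.sT_le S.card_sT (by rw [S.card_cz]; norm_num) (by norm_num : ¬ 2 ∣ 3)
      (mem_cz_conj.2 hgz) hgp hn
  refine ⟨Sylow.ofCard S.sT ?_, rfl⟩
  rw [S.card_sT]
  rw [Subgroup.card_top, S.card_sT] at hcard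
  rw [hcard, Nat.factorization_mul (by norm_num) (fun e => ho (by rw [e]; exact dvd_zero 2)), Finsupp.add_apply,
    Nat.Prime.factorization_pow Nat.prime_two, Finsupp.single_eq_same,
    Nat.factorization_eq_zero_of_not_dvd ho, add_zero]

theorem card_rad_b : Nat.card ↥(rad φ ⊓ centralizer ({b} : Set G)) = 16 := by
  have h := card_conj_orbit (rad φ) b
  have hs : (fun k => k * b * k⁻¹) '' (rad φ : Set G) = (fun k => k * b * k⁻¹) '' (r1 φ a : Set G) := by
    refine Set.Subset.antisymm ?_ (Set.image_mono fun k hk => (mem_r1.1 hk).1)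
    rintro _ ⟨k, hk, rfl⟩
    obtain ⟨h1, h2, h3⟩ := S.cz_b_conj_mem (rad_le hk)
    exact S.exists_conj_b h1 h2 h3
  rw [hs, S.b_class.2, S.card_rad] at h
  omega

/-- The Sylow 2-subgroup of `C(b)`. -/
abbrev tB : Subgroup G := ext2 (rad φ ⊓ centralizer ({b} : Set G)) t S.t2 S.rb_hn

omit [Finite G] in
theorem tB_le : S.tB ≤ cz z ⊓ centralizer ({b} : Set G) := fun g hg => by
  have key : ∀ k ∈ rad φ ⊓ centralizer ({b} : Set G), k ∈ cz z ⊓ centralizer ({b} : Set G) :=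
    fun k hk => ⟨rad_le hk.1, hk.2⟩
  rcases mem_ext2.1 hg with h | h
  · exact key g h
  · have := mul_mem (key _ h) (show t ∈ cz z ⊓ centralizer ({b} : Set G) from
      ⟨S.ht, mem_centralizer_singleton_iff.2 S.tb⟩)
    rwa [mul_assoc, S.t2, mul_one] at this

theorem card_tB : Nat.card S.tB = 2 ^ 5 := by
  rw [card_ext2 (fun h => S.t_notMem_rad (Subgroup.mem_inf.1 h).1), S.card_rad_b]; norm_num

/-- The only conjugate of `z` in the Sylow subgroup of `C(b)`. -/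
theorem tB_fused {v : G} (hv : v ∈ S.tB) (hc : IsConj z v) : v = z := by
  have hvb := mem_centralizer_singleton_iff.1 (S.tB_le hv).2
  have hvr := S.conj_mem_r1 (S.tB_le hv).1 hc
  have hq := S.r1_centralizes_b hvr hvb
  obtain ⟨k, hk⟩ := isConj_iff.1 hc
  have h2 : v * v = 1 := hk ▸ Invol.invol_mul_self (Invol.invol_conj S.hz k)
  have h1 : v ≠ 1 := hk ▸ Invol.invol_ne_one (Invol.invol_conj S.hz k)
  by_contra hz
  exact S.zne ((S.sq_qE hq h1 hz).symm.trans h2)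

theorem centralizer_b :
    (∃ o, ¬ 2 ∣ o ∧ Nat.card (centralizer ({b} : Set G)) = 32 * o) ∧
    (∀ U : Subgroup G, U ≤ centralizer ({b} : Set G) → IsPGroup 2 U →
      ∃ k, ∀ s ∈ U, k * s * k⁻¹ ∈ S.tB) := by
  haveI : Fact (Nat.Prime 2) := ⟨Nat.prime_two⟩
  obtain ⟨⟨o, ho, hc⟩, h2⟩ := sylow_criterion (K := centralizer ({b} : Set G)) (T := S.tB)
    (fun g hg => (S.tB_le hg).2) (IsPGroup.of_card S.card_tB) fun g hg hgp hn => by
    have hzB : z ∈ S.tB := Or.inl ⟨S.E_le_rad S.hzE,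
      mem_centralizer_singleton_iff.2 (S.zcomm_E S.hb).symm⟩
    have hgz : g * z * g⁻¹ = z := S.tB_fused (hn z hzB) (isConj_iff.2 ⟨g, rfl⟩)
    exact mem_of_normalizes_sylow S.tB_le S.card_tB (by rw [S.card_cz_b]; norm_num)
      (by norm_num : ¬ 2 ∣ 3) ⟨mem_cz_conj.2 hgz, hg⟩ hgp hn
  refine ⟨⟨o, ho, by rw [hc, S.card_tB]; norm_num⟩, fun U hU hp => ?_⟩
  obtain ⟨k, -, hk⟩ := h2 U hU hp
  exact ⟨k, hk⟩

/-- The Sylow 2-subgroup of `C(t)`. -/
abbrev tT : Subgroup G := ext2 (dE E x) t S.t2 S.dE_hn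

theorem card_tT : Nat.card S.tT = 2 ^ 4 := by
  rw [card_ext2 (fun h => S.t_notMem_rad (S.E_le_rad (mem_dE.1 h).1)), S.card_dE S.hx S.hx3]; norm_num

theorem dE_comm_t {h : G} (hh : h ∈ dE E x) : h * t = t * h := by
  have h1 : Commute a t := (S.ta : Commute t a).symm
  have h2 : Commute b t := (S.tb : Commute t b).symm
  have h3 : Commute z t := (mem_cz.1 S.ht : Commute t z).symm
  have := S.dE_eq hh
  simp only [List.mem_cons, List.not_mem_nil, or_false] at this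
  rcases this with rfl | rfl | rfl | rfl | rfl | rfl | rfl | rfl
  exacts [Commute.one_left t, h3, h1, h1.mul_left h3, h2, h2.mul_left h3, h1.mul_left h2,
    (h1.mul_left h2).mul_left h3]

theorem mem_tT {g : G} : g ∈ S.tT ↔ g ∈ cz z ∧ g * t = t * g := by
  constructor
  · intro hg
    rcases mem_ext2.1 hg with h | h
    · exact ⟨S.hEH (mem_dE.1 h).1, S.dE_comm_t h⟩
    · have h1 := mul_mem (S.hEH (mem_dE.1 h).1) S.ht
      rw [mul_assoc, S.t2, mul_one] at h1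
      have h2 := Commute.mul_left (S.dE_comm_t h : Commute (g * t) t) (Commute.refl t)
      rw [mul_assoc, S.t2, mul_one] at h2
      exact ⟨h1, h2.eq⟩
  · rintro ⟨h1, h2⟩
    exact S.cz_centralizes_t h1 h2

theorem centralizer_t :
    (∃ o, ¬ 2 ∣ o ∧ Nat.card (centralizer ({t} : Set G)) = 16 * o) ∧
    (∀ U : Subgroup G, U ≤ centralizer ({t} : Set G) → IsPGroup 2 U →
      ∃ k, ∀ s ∈ U, k * s * k⁻¹ ∈ S.tT) := by
  haveI : Fact (Nat.Prime 2) := ⟨Nat.prime_two⟩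
  obtain ⟨⟨o, ho, hc⟩, h2⟩ := sylow_criterion (K := centralizer ({t} : Set G)) (T := S.tT)
    (fun g hg => mem_centralizer_singleton_iff.2 (S.mem_tT.1 hg).2) (IsPGroup.of_card S.card_tT)
    fun g hg hgp hn => by
    have hzT : z ∈ S.tT := Or.inl S.zd
    have hbT : b ∈ S.tT := Or.inl S.bd
    obtain ⟨j, hj⟩ := hgp
    have hb' := conj_mem_zpow_iff (pow_pos two_pos j) hj hn b hbT
    set v := g * z * g⁻¹ with hv
    have hvT : v ∈ S.tT := hn z hzT
    have hc : IsConj z v := isConj_iff.2 ⟨g, rfl⟩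
    have hvb : v * b = b * v := by
      have h1 : Commute (g * z * g⁻¹) (g * (g⁻¹ * b * g) * g⁻¹) :=
        Commute.map ((mem_cz.1 (S.mem_tT.1 hb').1).symm : Commute z (g⁻¹ * b * g))
          (MulAut.conj g).toMonoidHom
      rw [show g * (g⁻¹ * b * g) * g⁻¹ = b by group] at h1
      exact h1.eq
    have hgz : v = z := by
      have hvr := S.conj_mem_r1 (S.mem_tT.1 hvT).1 hc
      have hq := S.r1_centralizes_b hvr hvb
      have h2 : v * v = 1 := Invol.invol_mul_self (Invol.invol_conj S.hz g)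
      have h1 : v ≠ 1 := Invol.invol_ne_one (Invol.invol_conj S.hz g)
      by_contra hz
      exact S.zne ((S.sq_qE hq h1 hz).symm.trans h2)
    exact S.mem_tT.2 ⟨mem_cz_conj.2 hgz, mem_centralizer_singleton_iff.1 hg⟩
  refine ⟨⟨o, ho, by rw [hc, S.card_tT]; norm_num⟩, fun U hU hp => ?_⟩
  obtain ⟨k, -, hk⟩ := h2 U hU hp
  exact ⟨k, hk⟩

theorem orderOf_t : orderOf t = 2 := orderOf_eq_prime (by rw [sq, S.t2]) fun e => S.htp (e ▸ one_mem _)

theorem orderOf_b : orderOf b = 2 := orderOf_eq_prime (by rw [sq, S.bb]) S.ab_ne.2.2.1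

omit [Finite G] in
theorem card_centralizer_of_conj {u v : G} (h : IsConj u v) :
    Nat.card (centralizer ({v} : Set G)) = Nat.card (centralizer ({u} : Set G)) := by
  obtain ⟨g, rfl⟩ := isConj_iff.1 h
  have e : centralizer ({g * u * g⁻¹} : Set G) =
      (centralizer ({u} : Set G)).map (MulAut.conj g).toMonoidHom := by
    apply le_antisymm
    · intro k hk
      refine ⟨g⁻¹ * k * g, mem_centralizer_singleton_iff.2 ?_, by
        show g * (g⁻¹ * k * g) * g⁻¹ = k; group⟩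
      have h1 : Commute (g⁻¹ * k * g⁻¹⁻¹) (g⁻¹ * (g * u * g⁻¹) * g⁻¹⁻¹) :=
        Commute.map (mem_centralizer_singleton_iff.1 hk : Commute k (g * u * g⁻¹))
          (MulAut.conj g⁻¹).toMonoidHom
      rw [inv_inv, show g⁻¹ * (g * u * g⁻¹) * g = u by group] at h1
      exact h1.eq
    · rintro _ ⟨k, hk, rfl⟩
      exact mem_centralizer_singleton_iff.2
        (Commute.map (mem_centralizer_singleton_iff.1 hk : Commute k u) (MulAut.conj g).toMonoidHom).eq
  rw [e, card_map_of_injective (MulEquiv.injective _)]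

theorem not_conj_t_b : ¬ IsConj t b := by
  intro h
  obtain ⟨o, ho, h1⟩ := S.centralizer_b.1
  obtain ⟨o', ho', h2⟩ := S.centralizer_t.1
  rw [S.card_centralizer_of_conj h, h2] at h1
  exact ho' ⟨o, by omega⟩

theorem not_conj_t_m {m : G} (Sm : Split z E φ x a b m) : ¬ IsConj t m := by
  intro h
  obtain ⟨o', ho', h2⟩ := S.centralizer_t.1
  have h3 := card_dvd_of_le (inf_le_right : cz z ⊓ centralizer ({m} : Set G) ≤ _)
  rw [Sm.card_cz_m, S.card_centralizer_of_conj h, h2] at h3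
  obtain ⟨c, hc⟩ := h3
  exact ho' ⟨c, by omega⟩

theorem not_conj_b_m {m : G} (Sm : Split z E φ x a b m) : ¬ IsConj b m := by
  intro h
  obtain ⟨g, hg⟩ := isConj_iff.1 h.symm
  have hU : IsPGroup 2 ((wS z a).map (MulAut.conj g).toMonoidHom) :=
    (IsPGroup.of_card (n := 2) (by rw [S.card_wS]; norm_num)).map _
  have hle : (wS z a).map (MulAut.conj g).toMonoidHom ≤ centralizer ({b} : Set G) := by
    rintro _ ⟨w, hw, rfl⟩
    refine mem_centralizer_singleton_iff.2 ?_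
    have h1 : Commute (g * w * g⁻¹) (g * m * g⁻¹) :=
      Commute.map ((S.wS_central (Frame.r1_le_k0 Sm.hm) hw).symm : Commute w m) (MulAut.conj g).toMonoidHom
    rw [hg] at h1
    exact h1.eq
  obtain ⟨k, hk⟩ := S.centralizer_b.2 _ hle hU
  have hz : ∀ w ∈ wS z a, IsConj z w → k * (g * w * g⁻¹) * k⁻¹ = z := fun w hw hc =>
    S.tB_fused (hk _ ⟨w, hw, rfl⟩) (hc.trans (isConj_iff.2 ⟨k * g, by group⟩))
  have e1 := hz z S.z_mem_wS (IsConj.refl z)
  have e2 := hz a S.a_mem_wS S.conj_a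
  exact S.ab_ne.2.1 (mul_left_cancel (mul_right_cancel (mul_left_cancel (mul_right_cancel
    (e2.trans e1.symm)))))

theorem conj_z_w {w : G} (hw : w ∈ wS z a) (h1 : w ≠ 1) : IsConj z w := by
  by_cases hz : w = z
  · rw [hz]
  rcases S.w_cases hw h1 hz with e | e <;> rw [e]
  exacts [S.conj_a, S.conj_a.trans S.az_conj_a]

theorem conj_t_not_z {w : G} (h : IsConj t w) : ¬ IsConj z w := fun hc =>
  S.not_conj_outer S.ht S.htp (hc.trans h.symm)

theorem no_t_in_r1 {g : G} (hg : g ∈ r1 φ a) : ¬ IsConj t g := by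
  intro h
  obtain ⟨k, hk⟩ := isConj_iff.1 h
  have ho := hk ▸ Invol.invol_conj S.orderOf_t k
  by_cases hW : g ∈ wS z a
  · exact S.conj_t_not_z h (S.conj_z_w hW (Invol.invol_ne_one ho))
  · exact S.not_conj_t_m ⟨S.toFrame, hg, Invol.invol_mul_self ho, hW⟩ h

theorem no_b_in_r1 {g : G} (hg : g ∈ r1 φ a) : ¬ IsConj b g := by
  intro h
  obtain ⟨k, hk⟩ := isConj_iff.1 h
  have ho := hk ▸ Invol.invol_conj S.orderOf_b k
  by_cases hW : g ∈ wS z a
  · exact S.not_conj_b ((S.conj_z_w hW (Invol.invol_ne_one ho)).trans h.symm)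
  · exact S.not_conj_b_m ⟨S.toFrame, hg, Invol.invol_mul_self ho, hW⟩ h

theorem no_t_in_rad {g : G} (hg : g ∈ rad φ) : ¬ IsConj t g := by
  intro h
  by_cases hr : g ∈ r1 φ a
  · exact S.no_t_in_r1 hr h
  obtain ⟨k, hk⟩ := isConj_iff.1 h
  obtain ⟨r, -, hrg⟩ := S.exists_conj_b hg hr (hk ▸ Invol.invol_mul_self (Invol.invol_conj S.orderOf_t k))
  exact S.not_conj_t_b (h.trans (isConj_iff.2 ⟨r, hrg⟩ : IsConj b g).symm)

theorem t_class_r1 :
    ((fun k => k * t * k⁻¹) '' (r1 φ a : Set G)) = {g | g * t ∈ r1 φ a ∧ g * g = 1} ∧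
      ((fun k => k * t * k⁻¹) '' (r1 φ a : Set G)).ncard = 16 := by
  classical
  set X := (fun k => k * t * k⁻¹) '' (r1 φ a : Set G)
  set Y := {g | g * t ∈ r1 φ a ∧ g * g = 1}
  have hX : X.ncard = 16 := by
    have h := card_conj_orbit (r1 φ a) t
    have hC : r1 φ a ⊓ centralizer ({t} : Set G) = wS z a := by
      refine le_antisymm (fun r hr => S.r1_centralizes_t hr.1
        (conj_iff_comm.2 (mem_centralizer_singleton_iff.1 hr.2).symm)) fun w hw =>
        ⟨S.wS_le_r1 hw, mem_centralizer_singleton_iff.2 (S.wS_central S.t_mem_k0 hw).symm⟩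
    rw [hC, S.card_r1, S.card_wS] at h
    change 64 = 4 * X.ncard at h
    omega
  have hsub : X ⊆ Y := by
    rintro _ ⟨k, hk, rfl⟩
    refine ⟨?_, ?_⟩
    · have := mul_mem hk (S.r1_hn _ (inv_mem hk))
      rwa [show k * (t * k⁻¹ * t) = k * t * k⁻¹ * t by group] at this
    · rw [show k * t * k⁻¹ * (k * t * k⁻¹) = k * (t * t) * k⁻¹ by group, S.t2]; simp
  -- the elements of `R₁ / W` fixed by `t`
  let T0 : Subgroup G :=
    { carrier := {g | g ∈ r1 φ a ∧ cm t g ∈ wS z a}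
      one_mem' := ⟨one_mem _, by simp [cm]⟩
      mul_mem' := by
        rintro g h ⟨hg, hg'⟩ ⟨hh, hh'⟩
        refine ⟨mul_mem hg hh, ?_⟩
        have e : cm t (g * h) = cm t g * (g * cm t h * g⁻¹) := by simp only [cm]; group
        rw [e, S.wS_conj (Frame.r1_le_k0 hg) hh']
        exact mul_mem hg' hh'
      inv_mem' := by
        rintro g ⟨hg, hg'⟩
        refine ⟨inv_mem hg, ?_⟩
        have e : cm t g⁻¹ = g⁻¹ * (cm t g)⁻¹ * g⁻¹⁻¹ := by simp only [cm]; group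
        rw [e, S.wS_conj (Frame.r1_le_k0 (inv_mem hg)) (inv_mem hg')]
        exact inv_mem hg' }
  have hprod : ∀ g ∈ T0 ⊓ e1 E a, g ∉ wS z a → ∀ h ∈ T0 ⊓ e1 E a, h ∉ wS z a → g * h ∈ wS z a := by
    have dec : ∀ g, g ∈ T0 ⊓ e1 E a → g ∉ wS z a → ∃ w ∈ wS z a, ∃ q ∈ qE E a b,
        q ≠ 1 ∧ q ≠ z ∧ g = w * q ∧ t * q * t⁻¹ * q⁻¹ ∈ wS z a := by
      intro g hg hgW
      obtain ⟨w, hw, q, hq, rfl⟩ := S.e1_decomp hg.2
      refine ⟨w, hw, q, hq, fun e => hgW (by rw [e, mul_one]; exact hw),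
        fun e => hgW (by rw [e]; exact mul_mem hw S.z_mem_wS), rfl, ?_⟩
      have h1 : cm t (w * q) ∈ wS z a := hg.1.2
      have e : cm t (w * q) = (t * w * t⁻¹) * (t * q * t⁻¹ * q⁻¹) * w⁻¹ := by simp only [cm]; group
      rw [e, S.wS_conj S.t_mem_k0 hw] at h1
      have := mul_mem (mul_mem (inv_mem hw) h1) hw
      rwa [show w⁻¹ * (w * (t * q * t⁻¹ * q⁻¹) * w⁻¹) * w = t * q * t⁻¹ * q⁻¹ by group] at this
    intro g hg hgW h hh hhW
    obtain ⟨w, hw, q, hq, hq1, hqz, rfl, hqt⟩ := dec g hg hgW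
    obtain ⟨v, hv, p, hp, hp1, hpz, rfl, hpt⟩ := dec h hh hhW
    have hqR : q ∈ r1 φ a := S.e1_le_r1 (S.qE_le_e1 hq)
    rw [show w * q * (v * p) = w * (q * v) * p by group, S.wS_central (Frame.r1_le_k0 hqR) hv,
      show w * (v * q) * p = w * v * (q * p) by group]
    refine mul_mem (mul_mem hw hv) ?_
    have hsqW : ∀ c, c ∈ qE E a b → c ≠ 1 → c ≠ z → c * c ∈ wS z a := fun c hc h1 h2 => by
      rw [S.sq_qE hc h1 h2]; exact S.z_mem_wS
    -- another fixed coset would make the third one fixed and moved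
    have hbad : ∀ c, c ∈ qE E a b → c ≠ 1 → c ≠ z → t * c * t⁻¹ * c⁻¹ ∈ wS z a →
        t * (x * c * x⁻¹) * t⁻¹ * (x * c * x⁻¹)⁻¹ ∈ wS z a → False := by
      intro c hc hc1 hcz h1 h2
      rw [S.t_conj_x_conj] at h2
      set v1 := t * c * t⁻¹ * c⁻¹ with hv1
      have h3 : x⁻¹ * v1 * x ∈ wS z a := by simpa using S.wS_normal (inv_mem S.hx) h1
      have h4 := mul_mem (inv_mem h3) h2
      rw [show (x⁻¹ * v1 * x)⁻¹ * (x⁻¹ * (t * c * t⁻¹) * x * (x * c * x⁻¹)⁻¹) =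
        x⁻¹ * c * x * (x * c * x⁻¹)⁻¹ by rw [hv1]; group] at h4
      have h5 := S.wS_normal S.hx h4
      have e3 : x * x * x = 1 := by rw [← S.x_cube S.hx S.hx3, pow_succ, sq]
      have e2 : x * (x * c * x⁻¹) * x⁻¹ = x⁻¹ * c * x := by
        rw [show x * (x * c * x⁻¹) * x⁻¹ = x⁻¹ * ((x * x * x) * c * (x * x * x)⁻¹) * x by group, e3,
          one_mul, inv_one, mul_one]
      rw [show x * (x⁻¹ * c * x * (x * c * x⁻¹)⁻¹) * x⁻¹ = c * (x * (x * c * x⁻¹) * x⁻¹)⁻¹ by simp [mul_assoc],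
        e2] at h5
      have h6 := S.wS_normal S.hx h5
      rw [show x * (c * (x⁻¹ * c * x)⁻¹) * x⁻¹ = x * c * x⁻¹ * c⁻¹ by group] at h6
      obtain ⟨n1, n2⟩ := S.qE_moved S.hx S.hx3 S.ad S.bd S.ab hc hc1 hcz
      rcases S.qE_wS (mul_mem (S.qE_conj S.hx S.ax S.bx hc) (inv_mem hc)) h6 with e | e
      · exact n1 (mul_inv_eq_one.1 e)
      · exact n2 (by rw [mul_inv_eq_iff_eq_mul] at e; rw [e, S.zcomm_E (mem_qE.1 hc).1])
    have hshift : ∀ c, p * c⁻¹ ∈ wS z a → c ∈ qE E a b → t * c * t⁻¹ * c⁻¹ ∈ wS z a := by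
      intro c hc hcq
      set w1 := p * c⁻¹ with hw1
      have e : c = w1⁻¹ * p := by rw [hw1]; group
      rw [e, show t * (w1⁻¹ * p) * t⁻¹ * (w1⁻¹ * p)⁻¹ =
        (t * w1⁻¹ * t⁻¹) * (t * p * t⁻¹ * p⁻¹) * w1⁻¹⁻¹ by group, S.wS_conj S.t_mem_k0 (inv_mem hc)]
      exact mul_mem (mul_mem (inv_mem hc) hpt) (inv_mem (inv_mem hc))
    rcases S.qE_cases hq hq1 hqz hp with e | e | e | e | e
    · exact absurd e hp1
    · exact absurd e hpz
    · have h1 : q * p = (q * (p * q⁻¹) * q⁻¹) * (q * q) := by group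
      rw [h1, S.wS_conj (Frame.r1_le_k0 hqR) e]
      exact mul_mem e (hsqW q hq hq1 hqz)
    · exact (hbad q hq hq1 hqz hqt (hshift _ e (S.qE_conj S.hx S.ax S.bx hq))).elim
    · exfalso
      set q'' := x⁻¹ * q * x with hq''
      have hq''m : q'' ∈ qE E a b := by
        have e3 : x * x * x = 1 := by rw [← S.x_cube S.hx S.hx3, pow_succ, sq]
        have h2 := S.qE_conj S.hx S.ax S.bx (S.qE_conj S.hx S.ax S.bx hq)
        rwa [show x * (x * q * x⁻¹) * x⁻¹ = x⁻¹ * ((x * x * x) * q * (x * x * x)⁻¹) * x by group, e3,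
          one_mul, inv_one, mul_one, ← hq''] at h2
      have hn1 : q'' ≠ 1 := fun e' => hq1 (by
        calc q = x * q'' * x⁻¹ := by rw [hq'']; group
          _ = 1 := by rw [e']; simp)
      have hnz : q'' ≠ z := fun e' => hqz (by
        calc q = x * q'' * x⁻¹ := by rw [hq'']; group
          _ = z := by rw [e', S.conj_z S.hx])
      exact hbad q'' hq''m hn1 hnz (hshift _ e hq''m)
        (by rwa [show x * q'' * x⁻¹ = q by rw [hq'']; group])
  have h8 : Nat.card ↥(T0 ⊓ e1 E a) ≤ 2 * Nat.card (wS z a) :=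
    card_le_two_mul (fun w hw => ⟨⟨S.wS_le_r1 hw, by
      unfold cm; rw [S.wS_conj S.t_mem_k0 hw, mul_inv_cancel]; exact one_mem _⟩, S.wS_le_e1 hw⟩) hprod
  have hδT : ∀ g ∈ T0, cm b g ∈ T0 ⊓ e1 E a := by
    intro g hg
    have hm := S.cm_b_mem hg.1
    refine ⟨⟨S.e1_le_r1 hm, ?_⟩, hm⟩
    set w := cm t g with hw
    have h1 : t * g * t⁻¹ = w * g := by simp only [hw, cm]; group
    have h2 : t * cm b g * t⁻¹ = cm b (w * g) := by rw [cm_conj_map, conj_iff_comm.2 S.tb, h1]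
    have h3 : cm b (w * g) = (b * w * b⁻¹) * cm b g * w⁻¹ := by simp only [cm]; group
    have hbw := S.wS_normal (S.hEH S.hb) hg.2
    show t * cm b g * t⁻¹ * (cm b g)⁻¹ ∈ wS z a
    rw [h2, h3, show b * w * b⁻¹ * cm b g * w⁻¹ * (cm b g)⁻¹ =
      b * w * b⁻¹ * (cm b g * w⁻¹ * (cm b g)⁻¹) by group,
      S.wS_conj (Frame.r1_le_k0 (S.e1_le_r1 hm)) (inv_mem hg.2)]
    exact mul_mem hbw (inv_mem hg.2)
  have h16 : Nat.card T0 ≤ 2 * Nat.card ↥(T0 ⊓ e1 E a) := by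
    refine card_le_two_mul inf_le_left fun g hg hg' h hh hh' => ⟨mul_mem hg hh, ?_⟩
    refine S.cm_b_fixed (mul_mem hg.1 hh.1) ?_
    have hgm := S.cm_b_mem hg.1
    have hhm := S.cm_b_mem hh.1
    have e : cm b (g * h) = cm b g * (g * cm b h * g⁻¹) := by simp only [cm]; group
    have e' : g * cm b h * g⁻¹ = cm g (cm b h) * cm b h := by simp only [cm]; group
    have hW := S.cm_r1 hg.1 (S.e1_le_r1 hhm)
    rw [e, e', ← mul_assoc, S.wS_central (Frame.r1_le_k0 (S.e1_le_r1 hgm)) hW, mul_assoc]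
    exact mul_mem hW (hprod _ (hδT g hg) (fun c => hg' ⟨hg, S.cm_b_fixed hg.1 c⟩) _ (hδT h hh)
      (fun c => hh' ⟨hh, S.cm_b_fixed hh.1 c⟩))
  have hY : Y.ncard ≤ 16 := by
    refine le_trans (Set.ncard_le_ncard_of_injOn (fun g => g * t) (fun g hg => ?_)
      (fun _ _ _ _ h => mul_right_cancel h) (Set.toFinite (T0 : Set G))) ?_
    · refine ⟨hg.1, ?_⟩
      set r := g * t with hr
      have hgr : g = r * t := by rw [hr, mul_assoc, S.t2, mul_one]
      have h2 := hg.2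
      rw [hgr] at h2
      have h3 : t * r * t = r⁻¹ := eq_inv_of_mul_eq_one_right (by simpa [mul_assoc] using h2)
      have h4 : cm t r = (r * r)⁻¹ := by simp only [cm, S.tinv]; rw [h3]; group
      show cm t r ∈ wS z a
      rw [h4]; exact inv_mem (S.sq_r1 hg.1)
    · have h5 : (T0 : Set G).ncard = Nat.card T0 := (Nat.card_coe_set_eq _).symm
      have := S.card_wS
      omega
  exact ⟨Set.eq_of_subset_of_ncard_le hsub (hY.trans hX.ge), hX⟩

theorem no_b_in_qT {g : G} (hg : g ∈ S.qT) : ¬ IsConj b g := by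
  intro h
  rcases mem_ext2.1 hg with h1 | h1
  · exact S.no_b_in_r1 h1 h
  · obtain ⟨k, hk⟩ := isConj_iff.1 h
    have hmem : g ∈ {g | g * t ∈ r1 φ a ∧ g * g = 1} :=
      ⟨h1, hk ▸ Invol.invol_mul_self (Invol.invol_conj S.orderOf_b k)⟩
    rw [← S.t_class_r1.1] at hmem
    obtain ⟨r, -, hr⟩ := hmem
    exact S.not_conj_t_b ((isConj_iff.2 ⟨r, hr⟩ : IsConj t g).trans h.symm)

theorem relIndex_of_card {Q P : Subgroup G} (h : Q ≤ P) (hc : Nat.card P = 2 * Nat.card Q) :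
    Q.relIndex P = 2 := by
  have h1 := Subgroup.card_mul_index (Q.subgroupOf P)
  rw [Nat.card_congr (subgroupOfEquivOfLe h).toEquiv, hc, mul_comm 2] at h1
  exact Nat.eq_of_mul_eq_mul_left Nat.card_pos h1

/-- A normal subgroup of index two contains `R₁` and `x`. -/
theorem r1_le_index_two {M : Subgroup G} [M.Normal] (hM : M.index = 2) :
    r1 φ a ≤ M ∧ x ∈ M ∧ ∀ g : G, g * g ∈ M := by
  have hsq : ∀ g : G, g * g ∈ M := fun g => Subgroup.mul_self_mem_of_index_two hM g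
  have hxM : x ∈ M := by
    have e3 : x * x * x = 1 := by rw [← S.x_cube S.hx S.hx3, pow_succ, sq]
    have := hsq (x * x)
    rwa [show x * x * (x * x) = x * (x * x * x) by group, e3, mul_one] at this
  have hzM : z ∈ M := by
    obtain ⟨q, hq, hqs⟩ := exists_avoid (K := qE E a b) [1, z] (by rw [S.card_qE']; simp)
    simp only [List.mem_cons, List.not_mem_nil, or_false, not_or] at hqs
    rw [← S.sq_qE hq hqs.1 hqs.2]
    exact hsq q
  have haM : a ∈ M := by rw [← S.dz]; exact Normal.conj_mem inferInstance z hzM d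
  have hWM : wS z a ≤ M := fun w hw => by
    rcases S.mem_wS.1 hw with rfl | rfl | rfl | rfl
    exacts [one_mem _, hzM, haM, mul_mem haM hzM]
  refine ⟨?_, hxM, hsq⟩
  have hqM : qE E a b ≤ M := by
    obtain ⟨p, hp, hps⟩ := exists_avoid (K := qE E a b) [1, z] (by rw [S.card_qE']; simp)
    simp only [List.mem_cons, List.not_mem_nil, or_false, not_or] at hps
    obtain ⟨n1, n2⟩ := S.qE_moved S.hx S.hx3 S.ad S.bd S.ab hp hps.1 hps.2
    have hkM : x * p * x⁻¹ * p⁻¹ ∈ M := commutator_mem hxM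
    set k := x * p * x⁻¹ * p⁻¹ with hk
    have hkq : k ∈ qE E a b := mul_mem (S.qE_conj S.hx S.ax S.bx hp) (inv_mem hp)
    have hk1 : k ≠ 1 := fun e => n1 (mul_inv_eq_one.1 e)
    have hkz : k ≠ z := fun e => n2 (by
      rw [hk, mul_inv_eq_iff_eq_mul] at e; rw [e, S.zcomm_E (mem_qE.1 hp).1])
    intro c hc
    have hstep : ∀ u, u ∈ M → c * u⁻¹ ∈ wS z a → c ∈ M := fun u hu h => by
      have := mul_mem (hWM h) hu
      rwa [inv_mul_cancel_right] at this
    rcases S.qE_cases hkq hk1 hkz hc with e | e | e | e | e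
    · rw [e]; exact one_mem _
    · rw [e]; exact hzM
    · exact hstep k hkM e
    · exact hstep _ (Normal.conj_mem inferInstance k hkM x) e
    · exact hstep _ (by simpa using Normal.conj_mem inferInstance k hkM x⁻¹) e
  have he1 : e1 E a ≤ M ⊓ r1 φ a := fun g hg => by
    refine ⟨?_, S.e1_le_r1 hg⟩
    obtain ⟨w, hw, q, hq, rfl⟩ := S.e1_decomp hg
    exact mul_mem (hWM hw) (hqM hq)
  obtain ⟨r, hr, hrE⟩ : ∃ r ∈ r1 φ a, r ∉ E := by
    by_contra hn
    push Not at hn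
    have := card_le_of_le (show r1 φ a ≤ e1 E a from fun r hr => mem_e1.2 ⟨hn r hr, (mem_r1.1 hr).2⟩)
    have h2 : Nat.card (e1 E a) ≤ Nat.card E := card_le_of_le inf_le_left
    rw [S.card_r1] at this
    rw [S.hE32] at h2
    omega
  refine le_trans (S.eq_r1_of_gt (T := M ⊓ r1 φ a) he1 (fun g hg => ⟨⟨Normal.conj_mem inferInstance g hg.1 x,
      S.r1_normal S.hx hg.2⟩, ⟨by simpa using Normal.conj_mem inferInstance g hg.1 x⁻¹,
      by simpa using S.r1_normal (inv_mem S.hx) hg.2⟩⟩)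
    (r := x * r * x⁻¹ * r⁻¹) (mul_mem (S.r1_normal S.hx hr) (inv_mem hr))
    (Subgroup.mem_inf.2 ⟨commutator_mem hxM, mul_mem (S.r1_normal S.hx hr) (inv_mem hr)⟩)
    (fun h => hrE (S.rad_x_fpf S.hx S.hx3 (mem_r1.1 hr).1 h))) inf_le_left

end Full

/-- Two index-two normal subgroups with a cycling element inside both. -/
structure Halves (z : G) (E : Subgroup G) (φ : ↥(cz z) →* Perm (Fin 4)) (x a b t d : G)
    (Mt Mb : Subgroup G) : Prop extends Full z E φ x a b t d where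
  nt : Mt.Normal
  it : Mt.index = 2
  bt : b ∉ Mt
  tMt : t ∈ Mt
  nb : Mb.Normal
  ib : Mb.index = 2
  tMb : t ∉ Mb
  bMb : b ∈ Mb
  dMt : d ∈ Mt
  dMb : d ∈ Mb

namespace Full

variable {z : G} {E : Subgroup G} {φ : ↥(cz z) →* Perm (Fin 4)} {x a b t d : G}
  (S : Full z E φ x a b t d) [Finite G]
include S

theorem exists_halves : ∃ (d' : G) (Mt Mb : Subgroup G), Halves z E φ x a b t d' Mt Mb := by
  obtain ⟨P, hP⟩ := S.sylow_top
  obtain ⟨ob, hob, hcb⟩ := S.centralizer_b.1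
  obtain ⟨ot, hot, hct⟩ := S.centralizer_t.1
  have hb8 : {w : G | w ∈ rad φ ∧ IsConj b w}.ncard = 8 := by
    rw [← S.b_class.2]
    congr 1
    rw [S.b_class.1]
    ext w
    refine ⟨fun ⟨h1, h2⟩ => ?_, fun ⟨h1, h2, h3⟩ => ?_⟩
    · obtain ⟨k, hk⟩ := isConj_iff.1 h2
      exact ⟨h1, fun h => S.no_b_in_r1 h h2, hk ▸ Invol.invol_mul_self (Invol.invol_conj S.orderOf_b k)⟩
    · obtain ⟨r, -, hr⟩ := S.exists_conj_b h1 h2 h3
      exact ⟨h1, isConj_iff.2 ⟨r, hr⟩⟩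
  have ht16 : {w : G | w ∈ S.qT ∧ IsConj t w}.ncard = 16 := by
    rw [← S.t_class_r1.2]
    congr 1
    rw [S.t_class_r1.1]
    ext w
    refine ⟨fun ⟨h1, h2⟩ => ?_, fun ⟨h1, h3⟩ => ?_⟩
    · obtain ⟨k, hk⟩ := isConj_iff.1 h2
      exact ⟨(mem_ext2.1 h1).resolve_left fun h => S.no_t_in_r1 h h2,
        hk ▸ Invol.invol_mul_self (Invol.invol_conj S.orderOf_t k)⟩
    · have hw : w ∈ {g | g * t ∈ r1 φ a ∧ g * g = 1} := ⟨h1, h3⟩
      rw [← S.t_class_r1.1] at hw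
      obtain ⟨r, -, hr⟩ := hw
      exact ⟨Or.inr h1, isConj_iff.2 ⟨r, hr⟩⟩
  obtain ⟨Mb, nb, ib, tMb, bMb⟩ := index_two_transfer P (Q := rad φ)
    (hP ▸ fun g hg => Or.inl hg)
    (S.relIndex_of_card (hP ▸ fun g hg => Or.inl hg) (by rw [hP, S.card_sT, S.card_rad]; norm_num))
    S.t2 (fun g h => S.no_t_in_rad h (isConj_iff.2 ⟨g, rfl⟩)) (v := b) S.bb (o := ob)
    (Nat.not_even_iff_odd.1 fun he => hob he.two_dvd)
    (by rw [hb8, hcb, S.card_rad]; ring)
  obtain ⟨Mt, nt, it, bt, tMt⟩ := index_two_transfer P (Q := S.qT)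
    (hP ▸ S.qT_le_sT)
    (S.relIndex_of_card (hP ▸ S.qT_le_sT) (by rw [hP, S.card_sT, S.card_qT]; norm_num))
    S.bb (fun g h => S.no_b_in_qT h (isConj_iff.2 ⟨g, rfl⟩)) (v := t) S.t2 (o := ot)
    (Nat.not_even_iff_odd.1 fun he => hot he.two_dvd)
    (by rw [ht16, hct, S.card_qT]; ring)
  have h1 : d * d * d * z * (d * d * d)⁻¹ = z := by
    rw [show d * d * d * z * (d * d * d)⁻¹ = d * (d * (d * z * d⁻¹) * d⁻¹) * d⁻¹ by group, S.dz, S.da,
      S.cycle_az S.dz S.da]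
  have h2 : d * d * d * a * (d * d * d)⁻¹ = a := by
    rw [show d * d * d * a * (d * d * d)⁻¹ = d * (d * (d * a * d⁻¹) * d⁻¹) * d⁻¹ by group, S.da,
      S.cycle_az S.dz S.da, S.dz]
  have e4 : d * d * (d * d) = d * (d * d * d) := by group
  refine ⟨d * d * (d * d), Mt, Mb,
    Halves.mk (Full.mk S.toGlob S.ht S.htp S.tx S.ta S.tb S.tt S.t2 ?_ ?_ ?_ ?_)
      nt it bt tMt nb ib tMb bMb ?_ ?_⟩
  · rw [e4, show d * (d * d * d) * z * (d * (d * d * d))⁻¹ = d * (d * d * d * z * (d * d * d)⁻¹) * d⁻¹ by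
      group, h1, S.dz]
  · rw [e4, show d * (d * d * d) * a * (d * (d * d * d))⁻¹ = d * (d * d * d * a * (d * d * d)⁻¹) * d⁻¹ by
      group, h2, S.da]
  · exact (Commute.mul_left (Commute.mul_left S.dx S.dx) (Commute.mul_left S.dx S.dx)).eq
  · exact (Commute.mul_left (Commute.mul_left S.dt S.dt) (Commute.mul_left S.dt S.dt)).eq
  · exact Subgroup.mul_self_mem_of_index_two it _
  · exact Subgroup.mul_self_mem_of_index_two ib _

end Full

end CfsgLib.AutL34
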