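import Cfsg.Agent.Lib.Invol.AutLThreeFour.CountB
import Cfsg.Agent.Lib.Invol.CentralCore
import Cfsg.Agent.Lib.Invol.TransferPower

/-!
# A subgroup of index three
-/

set_option autoImplicit false

open Subgroup Equiv

namespace CfsgLib.AutL34

universe u

variable {G : Type u} [Group G]

namespace Halves

variable {z : G} {E : Subgroup G} {φ : ↥(cz z) →* Perm (Fin 4)} {x a b t d : G}
  {Mt Mb : Subgroup G} (S : Halves z E φ x a b t d Mt Mb) [Finite G]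
include S

theorem x_mem_mb : x ∈ Mb := by haveI := S.nb; exact (S.r1_le_index_two S.ib).2.1

theorem x_mem_g1 : x ∈ Mt ⊓ Mb := ⟨S.k0_le_mt S.x_mem_k0, S.x_mem_mb⟩

theorem x_mem_yB : x ∈ yB b Mb := mem_yB.2 ⟨S.x_mem_mb, S.bx.symm⟩

theorem r1_le_g1 : r1 φ a ≤ Mt ⊓ Mb := fun g hg =>
  ⟨S.k0_le_mt (Frame.r1_le_k0 hg), S.rad_le_mb (mem_r1.1 hg).1⟩

/-- The conjugates of `b` centralizing `x` are conjugate to `b` in the centralizer of `x`. -/
theorem conj_b_comm_x {v : G} (hv : v ∈ Mb) (hc : IsConj b v) (hvx : v * x = x * v) :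
    ∃ h ∈ Mb, h * x = x * h ∧ h * b * h⁻¹ = v := by
  haveI : Fact (Nat.Prime 2) := ⟨Nat.prime_two⟩
  have hTK : dE E x ≤ Mb ⊓ centralizer ({x} : Set G) := fun g hg =>
    ⟨S.rad_le_mb (S.E_le_rad (mem_dE.1 hg).1), mem_centralizer_singleton_iff.2 (mem_dE.1 hg).2⟩
  obtain ⟨-, h2⟩ := sylow_criterion (K := Mb ⊓ centralizer ({x} : Set G)) (T := dE E x) hTK
    (IsPGroup.of_card (p := 2) (n := 3) (by rw [S.card_dE S.hx S.hx3]; norm_num)) fun g hg hgp hn => by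
      have hgz : g * z * g⁻¹ = z := by
        have hab := hn (a * b) (mul_mem S.ad S.bd)
        have e : g * z * g⁻¹ = g * (a * b) * g⁻¹ * (g * (a * b) * g⁻¹) := by
          rw [show g * (a * b) * g⁻¹ * (g * (a * b) * g⁻¹) = g * (a * b * (a * b)) * g⁻¹ by group,
            S.ab_sq]
        rcases S.hsq _ (mem_dE.1 hab).1 with h | h
        · rw [h] at e
          exact absurd (conj_eq_one_iff.1 e) S.zne
        · rw [e, h]
      obtain ⟨n, hn'⟩ := hgp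
      have hr := Frame.two_elem_par (S.mem_par_of_mb hg.1 (conj_iff_comm.1 hgz)) hn'
      have hgx : g * x = x * g := mem_centralizer_singleton_iff.1 hg.2
      refine mem_dE.2 ⟨S.rad_x_fpf S.hx S.hx3 hr ?_, hgx⟩
      rw [← hgx, mul_inv_cancel_right, mul_inv_cancel]
      exact one_mem _
  obtain ⟨g0, hg0⟩ := isConj_iff.1 hc
  have ho : orderOf v = 2 := hg0 ▸ Invol.invol_conj S.orderOf_b g0
  obtain ⟨k, hk, hks⟩ := h2 (zpowers v) (zpowers_le.2 ⟨hv, mem_centralizer_singleton_iff.2 hvx⟩)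
    (IsPGroup.of_card (n := 1) (by rw [Nat.card_zpowers, ho, pow_one]))
  have hcv : IsConj b (k * v * k⁻¹) := hc.trans (isConj_iff.2 ⟨k, rfl⟩)
  have hzb : ∀ w ∈ wS z a, w ≠ 1 → k * v * k⁻¹ ≠ w := fun w hw h1 e =>
    S.not_conj_b ((S.conj_z_w hw h1).trans (e ▸ hcv).symm)
  have hko := Invol.invol_conj ho k
  obtain ⟨a1, a2, -, -, -, -⟩ := S.ab_ne
  obtain ⟨h, hh, hb'⟩ : ∃ h ∈ dE E x, h * b * h⁻¹ = k * v * k⁻¹ := by
    rcases S.invol_dE (hks v (mem_zpowers v)) (Invol.invol_mul_self hko) (Invol.invol_ne_one hko)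
      (hzb z S.z_mem_wS S.zne) with e | e | e | e
    · exact absurd e (hzb a S.a_mem_wS a1)
    · exact absurd e (hzb _ S.az_mem_wS fun e' => a2 ((eq_inv_of_mul_eq_one_left e').trans S.zinv))
    · exact ⟨1, one_mem _, by rw [e]; simp⟩
    · exact ⟨a, S.ad, by rw [e, S.anti_conj S.ha (S.anti_symm S.ab)]⟩
  refine ⟨k⁻¹ * h, mul_mem (inv_mem hk.1) (hTK hh).1,
    mem_centralizer_singleton_iff.1 (mul_mem (inv_mem hk.2) (hTK hh).2), ?_⟩
  rw [show k⁻¹ * h * b * (k⁻¹ * h)⁻¹ = k⁻¹ * (h * b * h⁻¹) * k by group, hb']; group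

/-- Odd elements of `C(z) ∩ Y` centralizing `C_R(b)` modulo an odd normal subgroup are trivial. -/
theorem odd_normal_par {N : Subgroup G} (hodd : ¬ 2 ∣ Nat.card N)
    (hN : ∀ g ∈ yB b Mb, ∀ o ∈ N, g * o * g⁻¹ ∈ N) {o : G} (ho : o ∈ N) (hop : o ∈ par φ) :
    o = 1 := by
  have hoO : ¬ 2 ∣ orderOf o := fun h => hodd (h.trans (by
    have := orderOf_dvd_natCard (⟨o, ho⟩ : N)
    rwa [orderOf_mk] at this))
  have hrad1 : ∀ v ∈ rad φ, v ∈ N → v = 1 := fun v hv hvN => by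
    obtain ⟨n, hn⟩ := S.pgroup_rad ⟨v, hv⟩
    have h1 : orderOf (⟨v, hvN⟩ : N) ∣ 2 ^ n :=
      orderOf_dvd_of_pow_eq_one (Subtype.ext (by simpa using congrArg Subtype.val hn))
    have h2 := Nat.eq_one_of_dvd_coprimes
      (Nat.Coprime.pow_left n ((Nat.Prime.coprime_iff_not_dvd Nat.prime_two).2 hodd)) h1
      (orderOf_dvd_natCard _)
    exact congrArg Subtype.val (orderOf_eq_one_iff.1 h2)
  -- `o` centralizes `Q`
  have hcent : ∀ q ∈ qE E a b, o * q * o⁻¹ = q := fun q hq => by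
    have hqY : q ∈ yB b Mb :=
      mem_yB.2 ⟨S.rad_le_mb (S.E_le_rad (mem_qE.1 hq).1), (mem_qE.1 hq).2.2⟩
    have h1 : o * q * o⁻¹ * q⁻¹ ∈ N := by
      have := mul_mem ho (hN q hqY o⁻¹ (inv_mem ho))
      rwa [show o * (q * o⁻¹ * q⁻¹) = o * q * o⁻¹ * q⁻¹ by group] at this
    have h2 : o * q * o⁻¹ * q⁻¹ ∈ rad φ :=
      mul_mem (rad_normal (par_le hop) (S.E_le_rad (mem_qE.1 hq).1))
        (inv_mem (S.E_le_rad (mem_qE.1 hq).1))
    exact mul_inv_eq_one.1 (hrad1 _ h2 h1)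
  by_contra h1
  -- `o` is `x` or `x⁻¹` modulo the radical
  have key : ∀ y : G, y * y * y = 1 → (∀ q, q * y = y * q ↔ q * x = x * q) → o * y ∈ rad φ → False := by
    intro y hy3 hyx hr
    obtain ⟨q, hq, hqs⟩ := exists_avoid (K := qE E a b) [1, z] (by rw [S.card_qE']; simp)
    simp only [List.mem_cons, List.not_mem_nil, or_false, not_or] at hqs
    set r := o * y with hrdef
    have hy : y = o⁻¹ * r := by rw [hrdef]; group
    have hE : ∀ e, e ∈ qE E a b → cm r e ∈ wS z a := fun e he => S.cm_e1 hr (S.qE_le_e1 he)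
    have hycz : y ∈ cz z := hy ▸ mul_mem (inv_mem (par_le hop)) (rad_le hr)
    have hstep : y * q * y⁻¹ = q ∨ y * q * y⁻¹ = q * z := by
      have hyq : y * q * y⁻¹ = o⁻¹ * (cm r q * q) * o := by rw [hy]; simp only [cm]; group
      have hyqQ : y * q * y⁻¹ ∈ qE E a b := by
        have hya : Commute a y := ((hyx a).2 S.ax : a * y = y * a)
        have hyb : Commute b y := ((hyx b).2 S.bx : b * y = y * b)
        exact S.qE_conj hycz hya.eq hyb.eq hq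
      have hoQ : o * (y * q * y⁻¹) * o⁻¹ = y * q * y⁻¹ := hcent _ hyqQ
      have e1 : y * q * y⁻¹ = cm r q * q := by
        rw [← hoQ, hyq]; group
      have hcW := hE q hq
      have hcQ : cm r q ∈ qE E a b := by
        have := mul_mem hyqQ (inv_mem hq)
        rwa [e1, mul_inv_cancel_right] at this
      rcases S.qE_wS hcQ hcW with e | e
      · left; rw [e1, e, one_mul]
      · right; rw [e1, e, S.zcomm_E (mem_qE.1 hq).1]
    have hfix : y * q * y⁻¹ = q := by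
      refine hstep.resolve_right fun e => S.zne ?_
      have e2 : y * (y * (y * q * y⁻¹) * y⁻¹) * y⁻¹ = q := by
        rw [show y * (y * (y * q * y⁻¹) * y⁻¹) * y⁻¹ = (y * y * y) * q * (y * y * y)⁻¹ by group, hy3]
        simp
      rw [e, S.conj_mul_z hycz, e, S.zcancel, e] at e2
      exact mul_eq_left.1 e2
    rcases S.qE_inter S.hx S.hx3 S.ad S.bd S.ab hq
      (mem_dE.2 ⟨(mem_qE.1 hq).1, (hyx q).1 (conj_iff_comm.1 hfix).symm⟩) with e | e
    exacts [hqs.1 e, hqs.2 e]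
  have e3 : x * x * x = 1 := by rw [← S.x_cube S.hx S.hx3, pow_succ, sq]
  rcases S.par_cases S.hx S.hx3 hop with c | c | c
  · exact h1 (hrad1 o c ho)
  · exact key x e3 (fun q => Iff.rfl) c
  · refine key x⁻¹ (by rw [← mul_inv_rev, ← mul_inv_rev, ← mul_assoc, e3, inv_one]) (fun q => ?_) c
    exact ⟨fun h => (Commute.inv_right_iff.1 h).eq, fun h => (Commute.inv_right_iff.2 h).eq⟩

/-- A character of `Y` of order three. -/
theorem exists_chi (hY : Nat.card ↥(yB b Mb) = 432) : ∃ N : Subgroup ↥(yB b Mb), ∃ _ : N.Normal,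
    (⟨x, S.x_mem_yB⟩ : ↥(yB b Mb)) ∉ N ∧
      ∀ q : ↥(yB b Mb) ⧸ N, q ∈ zpowers (QuotientGroup.mk' N ⟨x, S.x_mem_yB⟩) := by
  classical
  haveI : Fact (Nat.Prime 2) := ⟨Nat.prime_two⟩
  set Y := yB b Mb with hYdef
  set R := rad φ ⊓ centralizer ({b} : Set G) with hR
  have hRY : R ≤ Y := fun g hg => mem_yB.2 ⟨S.rad_le_mb hg.1, mem_centralizer_singleton_iff.1 hg.2⟩
  have hzY : z ∈ Y := mem_yB.2 ⟨S.z_mem_mb, (S.zcomm_E S.hb).symm⟩
  have hc16 : Nat.card (R.subgroupOf Y) = 16 := by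
    rw [Nat.card_congr (subgroupOfEquivOfLe hRY).toEquiv, hR, S.card_rad_b]
  let P : Sylow 2 Y := (IsPGroup.of_card (p := 2) (n := 4) (by rw [hc16]; norm_num) :
    IsPGroup 2 (R.subgroupOf Y)).toSylow (by
    have h := (R.subgroupOf Y).card_mul_index
    rw [hc16, hY] at h
    omega)
  have hP : (P : Subgroup Y) = R.subgroupOf Y := rfl
  set Z := zpowers (⟨z, hzY⟩ : Y) with hZ
  have hzR : z ∈ R := ⟨S.E_le_rad S.hzE, mem_centralizer_singleton_iff.2 (S.zcomm_E S.hb).symm⟩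
  have hZP : Z ≤ (P : Subgroup Y) := zpowers_le.2 hzR
  have hcl : ∀ ζ ∈ Z, ∀ g : Y, g * ζ * g⁻¹ ∈ (P : Subgroup Y) → g * ζ * g⁻¹ = ζ := by
    intro ζ hζ g hg
    obtain ⟨k, rfl⟩ := mem_zpowers_iff.1 hζ
    have h2 : (⟨z, hzY⟩ : Y) ^ (2 : ℤ) = 1 := by rw [zpow_two]; exact Subtype.ext S.zz
    rcases Int.even_or_odd' k with ⟨l, rfl | rfl⟩
    · rw [zpow_mul, h2, one_zpow, mul_one, mul_inv_cancel]
    · rw [zpow_add, zpow_mul, h2, one_zpow, one_mul, zpow_one] at hg ⊢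
      rw [hP, mem_subgroupOf] at hg
      exact Subtype.ext (S.tB_fused (Or.inl hg) (isConj_iff.2 ⟨(g : G), rfl⟩))
  set O := Cfsg.oddCore Y with hO
  haveI hOn : O.Normal := (inferInstance : (Cfsg.pPrimeCore 2 Y).Normal)
  have hOodd : ¬ 2 ∣ Nat.card O := CfsgLib.Coprime.pPrimeCore_not_dvd Nat.prime_two
  have hOpar : ∀ o : Y, o ∈ O → (o : G) ∈ par φ → o = 1 := fun o ho hp =>
    Subtype.ext (S.odd_normal_par (N := O.map Y.subtype)
      (by rwa [card_map_of_injective Y.subtype_injective])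
      (fun g hg k hk => by
        obtain ⟨k', hk', rfl⟩ := hk
        exact ⟨⟨g, hg⟩ * k' * ⟨g, hg⟩⁻¹, hOn.conj_mem _ hk' _, rfl⟩)
      ⟨o, ho, rfl⟩ hp)
  have hfac : ∀ g : Y, ∃ o ∈ O, ∃ c : Y, (c : G) ∈ par φ ∧ g = o * c := fun g => by
    obtain ⟨o, ho, c, hc, e⟩ := Invol.exists_core_mul_centralizer P hZP hcl g
    refine ⟨o, ho, c, S.mem_par_of_mb (mem_yB.1 c.2).1 ?_, e⟩
    exact (congrArg Subtype.val (mem_centralizer_iff.1 hc _ (mem_zpowers _))).symm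
  -- `N`
  let N : Subgroup Y := O ⊔ R.subgroupOf Y
  have hmemN : ∀ g : Y, g ∈ N ↔ ∃ o ∈ O, ∃ r ∈ R.subgroupOf Y, o * r = g := fun g => by
    rw [← SetLike.mem_coe, Subgroup.normal_mul O (R.subgroupOf Y), Set.mem_mul]
    rfl
  haveI hNn : N.Normal := ⟨fun n hn g => by
    obtain ⟨o, ho, r, hr, rfl⟩ := (hmemN n).1 hn
    obtain ⟨o', ho', c, hc, rfl⟩ := hfac g
    have h1 : c * r * c⁻¹ ∈ R.subgroupOf Y := by
      rw [mem_subgroupOf]
      refine ⟨?_, mem_centralizer_singleton_iff.2 (mem_yB.1 (c * r * c⁻¹).2).2⟩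
      simpa using rad_normal (par_le hc) (mem_subgroupOf.1 hr).1
    rw [show o' * c * (o * r) * (o' * c)⁻¹ = o' * (c * o * c⁻¹) * (c * r * c⁻¹) * o'⁻¹ by group]
    exact mul_mem (mul_mem (mul_mem (mem_sup_left ho') (mem_sup_left (hOn.conj_mem o ho c)))
      (mem_sup_right h1)) (mem_sup_left (inv_mem ho'))⟩
  have hxN : (⟨x, S.x_mem_yB⟩ : Y) ∉ N := fun h => by
    obtain ⟨o, ho, r, hr, e⟩ := (hmemN _).1 h
    have hor : (o : G) * (r : G) = x := congrArg Subtype.val e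
    have hop : (o : G) ∈ par φ := by
      rw [eq_mul_inv_of_mul_eq hor]
      exact mul_mem (S.x_mem_par S.hx S.hx3) (inv_mem (rad_le_par (mem_subgroupOf.1 hr).1))
    rw [hOpar o ho hop, OneMemClass.coe_one, one_mul] at hor
    exact S.x_notMem_rad S.hx S.hx3 (hor ▸ (mem_subgroupOf.1 hr).1)
  refine ⟨N, hNn, hxN, fun q => ?_⟩
  obtain ⟨g, rfl⟩ := QuotientGroup.mk_surjective q
  obtain ⟨o, ho, c, hc, rfl⟩ := hfac g
  have hcb := (mem_yB.1 c.2).2
  have hxb := S.bx.symm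
  have key : ∀ k : ℤ, (c : G) * x ^ k ∈ rad φ →
      ((o * c : Y) : Y ⧸ N) ∈ zpowers ((⟨x, S.x_mem_yB⟩ : Y) : Y ⧸ N) := by
    intro k hk
    refine mem_zpowers_iff.2 ⟨-k, ?_⟩
    rw [← QuotientGroup.mk_zpow, eq_comm, QuotientGroup.eq_iff_div_mem, div_eq_mul_inv, zpow_neg,
      inv_inv, mul_assoc]
    refine mul_mem (mem_sup_left ho) (mem_sup_right ?_)
    rw [mem_subgroupOf]
    refine ⟨by simpa using hk, ?_⟩
    exact mem_centralizer_singleton_iff.2 (mem_yB.1 (c * (⟨x, S.x_mem_yB⟩ : Y) ^ k).2).2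
  rcases S.par_cases S.hx S.hx3 hc with h | h | h
  · exact key 0 (by simpa using h)
  · exact key 1 (by simpa using h)
  · exact key (-1) (by simpa using h)

theorem card_g1 : 2 * Nat.card ↥(Mt ⊓ Mb) = Nat.card Mb := by
  haveI := S.nt
  haveI := S.nb
  have hn : ∀ h ∈ Mt ⊓ Mb, b * h * b ∈ Mt ⊓ Mb := fun h hh => ⟨by
      have := S.nt.conj_mem h hh.1 b
      rwa [inv_eq_of_mul_eq_one_right S.bb] at this,
    mul_mem (mul_mem S.bMb hh.2) S.bMb⟩
  have e : Mb = ext2 (Mt ⊓ Mb) b S.bb hn := by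
    refine le_antisymm (fun g hg => ?_) (fun g hg => ?_)
    · by_cases h : g ∈ Mt
      · exact Or.inl ⟨h, hg⟩
      · exact Or.inr ⟨S.mt_iff.2 h, mul_mem hg S.bMb⟩
    · rcases mem_ext2.1 hg with h | h
      · exact h.2
      · exact (Mb.mul_mem_cancel_right S.bMb).1 h.2
  conv_rhs => rw [e]
  rw [card_ext2 (fun h => S.bt (Subgroup.mem_inf.1 h).1)]

theorem card_g1_y : 2 * Nat.card ↥(Mt ⊓ yB b Mb) = Nat.card ↥(yB b Mb) := by
  haveI := S.nt
  have hbY : b ∈ yB b Mb := mem_yB.2 ⟨S.bMb, rfl⟩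
  have hn : ∀ h ∈ Mt ⊓ yB b Mb, b * h * b ∈ Mt ⊓ yB b Mb := fun h hh => ⟨by
      have := S.nt.conj_mem h hh.1 b
      rwa [inv_eq_of_mul_eq_one_right S.bb] at this,
    mul_mem (mul_mem hbY hh.2) hbY⟩
  have e : yB b Mb = ext2 (Mt ⊓ yB b Mb) b S.bb hn := by
    refine le_antisymm (fun g hg => ?_) (fun g hg => ?_)
    · by_cases h : g ∈ Mt
      · exact Or.inl ⟨h, hg⟩
      · exact Or.inr ⟨S.mt_iff.2 h, mul_mem hg hbY⟩
    · rcases mem_ext2.1 hg with h | h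
      · exact h.2
      · exact ((yB b Mb).mul_mem_cancel_right hbY).1 h.2
  conv_rhs => rw [e]
  rw [card_ext2 (fun h => S.bt (Subgroup.mem_inf.1 h).1)]

/-- The subgroup of index three in `Mt ∩ Mb` missing `x`. -/
theorem exists_index_three (hY : Nat.card ↥(yB b Mb) = 432) (hMb : Nat.card Mb = 120960) :
    ∃ L : Subgroup G, L ≤ Mt ⊓ Mb ∧ (∀ g ∈ Mt ⊓ Mb, ∀ l ∈ L, g * l * g⁻¹ ∈ L) ∧ x ∉ L ∧
      (∀ g ∈ Mt ⊓ Mb, g ^ 3 ∈ L) ∧ Nat.card ↥(Mt ⊓ Mb) = 3 * Nat.card L := by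
  classical
  haveI : Fact (Nat.Prime 3) := ⟨Nat.prime_three⟩
  obtain ⟨N, hN, hxN, hgen⟩ := S.exists_chi hY
  haveI := hN
  letI : CommGroup (↥(yB b Mb) ⧸ N) :=
    { QuotientGroup.Quotient.group N with
      mul_comm := fun p q => by
        obtain ⟨i, rfl⟩ := mem_zpowers_iff.1 (hgen p)
        obtain ⟨j, rfl⟩ := mem_zpowers_iff.1 (hgen q)
        exact zpow_mul_comm _ i j }
  set χ := QuotientGroup.mk' N with hχ
  -- a Sylow subgroup
  set U := Mt ⊓ yB b Mb with hU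
  have hU216 : Nat.card U = 216 := by
    have := S.card_g1_y
    rw [hY, ← hU] at this
    omega
  have hxU : x ∈ U := ⟨S.x_mem_g1.1, S.x_mem_yB⟩
  obtain ⟨P, hxP⟩ := (IsPGroup.of_card (p := 3) (n := 1) (by
    rw [Nat.card_zpowers, orderOf_mk, S.hx3, pow_one]) :
    IsPGroup 3 (zpowers (⟨x, hxU⟩ : U))).exists_le_sylow
  have hP27 : Nat.card (P : Subgroup U) = 27 := by
    rw [P.card_eq_multiplicity, hU216,
      show (216 : ℕ) = 3 ^ 3 * 8 by norm_num, Nat.factorization_mul (by norm_num) (by norm_num),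
      Finsupp.add_apply, Nat.Prime.factorization_pow (by norm_num), Finsupp.single_eq_same,
      Nat.factorization_eq_zero_of_not_dvd (by norm_num : ¬ 3 ∣ 8), add_zero]
    norm_num
  set T := (P : Subgroup U).map U.subtype with hT
  have hTU : T ≤ U := map_subtype_le _
  have hTG : T ≤ Mt ⊓ Mb := fun g hg => ⟨(hTU hg).1, (mem_yB.1 (hTU hg).2).1⟩
  have hTY : T ≤ yB b Mb := fun g hg => (hTU hg).2
  have hxT : x ∈ T := ⟨⟨x, hxU⟩, hxP (mem_zpowers _), rfl⟩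
  set K := Mt ⊓ Mb with hK
  have hK60 : Nat.card K = 60480 := by
    have := S.card_g1
    rw [hMb, ← hK] at this
    omega
  set H := T.subgroupOf K with hH
  let toY : H →* ↥(yB b Mb) :=
    { toFun := fun h => ⟨((h : K) : G), hTY (mem_subgroupOf.1 h.2)⟩
      map_one' := rfl
      map_mul' := fun _ _ => rfl }
  let ψ : H →* ↥(yB b Mb) ⧸ N := χ.comp toY
  have hxH : (⟨x, S.x_mem_g1⟩ : K) ∈ H := mem_subgroupOf.2 hxT
  have hval : ψ ⟨⟨x, S.x_mem_g1⟩, hxH⟩ = χ ⟨x, S.x_mem_yB⟩ := rfl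
  have hidx : H.index = 2240 := by
    have h := H.card_mul_index
    rw [hH] at h ⊢
    have hT27 : Nat.card T = 27 := by rw [hT, card_map_of_injective U.subtype_injective, hP27]
    rw [Nat.card_congr (subgroupOfEquivOfLe hTG).toEquiv, hT27, hK60] at h
    omega
  have hV : MonoidHom.transfer ψ (⟨x, S.x_mem_g1⟩ : K) = χ ⟨x, S.x_mem_yB⟩ ^ H.index := by
    rw [← hval]
    refine Invol.transfer_eq_pow_index ψ _ hxH fun k g0 hk => ?_
    rw [← map_pow]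
    show χ _ = χ _
    by_cases h1 : x ^ k = 1
    · refine congrArg χ (Subtype.ext ?_)
      show (g0 : G)⁻¹ * x ^ k * (g0 : G) = ((toY _ : ↥(yB b Mb)) : G)
      simp only [toY, MonoidHom.coe_mk, OneHom.coe_mk, SubmonoidClass.coe_pow]
      rw [h1]; simp
    have hs : (g0 : G)⁻¹ * x ^ k * (g0 : G) ∈ yB b Mb := hTY (mem_subgroupOf.1 hk)
    set b' := (g0 : G) * b * (g0 : G)⁻¹ with hb'
    have hb'k : b' * x ^ k = x ^ k * b' := by
      have h : Commute ((g0 : G) * ((g0 : G)⁻¹ * x ^ k * (g0 : G)) * (g0 : G)⁻¹) b' :=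
        Commute.map ((mem_yB.1 hs).2 : Commute _ b) (MulAut.conj (g0 : G)).toMonoidHom
      rw [show (g0 : G) * ((g0 : G)⁻¹ * x ^ k * (g0 : G)) * (g0 : G)⁻¹ = x ^ k by group] at h
      exact h.eq.symm
    have hb'x : b' * x = x * b' := by
      have hcop : Nat.Coprime k (orderOf x) := by
        rw [S.hx3, Nat.coprime_comm, Nat.Prime.coprime_iff_not_dvd Nat.prime_three]
        rintro ⟨c, rfl⟩
        exact h1 (by rw [pow_mul, S.x_cube S.hx S.hx3, one_pow])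
      obtain ⟨j, hj⟩ := exists_pow_eq_self_of_coprime hcop
      have h : Commute b' ((x ^ k) ^ j) := Commute.pow_right (hb'k : Commute b' (x ^ k)) j
      rw [hj] at h
      exact h.eq
    obtain ⟨h, hh, hhx, hhb⟩ := S.conj_b_comm_x (S.nb.conj_mem b S.bMb (g0 : G))
      (isConj_iff.2 ⟨(g0 : G), rfl⟩) hb'x
    have hyY : h⁻¹ * (g0 : G) ∈ yB b Mb := mem_yB.2 ⟨mul_mem (inv_mem hh) g0.2.2, by
      have e : h⁻¹ * (g0 : G) * b * (h⁻¹ * (g0 : G))⁻¹ = b := by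
        rw [show h⁻¹ * (g0 : G) * b * (h⁻¹ * (g0 : G))⁻¹ =
          h⁻¹ * ((g0 : G) * b * (g0 : G)⁻¹) * h by group, ← hhb]
        group
      exact conj_iff_comm.1 e⟩
    set y : ↥(yB b Mb) := ⟨h⁻¹ * (g0 : G), hyY⟩
    have hxk : x ^ k ∈ yB b Mb := pow_mem S.x_mem_yB k
    calc χ _ = χ (y⁻¹ * ⟨x ^ k, hxk⟩ * y) := congrArg χ (Subtype.ext (by
          show (g0 : G)⁻¹ * x ^ k * (g0 : G) = (h⁻¹ * (g0 : G))⁻¹ * x ^ k * (h⁻¹ * (g0 : G))
          have hc : Commute (x ^ k) h⁻¹ := (Commute.pow_left (Commute.symm hhx) k).inv_right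
          calc (g0 : G)⁻¹ * x ^ k * (g0 : G) = (g0 : G)⁻¹ * h * (h⁻¹ * x ^ k) * (g0 : G) := by group
            _ = (g0 : G)⁻¹ * h * (x ^ k * h⁻¹) * (g0 : G) := by rw [hc.eq]
            _ = (h⁻¹ * (g0 : G))⁻¹ * x ^ k * (h⁻¹ * (g0 : G)) := by group))
      _ = χ ⟨x ^ k, hxk⟩ := by
          rw [map_mul, map_mul, map_inv, mul_comm (χ y)⁻¹, mul_assoc, inv_mul_cancel, mul_one]
      _ = _ := congrArg χ (Subtype.ext rfl)
  rw [hidx] at hV
  set V := MonoidHom.transfer ψ with hVdef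
  clear_value V
  clear hVdef
  have hχx : χ ⟨x, S.x_mem_yB⟩ ≠ 1 := fun e => hxN ((QuotientGroup.eq_one_iff _).1 e)
  have hχ3 : χ ⟨x, S.x_mem_yB⟩ ^ 3 = 1 := by
    rw [← map_pow, show (⟨x, S.x_mem_yB⟩ : ↥(yB b Mb)) ^ 3 = 1 from
      Subtype.ext (S.x_cube S.hx S.hx3), map_one]
  have hord : orderOf (χ ⟨x, S.x_mem_yB⟩) = 3 := orderOf_eq_prime hχ3 hχx
  have hcard : Nat.card (↥(yB b Mb) ⧸ N) = 3 := by
    rw [← orderOf_eq_card_of_forall_mem_zpowers hgen, hord]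
  have hq3 : ∀ q : ↥(yB b Mb) ⧸ N, q ^ 3 = 1 := fun q => by
    rw [← hcard]; exact pow_card_eq_one'
  have hVx : V ⟨x, S.x_mem_g1⟩ ≠ 1 := fun e => by
    rw [hV, show 2240 = 3 * 746 + 2 by norm_num, pow_add, pow_mul, hχ3, one_pow, one_mul] at e
    apply hχx
    rw [show χ ⟨x, S.x_mem_yB⟩ = χ ⟨x, S.x_mem_yB⟩ ^ 3 * (χ ⟨x, S.x_mem_yB⟩ ^ 2)⁻¹ ^ 1 by
      rw [pow_one, pow_succ, mul_comm, inv_mul_cancel_left], hχ3, e, inv_one, one_pow, one_mul]
  refine ⟨V.ker.map K.subtype, map_subtype_le _, ?_, ?_, ?_, ?_⟩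
  · rintro g hg _ ⟨l, hl, rfl⟩
    exact ⟨⟨g, hg⟩ * l * ⟨g, hg⟩⁻¹, V.normal_ker.conj_mem l hl _, rfl⟩
  · rintro ⟨l, hl, e⟩
    exact hVx (by rw [show (⟨x, S.x_mem_g1⟩ : K) = l from Subtype.ext e.symm]; exact hl)
  · intro g hg
    exact ⟨⟨g, hg⟩ ^ 3, by rw [SetLike.mem_coe, MonoidHom.mem_ker, map_pow, hq3], rfl⟩
  · rw [card_map_of_injective K.subtype_injective]
    have h := V.ker.card_mul_index
    rw [index_ker] at h
    have hr : Nat.card V.range = 3 := by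
      refine Nat.dvd_antisymm ((card_subgroup_dvd_card V.range).trans (dvd_of_eq hcard)) ?_
      have := orderOf_dvd_natCard (⟨V ⟨x, S.x_mem_g1⟩, ⟨_, rfl⟩⟩ : V.range)
      rwa [← Subgroup.orderOf_coe, show orderOf (V ⟨x, S.x_mem_g1⟩) = 3 from orderOf_eq_prime (hq3 _) hVx] at this
    rw [hr] at h
    omega

end Halves

end CfsgLib.AutL34
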