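import Cfsg.Agent.Lib.Invol.AutLThreeFour.FrameW

/-!
# The group `R₁ = C_R(a)` of order 64
-/

set_option autoImplicit false

open Subgroup

namespace CfsgLib.AutL34

universe u

variable {G : Type u} [Group G]

set_option synthInstance.maxSize 1024 in
theorem v4_cases : ∀ ρ σ τ : Equiv.Perm (Fin 4), ρ ^ 3 = 1 → ρ ≠ 1 →
    (σ * σ = 1 ∧ Equiv.Perm.sign σ = 1) → (τ * τ = 1 ∧ Equiv.Perm.sign τ = 1) → σ ≠ 1 →
    τ = 1 ∨ τ * σ⁻¹ = 1 ∨ τ * (ρ * σ * ρ⁻¹)⁻¹ = 1 ∨ τ * (ρ⁻¹ * σ * ρ)⁻¹ = 1 := by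
  decide +kernel

/-- The number of conjugates of `g` under `K`. -/
theorem card_conj_orbit [Finite G] (K : Subgroup G) (g : G) :
    Nat.card K = Nat.card ↥(K ⊓ centralizer ({g} : Set G)) *
      ((fun k => k * g * k⁻¹) '' (K : Set G)).ncard := by
  set C := (centralizer ({g} : Set G)).subgroupOf K with hC
  have hmem : ∀ u v : K, u⁻¹ * v ∈ C ↔ (u : G) * g * (u : G)⁻¹ = v * g * (v : G)⁻¹ := by
    intro u v
    rw [hC, mem_subgroupOf, mem_centralizer_singleton_iff, Subgroup.coe_mul, InvMemClass.coe_inv]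
    constructor
    · intro h
      calc (u : G) * g * (u : G)⁻¹
          = (u : G) * (g * ((u : G)⁻¹ * v)) * (v : G)⁻¹ := by group
        _ = (u : G) * ((u : G)⁻¹ * v * g) * (v : G)⁻¹ := by rw [h]
        _ = v * g * (v : G)⁻¹ := by group
    · intro h
      calc (u : G)⁻¹ * v * g = (u : G)⁻¹ * (v * g * (v : G)⁻¹) * v := by group
        _ = (u : G)⁻¹ * ((u : G) * g * (u : G)⁻¹) * v := by rw [h]
        _ = g * ((u : G)⁻¹ * v) := by group
  have e : (↥K ⧸ C) ≃ ((fun k => k * g * k⁻¹) '' (K : Set G) : Set G) :=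
    Equiv.ofBijective
      (fun q => Quotient.liftOn' q (fun u : K => ⟨(u : G) * g * (u : G)⁻¹, ⟨u, u.2, rfl⟩⟩)
        (fun u v h => Subtype.ext ((hmem u v).1 (QuotientGroup.leftRel_apply.1 h))))
      ⟨by
        intro p q
        induction p using Quotient.inductionOn' with | _ u => ?_
        induction q using Quotient.inductionOn' with | _ v => ?_
        intro h
        exact Quotient.sound' (QuotientGroup.leftRel_apply.2 ((hmem u v).2 (congrArg Subtype.val h))),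
       fun ⟨_, u, hu, rfl⟩ => ⟨Quotient.mk'' ⟨u, hu⟩, rfl⟩⟩
  rw [← Nat.card_coe_set_eq, ← Nat.card_congr e, ← Subgroup.index_eq_card,
    ← Subgroup.card_mul_index C]
  congr 1
  rw [hC, ← inf_subgroupOf_left]
  exact Nat.card_congr (subgroupOfEquivOfLe inf_le_left).toEquiv

/-- `W = ⟨z, a⟩`. -/
def wS (z a : G) : Subgroup G := closure {z, a}

/-- `R₁ = C_R(a)`. -/
def r1 {z : G} (φ : ↥(cz z) →* Equiv.Perm (Fin 4)) (a : G) : Subgroup G :=
  rad φ ⊓ centralizer ({a} : Set G)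

/-- `E₁ = C_E(a)`. -/
def e1 (E : Subgroup G) (a : G) : Subgroup G := E ⊓ centralizer ({a} : Set G)

/-- The centralizer of `z` and `a`. -/
def k0 (z a : G) : Subgroup G := cz z ⊓ centralizer ({a} : Set G)

/-- The commutator of two elements. -/
def cm (r s : G) : G := r * s * r⁻¹ * s⁻¹

theorem mem_r1 {z : G} {φ : ↥(cz z) →* Equiv.Perm (Fin 4)} {a g : G} :
    g ∈ r1 φ a ↔ g ∈ rad φ ∧ g * a = a * g := by
  simp [r1, mem_inf, mem_centralizer_singleton_iff]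

theorem mem_e1 {E : Subgroup G} {a g : G} : g ∈ e1 E a ↔ g ∈ E ∧ g * a = a * g := by
  simp [e1, mem_inf, mem_centralizer_singleton_iff]

theorem mem_k0 {z a g : G} : g ∈ k0 z a ↔ g ∈ cz z ∧ g * a = a * g := by
  simp [k0, mem_inf, mem_centralizer_singleton_iff]

namespace Frame

variable {z : G} {E : Subgroup G} {φ : ↥(cz z) →* Equiv.Perm (Fin 4)} {x a b : G}
  (S : Frame z E φ x a b)
include S

theorem aE1 : a ∈ e1 E a := mem_e1.2 ⟨S.ha, rfl⟩

theorem zE1 : z ∈ e1 E a := mem_e1.2 ⟨S.hzE, (S.zcomm_E S.ha).symm⟩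

theorem b_conj_a : b * a * b⁻¹ = a * z := S.anti_conj S.hb S.ab

theorem b_notMem_r1 : b ∉ r1 φ a := fun h => S.zne (by
  have h1 := (mem_r1.1 h).2
  have h2 := S.ab
  rw [h1] at h2
  exact mul_left_cancel (h2.symm.trans (mul_one _).symm))

theorem mem_wS {g : G} : g ∈ wS z a ↔ g = 1 ∨ g = z ∨ g = a ∨ g = a * z := by
  refine ⟨fun h => ?_, ?_⟩
  · have hza : z * a = a * z := (S.zcomm_E S.ha).symm
    have haz : a * (a * z) = z := by rw [← mul_assoc, S.aa, one_mul]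
    have haza : a * z * a = z := by rw [mul_assoc, hza, haz]
    have hainv : a⁻¹ = a := inv_eq_of_mul_eq_one_right S.aa
    induction h using closure_induction with
    | mem g hg =>
      rcases hg with rfl | rfl
      exacts [Or.inr (Or.inl rfl), Or.inr (Or.inr (Or.inl rfl))]
    | one => exact Or.inl rfl
    | mul g g' _ _ h h' =>
      rcases h with rfl | rfl | rfl | rfl <;> rcases h' with rfl | rfl | rfl | rfl <;>
        simp [S.zz, S.aa, hza, haz, haza, S.zcancel, ← mul_assoc]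
    | inv g _ h =>
      rcases h with rfl | rfl | rfl | rfl <;> simp [S.zinv, hainv, hza]
  · rintro (rfl | rfl | rfl | rfl)
    exacts [one_mem _, subset_closure (Set.mem_insert _ _),
      subset_closure (Set.mem_insert_of_mem _ rfl),
      mul_mem (subset_closure (Set.mem_insert_of_mem _ rfl)) (subset_closure (Set.mem_insert _ _))]

theorem z_mem_wS : z ∈ wS z a := S.mem_wS.2 (Or.inr (Or.inl rfl))

theorem a_mem_wS : a ∈ wS z a := S.mem_wS.2 (Or.inr (Or.inr (Or.inl rfl)))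

theorem az_mem_wS : a * z ∈ wS z a := S.mem_wS.2 (Or.inr (Or.inr (Or.inr rfl)))

theorem wS_le_e1 : wS z a ≤ e1 E a := fun g hg => by
  rcases S.mem_wS.1 hg with rfl | rfl | rfl | rfl
  exacts [one_mem _, S.zE1, S.aE1, mul_mem S.aE1 S.zE1]

theorem e1_le_r1 : e1 E a ≤ r1 φ a := fun g hg =>
  mem_r1.2 ⟨S.E_le_rad (mem_e1.1 hg).1, (mem_e1.1 hg).2⟩

theorem wS_le_r1 : wS z a ≤ r1 φ a := S.wS_le_e1.trans S.e1_le_r1

omit S in
theorem r1_le_k0 : r1 φ a ≤ k0 z a := fun _ hg =>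
  mem_k0.2 ⟨rad_le (mem_r1.1 hg).1, (mem_r1.1 hg).2⟩

theorem x_mem_k0 : x ∈ k0 z a := mem_k0.2 ⟨S.hx, S.ax.symm⟩

theorem wS_central {k w : G} (hk : k ∈ k0 z a) (hw : w ∈ wS z a) : k * w = w * k := by
  obtain ⟨hkz, hka⟩ := mem_k0.1 hk
  have h1 : Commute k z := mem_cz.1 hkz
  have h2 : Commute k a := hka
  rcases S.mem_wS.1 hw with rfl | rfl | rfl | rfl
  exacts [Commute.one_right k, h1, h2, h2.mul_right h1]

theorem wS_conj {k w : G} (hk : k ∈ k0 z a) (hw : w ∈ wS z a) : k * w * k⁻¹ = w :=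
  conj_iff_comm.2 (S.wS_central hk hw)

theorem wS_sq {w : G} (hw : w ∈ wS z a) : w * w = 1 := by
  rcases S.mem_wS.1 hw with rfl | rfl | rfl | rfl
  · exact one_mul 1
  · exact S.zz
  · exact S.aa
  · rw [S.sq_mul_of_comm (S.zcomm_E S.ha), S.aa, S.zz, one_mul]

theorem wS_inv {w : G} (hw : w ∈ wS z a) : w⁻¹ = w := inv_eq_of_mul_eq_one_right (S.wS_sq hw)

theorem wS_normal {h w : G} (hh : h ∈ cz z) (hw : w ∈ wS z a) : h * w * h⁻¹ ∈ wS z a := by
  rcases S.mem_wS.1 hw with rfl | rfl | rfl | rfl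
  · simp
  · rw [S.conj_z hh]; exact S.z_mem_wS
  · rcases S.hW h hh with e | e <;> rw [e]
    exacts [S.a_mem_wS, S.az_mem_wS]
  · rw [S.conj_mul_z hh]
    rcases S.hW h hh with e | e <;> rw [e]
    exacts [S.az_mem_wS, by rw [S.zcancel]; exact S.a_mem_wS]

theorem r1_normal {h r : G} (hh : h ∈ cz z) (hr : r ∈ r1 φ a) : h * r * h⁻¹ ∈ r1 φ a := by
  obtain ⟨hrR, hra⟩ := mem_r1.1 hr
  refine mem_r1.2 ⟨rad_normal hh hrR, conj_iff_comm.1 ?_⟩
  have hra' : r * a * r⁻¹ = a := conj_iff_comm.2 hra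
  have h1 : h * r * h⁻¹ * (h * a * h⁻¹) * (h * r * h⁻¹)⁻¹ = h * a * h⁻¹ := by
    rw [show h * r * h⁻¹ * (h * a * h⁻¹) * (h * r * h⁻¹)⁻¹ = h * (r * a * r⁻¹) * h⁻¹ by group, hra']
  rcases S.hW h hh with e | e <;> rw [e] at h1
  · exact h1
  · rw [S.conj_mul_z (rad_le (rad_normal hh hrR))] at h1
    exact mul_right_cancel h1

theorem e1_normal {h g : G} (hh : h ∈ cz z) (hg : g ∈ e1 E a) : h * g * h⁻¹ ∈ e1 E a :=
  mem_e1.2 ⟨S.hn h hh g (mem_e1.1 hg).1, (mem_r1.1 (S.r1_normal hh (S.e1_le_r1 hg))).2⟩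

variable [Finite G]

theorem e1_decomp {g : G} (hg : g ∈ e1 E a) : ∃ w ∈ wS z a, ∃ q ∈ qE E a b, g = w * q := by
  obtain ⟨hgE, hga⟩ := mem_e1.1 hg
  obtain ⟨d, hd, q, hq, rfl⟩ := S.decomp' hgE
  refine ⟨d, ?_, q, hq, rfl⟩
  have h1 : Commute d a := by
    have h2 := Commute.mul_left (hga : Commute (d * q) a) (Commute.inv_left ((mem_qE.1 hq).2.1 : Commute q a))
    rwa [mul_inv_cancel_right] at h2
  have hd' := S.dE_eq hd
  simp only [List.mem_cons, List.not_mem_nil, or_false] at hd'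
  have hb' : ∀ c, c ∈ wS z a → d ≠ c * b := fun c hc e => by
    apply S.b_notMem_r1
    refine mem_r1.2 ⟨S.E_le_rad S.hb, ?_⟩
    have hca : Commute c a := (mem_e1.1 (S.wS_le_e1 hc)).2
    have h3 := hca.inv_left.mul_left h1
    rwa [e, inv_mul_cancel_left] at h3
  rcases hd' with h | h | h | h | h | h | h | h
  · rw [h]; exact one_mem _
  · rw [h]; exact S.z_mem_wS
  · rw [h]; exact S.a_mem_wS
  · rw [h]; exact S.az_mem_wS
  · exact absurd (h.trans (one_mul b).symm) (hb' 1 (one_mem _))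
  · exact absurd (h.trans (S.zcomm_E S.hb)) (hb' z S.z_mem_wS)
  · exact absurd h (hb' a S.a_mem_wS)
  · exact absurd (by rw [h, mul_assoc, S.zcomm_E S.hb, mul_assoc]) (hb' (a * z) S.az_mem_wS)

theorem qE_wS {q : G} (hq : q ∈ qE E a b) (hw : q ∈ wS z a) : q = 1 ∨ q = z := by
  rcases S.mem_wS.1 hw with h | h | h | h
  · exact Or.inl h
  · exact Or.inr h
  all_goals
    exfalso
    have hz := S.zne
    obtain ⟨-, -, hqb⟩ := mem_qE.1 hq
    rw [h] at hqb
    first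
      | (have h2 := S.ab; rw [hqb] at h2; exact hz (mul_left_cancel (h2.symm.trans (mul_one _).symm)))
      | (have h2 := S.ab
         rw [mul_assoc a z b, ← S.zcomm_E S.hb, ← mul_assoc, ← mul_assoc] at hqb
         rw [mul_right_cancel hqb] at h2
         exact hz (mul_left_cancel (h2.symm.trans (mul_one _).symm)))

theorem qE_le_e1 : qE E a b ≤ e1 E a := fun _ hq =>
  mem_e1.2 ⟨(mem_qE.1 hq).1, (mem_qE.1 hq).2.1⟩

theorem card_r1 : Nat.card (r1 φ a) = 64 := by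
  have h1 : Nat.card (rad φ) ≤ 2 * Nat.card (r1 φ a) := by
    refine card_le_two_mul inf_le_left fun g hg hg' k hk hk' => mem_r1.2 ⟨mul_mem hg hk, conj_iff_comm.1 ?_⟩
    have hne : ∀ c ∈ rad φ, c ∉ r1 φ a → c * a * c⁻¹ = a * z := fun c hc hc' =>
      (S.hW c (rad_le hc)).resolve_left fun e => hc' (mem_r1.2 ⟨hc, conj_iff_comm.1 e⟩)
    rw [show g * k * a * (g * k)⁻¹ = g * (k * a * k⁻¹) * g⁻¹ by group, hne k hk hk',
      S.conj_mul_z (rad_le hg), hne g hg hg', S.zcancel]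
  have h2 : Nat.card (r1 φ a) ∣ 2 ^ 7 := by
    rw [show 2 ^ 7 = Nat.card (rad φ) from S.card_rad.symm]; exact card_dvd_of_le inf_le_left
  obtain ⟨k, hk, e⟩ := (Nat.dvd_prime_pow Nat.prime_two).1 h2
  rw [S.card_rad] at h1
  have hk7 : k ≠ 7 := fun h => by
    have : r1 φ a = rad φ := eq_of_le_of_card_ge inf_le_left (by rw [e, h, S.card_rad]; norm_num)
    exact S.b_notMem_r1 (this.symm ▸ S.E_le_rad S.hb)
  rw [e] at h1 ⊢
  interval_cases k <;> omega

theorem card_k0 : Nat.card (k0 z a) = 384 := by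
  have h := card_conj_orbit (cz z) a
  have hs : ((fun k => k * a * k⁻¹) '' (cz z : Set G)) = {a, a * z} := by
    refine Set.Subset.antisymm ?_ ?_
    · rintro _ ⟨k, hk, rfl⟩
      exact S.hW k hk
    · rintro _ (rfl | rfl)
      · exact ⟨1, one_mem _, by simp⟩
      · exact ⟨b, S.hEH S.hb, S.b_conj_a⟩
  rw [hs, S.card_cz, Set.ncard_pair (fun e => S.zne (by simpa using e))] at h
  change 768 = Nat.card (k0 z a) * 2 at h
  omega

theorem card_wS : Nat.card (wS z a) = 4 := by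
  obtain ⟨ha1, haz, -⟩ := S.ab_ne
  apply le_antisymm
  · classical
    have hsub : (wS z a : Set G) ⊆ (([1, z, a, a * z] : List G).toFinset : Set G) := fun g hg => by
      simpa using S.mem_wS.1 hg
    have h1 := Set.ncard_le_ncard hsub
    rw [Set.ncard_coe_finset, ← Nat.card_coe_set_eq] at h1
    exact h1.trans ((List.toFinset_card_le _).trans le_rfl)
  · refine length_le_card [1, z, a, a * z] ?_ ?_
    · simp only [List.mem_cons, List.not_mem_nil, or_false]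
      exact fun g hg => S.mem_wS.2 hg
    · simp only [List.nodup_cons, List.mem_cons, List.not_mem_nil, or_false, not_or, not_false_iff,
        List.nodup_nil, and_true]
      refine ⟨⟨S.zne.symm, ha1.symm, fun e => haz ?_⟩, ⟨haz.symm, fun e => ha1 (mul_eq_right.1 e.symm)⟩,
        fun e => S.zne (by simpa using e)⟩
      exact (eq_inv_of_mul_eq_one_left e.symm).trans S.zinv

theorem cm_e1 {r e : G} (hr : r ∈ rad φ) (he : e ∈ e1 E a) : cm r e ∈ wS z a := by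
  let T : Subgroup G :=
    { carrier := {e | e ∈ e1 E a ∧ ∀ r ∈ rad φ, cm r e ∈ wS z a}
      one_mem' := ⟨one_mem _, fun r _ => by simp [cm]⟩
      mul_mem' := by
        rintro e f ⟨he, he'⟩ ⟨hf, hf'⟩
        refine ⟨mul_mem he hf, fun r hr => ?_⟩
        have h1 : cm r (e * f) = cm r e * (e * cm r f * e⁻¹) := by simp only [cm]; group
        rw [h1, S.wS_conj (r1_le_k0 (S.e1_le_r1 he)) (hf' r hr)]
        exact mul_mem (he' r hr) (hf' r hr)
      inv_mem' := by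
        rintro e ⟨he, he'⟩
        refine ⟨inv_mem he, fun r hr => ?_⟩
        have h1 : cm r e⁻¹ = e⁻¹ * (cm r e)⁻¹ * e⁻¹⁻¹ := by simp only [cm]; group
        rw [h1, S.wS_conj (r1_le_k0 (S.e1_le_r1 (inv_mem he))) (inv_mem (he' r hr))]
        exact inv_mem (he' r hr) }
  have hTW : wS z a ≤ T := fun w hw => ⟨S.wS_le_e1 hw, fun r hr => by
    exact mul_mem (S.wS_normal (rad_le hr) hw) (inv_mem hw)⟩
  suffices h : e1 E a ≤ T from (h he).2 r hr
  haveI : Fact (Nat.Prime 2) := ⟨Nat.prime_two⟩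
  obtain ⟨n, hn, hnW, hfix⟩ := exists_central_mod (M := wS z a) (N := e1 E a) S.pgroup_rad
    S.wS_le_e1 (fun g hg => (mem_r1.1 (S.e1_le_r1 hg)).1)
    (fun hle => by
      have h1 := card_le_of_le (S.qE_le_e1.trans hle)
      rw [S.card_qE', S.card_wS] at h1
      omega)
    (fun t ht m hm => S.wS_normal (rad_le ht) hm) (fun t ht m hm => S.e1_normal (rad_le ht) hm)
  obtain ⟨w, hw, q, hq, rfl⟩ := S.e1_decomp hn
  have hqT : q ∈ T := by
    have h1 : w * q ∈ T := ⟨hn, hfix⟩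
    exact (T.mul_mem_cancel_left (hTW hw)).1 h1
  have hq1 : q ≠ 1 := fun e => hnW (by rw [e, mul_one]; exact hw)
  have hqz : q ≠ z := fun e => hnW (by rw [e]; exact mul_mem hw S.z_mem_wS)
  have hq'T : x * q * x⁻¹ ∈ T := by
    refine ⟨S.e1_normal S.hx hqT.1, fun r hr => ?_⟩
    have hr' : x⁻¹ * r * x ∈ rad φ := by simpa using rad_normal (inv_mem S.hx) hr
    have h2 : cm r (x * q * x⁻¹) = x * cm (x⁻¹ * r * x) q * x⁻¹ := by simp only [cm]; group
    rw [h2]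
    exact S.wS_normal S.hx (hqT.2 _ hr')
  intro g hg
  obtain ⟨v, hv, p, hp, rfl⟩ := S.e1_decomp hg
  refine mul_mem (hTW hv) ?_
  set U := qE E a b ⊓ T
  have hd : Nat.card U ∣ 2 ^ 3 := by
    rw [show 2 ^ 3 = Nat.card (qE E a b) from S.card_qE'.symm]; exact card_dvd_of_le inf_le_left
  obtain ⟨n1, n2⟩ := S.qE_moved S.hx S.hx3 S.ad S.bd S.ab hq hq1 hqz
  obtain ⟨p1, p2, -, -⟩ := S.anti_ne (mem_qE.1 hq).1 (S.anti_qE hq hq1 hqz)
  have hzT : z ∈ T := hTW S.z_mem_wS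
  have h5 := length_le_card (K := U) [1, z, q, q * z, x * q * x⁻¹] (by
      simp only [List.mem_cons, List.not_mem_nil, or_false]
      rintro c (rfl | rfl | rfl | rfl | rfl)
      exacts [one_mem _, ⟨S.zq, hzT⟩, ⟨hq, hqT⟩, ⟨mul_mem hq S.zq, mul_mem hqT hzT⟩,
        ⟨S.qE_conj S.hx S.ax S.bx hq, hq'T⟩]) (by
      simp only [List.nodup_cons, List.mem_cons, List.not_mem_nil, or_false, not_or, not_false_iff,
        List.nodup_nil, and_true]
      refine ⟨⟨S.zne.symm, Ne.symm hq1, fun e => hqz ?_, Ne.symm p1⟩,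
        ⟨Ne.symm hqz, fun e => hq1 (mul_eq_right.1 e.symm), Ne.symm p2⟩,
        ⟨fun e => S.zne (by simpa using e), Ne.symm n1⟩, Ne.symm n2⟩
      exact (eq_inv_of_mul_eq_one_left e.symm).trans S.zinv)
  simp only [List.length_cons, List.length_nil] at h5
  obtain ⟨m, hm, e⟩ := (Nat.dvd_prime_pow Nat.prime_two).1 hd
  have hm3 : m = 3 := by interval_cases m <;> omega
  subst hm3
  have : U = qE E a b := eq_of_le_of_card_ge inf_le_left (by rw [e, S.card_qE']; norm_num)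
  exact ((this.symm ▸ hp : p ∈ U)).2

theorem sq_r1 {r : G} (hr : r ∈ r1 φ a) : r * r ∈ wS z a := by
  obtain ⟨hrR, -⟩ := mem_r1.1 hr
  have hsqE : ∀ {s}, s ∈ r1 φ a → s * s ∈ e1 E a := fun hs =>
    mem_e1.2 ⟨S.rad_sq (mem_r1.1 hs).1, (mem_r1.1 (mul_mem hs hs)).2⟩
  have hcomm : ∀ s ∈ r1 φ a, (s * s) * (r * r) = (r * r) * (s * s) := by
    intro s hs
    have hc := S.cm_e1 (mem_r1.1 hs).1 (hsqE hr)
    have hs' : s * (r * r) * s⁻¹ = cm s (r * r) * (r * r) := by simp only [cm]; group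
    refine conj_iff_comm.1 ?_
    calc s * s * (r * r) * (s * s)⁻¹ = s * (s * (r * r) * s⁻¹) * s⁻¹ := by group
      _ = s * (cm s (r * r) * (r * r)) * s⁻¹ := by rw [hs']
      _ = (s * cm s (r * r) * s⁻¹) * (s * (r * r) * s⁻¹) := by group
      _ = cm s (r * r) * (cm s (r * r) * (r * r)) := by rw [S.wS_conj (r1_le_k0 hs) hc, hs']
      _ = r * r := by rw [← mul_assoc, S.wS_sq hc, one_mul]
  obtain ⟨w, hw, q, hq, e⟩ := S.e1_decomp (hsqE hr)
  by_cases hq1 : q = 1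
  · rw [e, hq1, mul_one]; exact hw
  by_cases hqz : q = z
  · rw [e, hqz]; exact mul_mem hw S.z_mem_wS
  exfalso
  have h := hcomm _ (S.r1_normal S.hx hr)
  rw [show x * r * x⁻¹ * (x * r * x⁻¹) = x * (r * r) * x⁻¹ by group, e,
    show x * (w * q) * x⁻¹ = (x * w * x⁻¹) * (x * q * x⁻¹) by group,
    S.wS_conj S.x_mem_k0 hw] at h
  set q' := x * q * x⁻¹ with hq'
  have hq'E : q' ∈ e1 E a := S.qE_le_e1 (S.qE_conj S.hx S.ax S.bx hq)
  have hc1 : q' * w = w * q' := S.wS_central (r1_le_k0 (S.e1_le_r1 hq'E)) hw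
  have hc2 : q * w = w * q := S.wS_central (r1_le_k0 (S.e1_le_r1 (S.qE_le_e1 hq))) hw
  have h2 : w * w * (q' * q) = w * w * (q * q') :=
    calc w * w * (q' * q) = w * (w * q') * q := by group
      _ = w * (q' * w) * q := by rw [hc1]
      _ = w * q' * (w * q) := by group
      _ = w * q * (w * q') := h
      _ = w * (q * w) * q' := by group
      _ = w * (w * q) * q' := by rw [hc2]
      _ = w * w * (q * q') := by group
  have h3 := mul_left_cancel h2
  have h4 := S.anti_qE hq hq1 hqz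
  rw [← hq', ← h3] at h4
  exact S.zne (mul_left_cancel (h4.symm.trans (mul_one _).symm))

theorem cm_r1 {r s : G} (hr : r ∈ r1 φ a) (hs : s ∈ r1 φ a) : cm r s ∈ wS z a := by
  have h1 := S.sq_r1 hr
  have h2 := S.sq_r1 hs
  have h3 := S.sq_r1 (mul_mem hr hs)
  have e : cm r s = (r * s * (r * s)) * (s⁻¹ * (r * r)⁻¹ * s⁻¹⁻¹) * (s * s)⁻¹ := by
    simp only [cm]; group
  rw [e, S.wS_conj (r1_le_k0 (inv_mem hs)) (inv_mem h1)]
  exact mul_mem (mul_mem h3 (inv_mem h1)) (inv_mem h2)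

theorem cm_mul_left {r r' s : G} (hr : r ∈ r1 φ a) (hr' : r' ∈ r1 φ a) (hs : s ∈ r1 φ a) :
    cm (r * r') s = cm r' s * cm r s := by
  have e : cm (r * r') s = r * cm r' s * r⁻¹ * cm r s := by simp only [cm]; group
  rw [e, S.wS_conj (r1_le_k0 hr) (S.cm_r1 hr' hs)]

theorem cm_mul_right {r s s' : G} (hr : r ∈ r1 φ a) (hs : s ∈ r1 φ a) (hs' : s' ∈ r1 φ a) :
    cm r (s * s') = cm r s * cm r s' := by
  have e : cm r (s * s') = cm r s * (s * cm r s' * s⁻¹) := by simp only [cm]; group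
  rw [e, S.wS_conj (r1_le_k0 hs) (S.cm_r1 hr hs')]

theorem cm_wS_right {r w : G} (hr : r ∈ r1 φ a) (hw : w ∈ wS z a) : cm r w = 1 := by
  unfold cm
  rw [S.wS_conj (r1_le_k0 hr) hw, mul_inv_cancel]

theorem cm_symm {r s : G} (hr : r ∈ r1 φ a) (hs : s ∈ r1 φ a) : cm s r = cm r s := by
  rw [← S.wS_inv (S.cm_r1 hr hs)]
  simp only [cm]; group

theorem cm_conj {k r s : G} (hk : k ∈ k0 z a) (hr : r ∈ r1 φ a) (hs : s ∈ r1 φ a) :
    cm (k * r * k⁻¹) (k * s * k⁻¹) = cm r s := by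
  rw [show cm (k * r * k⁻¹) (k * s * k⁻¹) = k * cm r s * k⁻¹ by simp only [cm]; group,
    S.wS_conj hk (S.cm_r1 hr hs)]

/-- `x` has no fixed points on `R₁ / W`. -/
theorem r1_x_fpf {r : G} (hr : r ∈ r1 φ a) (h : x * r * x⁻¹ * r⁻¹ ∈ wS z a) : r ∈ wS z a := by
  have hE : r ∈ E := S.rad_x_fpf S.hx S.hx3 (mem_r1.1 hr).1 (mem_e1.1 (S.wS_le_e1 h)).1
  obtain ⟨w, hw, q, hq, rfl⟩ := S.e1_decomp (mem_e1.2 ⟨hE, (mem_r1.1 hr).2⟩)
  rw [show x * (w * q) * x⁻¹ * (w * q)⁻¹ = (x * w * x⁻¹) * (x * q * x⁻¹ * q⁻¹) * w⁻¹ by group,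
    S.wS_conj S.x_mem_k0 hw] at h
  have h' : x * q * x⁻¹ * q⁻¹ ∈ wS z a := by
    have := mul_mem (mul_mem (inv_mem hw) h) hw
    rwa [show w⁻¹ * (w * (x * q * x⁻¹ * q⁻¹) * w⁻¹) * w = x * q * x⁻¹ * q⁻¹ by group] at this
  refine mul_mem hw ?_
  by_cases hq1 : q = 1
  · rw [hq1]; exact one_mem _
  by_cases hqz : q = z
  · rw [hqz]; exact S.z_mem_wS
  exfalso
  obtain ⟨n1, n2⟩ := S.qE_moved S.hx S.hx3 S.ad S.bd S.ab hq hq1 hqz
  rcases S.qE_wS (mul_mem (S.qE_conj S.hx S.ax S.bx hq) (inv_mem hq)) h' with e | e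
  · exact n1 (mul_inv_eq_one.1 e)
  · exact n2 (by rw [mul_inv_eq_iff_eq_mul] at e; rw [e, S.zcomm_E (mem_qE.1 hq).1])

theorem r1_trip {r : G} (hr : r ∈ r1 φ a) : r * (x * r * x⁻¹) * (x⁻¹ * r * x) ∈ wS z a := by
  have h1 := S.r1_normal S.hx hr
  have h2 : x⁻¹ * r * x ∈ r1 φ a := by simpa using S.r1_normal (inv_mem S.hx) hr
  refine S.r1_x_fpf (mul_mem (mul_mem hr h1) h2) ?_
  set r' := x * r * x⁻¹ with hr'
  set r'' := x⁻¹ * r * x with hr''
  have e3 : x * x * x = 1 := by rw [← S.x_cube S.hx S.hx3, pow_succ, sq]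
  have e : x * (r * r' * r'') * x⁻¹ = r' * r'' * r :=
    calc x * (r * r' * r'') * x⁻¹
        = (x * r * x⁻¹) * ((x * x * x) * (x⁻¹ * r * x) * (x * x * x)⁻¹) * r := by
          rw [hr', hr'']; group
      _ = r' * r'' * r := by rw [e3, ← hr', ← hr'']; group
  rw [e, show r' * r'' * r * (r * r' * r'')⁻¹ = cm (r' * r'') r by simp only [cm]; group]
  exact S.cm_r1 (mul_mem h1 h2) hr

omit [Finite G] in
theorem rad_cases {r s : G} (hr : r ∈ rad φ) (hrE : r ∉ E) (hs : s ∈ rad φ) :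
    s ∈ E ∨ s * r⁻¹ ∈ E ∨ s * (x * r * x⁻¹)⁻¹ ∈ E ∨ s * (x⁻¹ * r * x)⁻¹ ∈ E := by
  have hrc := rad_le hr
  have hsc := rad_le hs
  have hxc := S.hx
  have h := v4_cases (φ ⟨x, hxc⟩) (φ ⟨r, hrc⟩) (φ ⟨s, hsc⟩) (S.phi_x_three hxc S.hx3).1
    (S.phi_x_three hxc S.hx3).2 ((mem_rad hrc).1 hr) ((mem_rad hsc).1 hs)
    (fun e => hrE ((S.mem_E_iff hrc).2 e))
  simp only [← map_inv, ← map_mul] at h
  rcases h with e | e | e | e
  · exact Or.inl ((S.ker ⟨s, hsc⟩).1 e)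
  · exact Or.inr (Or.inl ((S.ker _).1 e))
  · exact Or.inr (Or.inr (Or.inl ((S.ker _).1 e)))
  · exact Or.inr (Or.inr (Or.inr ((S.ker _).1 e)))

/-- A subgroup of `R₁` that contains `E₁`, is `x`-invariant and is not `E₁` is `R₁`. -/
theorem eq_r1_of_gt {T : Subgroup G} (hT : e1 E a ≤ T)
    (hTx : ∀ t ∈ T, x * t * x⁻¹ ∈ T ∧ x⁻¹ * t * x ∈ T)
    {r : G} (hr : r ∈ r1 φ a) (hrT : r ∈ T) (hrE : r ∉ E) : r1 φ a ≤ T := by
  intro s hs
  have hstep : ∀ k, k ∈ T → k ∈ r1 φ a → s * k⁻¹ ∈ E → s ∈ T := fun k hk hk' h => by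
    have h1 : s * k⁻¹ ∈ T := hT (mem_e1.2 ⟨h, (mem_r1.1 (mul_mem hs (inv_mem hk'))).2⟩)
    have := mul_mem h1 hk
    rwa [inv_mul_cancel_right] at this
  rcases S.rad_cases (mem_r1.1 hr).1 hrE (mem_r1.1 hs).1 with h | h | h | h
  · exact hT (mem_e1.2 ⟨h, (mem_r1.1 hs).2⟩)
  · exact hstep r hrT hr h
  · exact hstep _ (hTx r hrT).1 (S.r1_normal S.hx hr) h
  · exact hstep _ (hTx r hrT).2 (by simpa using S.r1_normal (inv_mem S.hx) hr) h

/-- `[E₁, R₁]` is not inside `⟨z⟩`. -/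
theorem exists_cm_not_z : ∃ e ∈ e1 E a, ∃ r ∈ r1 φ a, cm r e ≠ 1 ∧ cm r e ≠ z := by
  by_contra hn
  push Not at hn
  obtain ⟨q, hq, hqs⟩ := exists_avoid (K := qE E a b) [1, z] (by rw [S.card_qE']; simp)
  simp only [List.mem_cons, List.not_mem_nil, or_false, not_or] at hqs
  refine S.pfix_q hq (S.mem_pfix.2 ⟨(mem_qE.1 hq).1, fun r hr => ?_⟩) hqs.1 hqs.2
  have hkey : ∀ s ∈ r1 φ a, s * q * s⁻¹ * q⁻¹ ∈ zpowers z := fun s hs =>
    S.mem_zpowers_z.2 (or_iff_not_imp_left.2 (hn q (S.qE_le_e1 hq) s hs))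
  by_cases hra : r * a * r⁻¹ = a
  · exact hkey r (mem_r1.2 ⟨hr, conj_iff_comm.1 hra⟩)
  · have hra' := (S.hW r (rad_le hr)).resolve_left hra
    have h1 : r * b ∈ r1 φ a := mem_r1.2 ⟨mul_mem hr (S.E_le_rad S.hb), conj_iff_comm.1 (by
      rw [show r * b * a * (r * b)⁻¹ = r * (b * a * b⁻¹) * r⁻¹ by group, S.b_conj_a,
        S.conj_mul_z (rad_le hr), hra', S.zcancel])⟩
    have h2 := hkey _ h1
    have hbq : b * q * b⁻¹ = q := conj_iff_comm.2 (mem_qE.1 hq).2.2.symm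
    rwa [show r * b * q * (r * b)⁻¹ = r * (b * q * b⁻¹) * r⁻¹ by group, hbq] at h2

omit [Finite G] in
theorem cm_b_mem {r : G} (hr : r ∈ r1 φ a) : cm b r ∈ e1 E a := by
  have h1 : b * r * b⁻¹ ∈ r1 φ a := S.r1_normal (S.hEH S.hb) hr
  exact mem_e1.2 ⟨S.rad_comm (S.E_le_rad S.hb) (mem_r1.1 hr).1,
    (mem_r1.1 (mul_mem h1 (inv_mem hr))).2⟩

/-- `b` has fixed points on `R₁ / W` exactly in `E₁ / W`. -/
theorem cm_b_fixed {r : G} (hr : r ∈ r1 φ a) (h : cm b r ∈ wS z a) : r ∈ e1 E a := by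
  by_contra hre
  have hrE : r ∉ E := fun e => hre (mem_e1.2 ⟨e, (mem_r1.1 hr).2⟩)
  let T : Subgroup G :=
    { carrier := {s | s ∈ r1 φ a ∧ cm b s ∈ wS z a}
      one_mem' := ⟨one_mem _, by simp [cm]⟩
      mul_mem' := by
        rintro s t ⟨hs, hs'⟩ ⟨ht, ht'⟩
        refine ⟨mul_mem hs ht, ?_⟩
        have e : cm b (s * t) = cm b s * (s * cm b t * s⁻¹) := by simp only [cm]; group
        rw [e, S.wS_conj (r1_le_k0 hs) ht']
        exact mul_mem hs' ht'
      inv_mem' := by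
        rintro s ⟨hs, hs'⟩
        refine ⟨inv_mem hs, ?_⟩
        have e : cm b s⁻¹ = s⁻¹ * (cm b s)⁻¹ * s⁻¹⁻¹ := by simp only [cm]; group
        rw [e, S.wS_conj (r1_le_k0 (inv_mem hs)) (inv_mem hs')]
        exact inv_mem hs' }
  have hT1 : e1 E a ≤ T := fun e he => ⟨S.e1_le_r1 he, S.cm_e1 (S.E_le_rad S.hb) he⟩
  have hxb : x * b * x⁻¹ = b := conj_iff_comm.2 S.bx.symm
  have hxb' : x⁻¹ * b * x = b := by rw [mul_assoc, S.bx, ← mul_assoc, inv_mul_cancel, one_mul]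
  have hTx : ∀ t ∈ T, x * t * x⁻¹ ∈ T ∧ x⁻¹ * t * x ∈ T := by
    rintro t ⟨ht, ht'⟩
    refine ⟨⟨S.r1_normal S.hx ht, ?_⟩, ⟨by simpa using S.r1_normal (inv_mem S.hx) ht, ?_⟩⟩
    · have e : cm b (x * t * x⁻¹) = x * cm b t * x⁻¹ := by
        conv_lhs => rw [← hxb]
        simp only [cm]; group
      rw [e]; exact S.wS_normal S.hx ht'
    · have e : cm b (x⁻¹ * t * x) = x⁻¹ * cm b t * x⁻¹⁻¹ := by
        conv_lhs => rw [← hxb']
        simp only [cm]; group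
      rw [e]; exact S.wS_normal (inv_mem S.hx) ht'
  have hall := S.eq_r1_of_gt hT1 hTx hr ⟨hr, h⟩ hrE
  -- then `b` is fixed modulo `⟨z⟩` by `R`
  have hab : b ∈ S.pfix := by
    refine S.mem_pfix.2 ⟨S.hb, fun s hs => ?_⟩
    have hkey : ∀ k ∈ r1 φ a, k * b * k⁻¹ * b⁻¹ ∈ zpowers z := by
      intro k hk
      have h1 := (hall hk).2
      set c := k * b * k⁻¹ * b⁻¹ with hc
      have hcW : c ∈ wS z a := by
        rw [show c = (cm b k)⁻¹ by simp only [cm, hc]; group]; exact inv_mem h1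
      have hkc : k * b * k⁻¹ = c * b := by rw [hc]; group
      have hsq : c * b * (c * b) = 1 := by
        rw [← hkc, show k * b * k⁻¹ * (k * b * k⁻¹) = k * (b * b) * k⁻¹ by group, S.bb]; simp
      rcases S.mem_wS.1 hcW with e | e | e | e
      · rw [e]; exact one_mem _
      · rw [e]; exact mem_zpowers z
      · rw [e, S.ab_sq] at hsq; exact absurd hsq S.zne
      · exfalso
        have hcb : c * b = a * b * z := by rw [e, mul_assoc a z b, ← S.zcomm_E S.hb, ← mul_assoc]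
        rw [hcb, S.sq_mul_of_comm (S.zcomm_E (mul_mem S.ha S.hb)), S.ab_sq, S.zz, mul_one] at hsq
        exact S.zne hsq
    by_cases hsa : s * a * s⁻¹ = a
    · exact hkey s (mem_r1.2 ⟨hs, conj_iff_comm.1 hsa⟩)
    · have hsa' := (S.hW s (rad_le hs)).resolve_left hsa
      have h1 : s * b ∈ r1 φ a := mem_r1.2 ⟨mul_mem hs (S.E_le_rad S.hb), conj_iff_comm.1 (by
        rw [show s * b * a * (s * b)⁻¹ = s * (b * a * b⁻¹) * s⁻¹ by group, S.b_conj_a,
          S.conj_mul_z (rad_le hs), hsa', S.zcancel])⟩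
      have h2 := hkey _ h1
      rwa [show s * b * b * (s * b)⁻¹ * b⁻¹ = s * b * s⁻¹ * b⁻¹ by group] at h2
  have haP : a ∈ S.pfix := S.mem_pfix.2 ⟨S.ha, fun s hs => by
    rcases S.hW s (rad_le hs) with e | e <;> rw [e]
    · rw [mul_inv_cancel]; exact one_mem _
    · rw [S.zcomm_E S.ha, mul_inv_cancel_right]; exact mem_zpowers z⟩
  exact S.ab_notMem_pfix (mul_mem haP hab)

omit [Finite G] in
theorem mul_b_mem_r1 {g : G} (hg : g ∈ rad φ) (hg' : g ∉ r1 φ a) : g * b ∈ r1 φ a := by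
  have hga := (S.hW g (rad_le hg)).resolve_left fun e => hg' (mem_r1.2 ⟨hg, conj_iff_comm.1 e⟩)
  refine mem_r1.2 ⟨mul_mem hg (S.E_le_rad S.hb), conj_iff_comm.1 ?_⟩
  rw [show g * b * a * (g * b)⁻¹ = g * (b * a * b⁻¹) * g⁻¹ by group, S.b_conj_a,
    S.conj_mul_z (rad_le hg), hga, S.zcancel]

/-- The involutions in `R ∖ R₁` lie in `E`. -/
theorem invol_out_mem_E {g : G} (hg : g ∈ rad φ) (hg' : g ∉ r1 φ a) (h2 : g * g = 1) : g ∈ E := by
  set r := g * b with hr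
  have hrm := S.mul_b_mem_r1 hg hg'
  have hbinv : b⁻¹ = b := inv_eq_of_mul_eq_one_right S.bb
  have h3 : cm b r = (r * r)⁻¹ := by
    have e : g = r * b := by rw [hr, mul_assoc, S.bb, mul_one]
    rw [e] at h2
    have : b * r * b = r⁻¹ := eq_inv_of_mul_eq_one_right (by simpa [mul_assoc] using h2)
    simp only [cm, hbinv, this]
    group
  have h4 := S.cm_b_fixed hrm (h3 ▸ inv_mem (S.sq_r1 hrm))
  rw [show g = r * b by rw [hr, mul_assoc, S.bb, mul_one]]
  exact mul_mem (mem_e1.1 h4).1 S.hb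

omit [Finite G] in
theorem cz_b_conj_mem {h : G} (hh : h ∈ cz z) :
    h * b * h⁻¹ ∈ rad φ ∧ h * b * h⁻¹ ∉ r1 φ a ∧ h * b * h⁻¹ * (h * b * h⁻¹) = 1 := by
  refine ⟨rad_normal hh (S.E_le_rad S.hb), fun e => S.b_notMem_r1 ?_, ?_⟩
  · simpa [mul_assoc] using S.r1_normal (inv_mem hh) e
  · rw [show h * b * h⁻¹ * (h * b * h⁻¹) = h * (b * b) * h⁻¹ by group, S.bb]; simp

theorem r1_centralizes_b {r : G} (hr : r ∈ r1 φ a) (hrb : r * b = b * r) : r ∈ qE E a b := by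
  have h1 : r ∈ e1 E a := S.cm_b_fixed hr (by
    have : cm b r = 1 := by unfold cm; rw [← hrb]; group
    rw [this]; exact one_mem _)
  exact mem_qE.2 ⟨(mem_e1.1 h1).1, (mem_e1.1 h1).2, hrb⟩

/-- The set of involutions in `R ∖ R₁`. -/
theorem b_class : ((fun k => k * b * k⁻¹) '' (r1 φ a : Set G)) =
      {g | g ∈ rad φ ∧ g ∉ r1 φ a ∧ g * g = 1} ∧
    ((fun k => k * b * k⁻¹) '' (r1 φ a : Set G)).ncard = 8 := by
  classical
  set X := (fun k => k * b * k⁻¹) '' (r1 φ a : Set G)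
  set Ω := {g | g ∈ rad φ ∧ g ∉ r1 φ a ∧ g * g = 1}
  have hsub : X ⊆ Ω := by
    rintro _ ⟨k, hk, rfl⟩
    exact S.cz_b_conj_mem (rad_le (mem_r1.1 hk).1)
  have hX : X.ncard = 8 := by
    have h := card_conj_orbit (r1 φ a) b
    have hC : r1 φ a ⊓ centralizer ({b} : Set G) = qE E a b := by
      refine le_antisymm (fun r hr => S.r1_centralizes_b hr.1 (mem_centralizer_singleton_iff.1 hr.2))
        fun q hq => ⟨S.e1_le_r1 (S.qE_le_e1 hq), mem_centralizer_singleton_iff.2 (mem_qE.1 hq).2.2⟩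
    rw [hC, S.card_r1, S.card_qE'] at h
    change 64 = 8 * X.ncard at h
    omega
  have hΩ : Ω.ncard ≤ 8 := by
    let f : G → G := fun q => if q = 1 ∨ q = z then q * b else a * b * q
    have hsub' : Ω ⊆ f '' (qE E a b : Set G) := by
      rintro g ⟨hg, hg', hg2⟩
      have hgE := S.invol_out_mem_E hg hg' hg2
      obtain ⟨d, hd, q, hq, rfl⟩ := S.decomp' hgE
      have hdl := S.dE_eq hd
      have hdq := S.comm_dq hdl hq
      have hdne : ∀ w ∈ wS z a, d ≠ w := fun w hw e => hg' (by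
        rw [e]; exact mul_mem (S.wS_le_r1 hw) (S.e1_le_r1 (S.qE_le_e1 hq)))
      have hsq := hg2
      rw [S.sq_mul_of_comm hdq] at hsq
      have hqq : q = 1 ∨ q = z ∨ q * q = z := by
        by_cases h1 : q = 1
        · exact Or.inl h1
        by_cases h2 : q = z
        · exact Or.inr (Or.inl h2)
        exact Or.inr (Or.inr (S.sq_qE hq h1 h2))
      have hq2 : q = 1 ∨ q = z → q * q = 1 := by rintro (rfl | rfl); exacts [one_mul 1, S.zz]
      simp only [List.mem_cons, List.not_mem_nil, or_false] at hdl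
      rcases hdl with h | h | h | h | h | h | h | h
      · exact absurd h (hdne 1 (one_mem _))
      · exact absurd h (hdne z S.z_mem_wS)
      · exact absurd h (hdne a S.a_mem_wS)
      · exact absurd h (hdne _ S.az_mem_wS)
      · have hq' : q = 1 ∨ q = z := by
          rcases hqq with e | e | e
          · exact Or.inl e
          · exact Or.inr e
          · rw [h, S.bb, one_mul, e] at hsq; exact absurd hsq S.zne
        refine ⟨q, hq, ?_⟩
        simp only [f, if_pos hq']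
        rw [h] at hdq ⊢
        exact hdq.symm
      · have hq' : q = 1 ∨ q = z := by
          rcases hqq with e | e | e
          · exact Or.inl e
          · exact Or.inr e
          · rw [h, S.sq_mul_of_comm (S.zcomm_E S.hb), S.bb, S.zz, one_mul, one_mul, e] at hsq
            exact absurd hsq S.zne
        have hqz : q * z = 1 ∨ q * z = z := by
          rcases hq' with rfl | rfl
          exacts [Or.inr (one_mul z), Or.inl S.zz]
        refine ⟨q * z, mul_mem hq S.zq, ?_⟩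
        simp only [f, if_pos hqz]
        rw [h, mul_assoc q z b, ← S.zcomm_E S.hb]
        rw [h] at hdq
        rw [hdq]
      · have hq' : ¬ (q = 1 ∨ q = z) := fun e => by
          rw [h, S.ab_sq, hq2 e, mul_one] at hsq
          exact S.zne hsq
        refine ⟨q, hq, ?_⟩
        simp only [f, if_neg hq']
        rw [h]
      · have hq' : ¬ (q = 1 ∨ q = z) := fun e => by
          rw [h, S.sq_mul_of_comm (S.zcomm_E (mul_mem S.ha S.hb)), S.ab_sq, S.zz, mul_one, hq2 e,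
            mul_one] at hsq
          exact S.zne hsq
        have hqz : ¬ (q * z = 1 ∨ q * z = z) := by
          rintro (e | e)
          · exact hq' (Or.inr ((eq_inv_of_mul_eq_one_left e).trans S.zinv))
          · exact hq' (Or.inl (mul_eq_right.1 e))
        refine ⟨q * z, mul_mem hq S.zq, ?_⟩
        simp only [f, if_neg hqz]
        rw [h, mul_assoc (a * b) z q, ← S.zcomm_E (mem_qE.1 hq).1]
    refine (Set.ncard_le_ncard hsub').trans ((Set.ncard_image_le).trans ?_)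
    rw [← Nat.card_coe_set_eq]
    exact S.card_qE'.le
  exact ⟨Set.eq_of_subset_of_ncard_le hsub (hΩ.trans hX.ge), hX⟩

theorem exists_conj_b {g : G} (hg : g ∈ rad φ) (hg' : g ∉ r1 φ a) (h2 : g * g = 1) :
    ∃ r ∈ r1 φ a, r * b * r⁻¹ = g :=
  (S.b_class.1.symm ▸ ⟨hg, hg', h2⟩ : g ∈ (fun k => k * b * k⁻¹) '' (r1 φ a : Set G))

theorem card_cz_b : Nat.card ↥(cz z ⊓ centralizer ({b} : Set G)) = 96 := by
  have h := card_conj_orbit (cz z) b
  have hs : (fun k => k * b * k⁻¹) '' (cz z : Set G) = (fun k => k * b * k⁻¹) '' (r1 φ a : Set G) := by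
    refine Set.Subset.antisymm ?_ (Set.image_mono fun k hk => rad_le (mem_r1.1 hk).1)
    rintro _ ⟨k, hk, rfl⟩
    obtain ⟨h1, h2, h3⟩ := S.cz_b_conj_mem hk
    exact S.exists_conj_b h1 h2 h3
  rw [hs, S.b_class.2, S.card_cz] at h
  omega

end Frame

end CfsgLib.AutL34
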