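import Cfsg.Agent.Lib.Invol.AutLThreeFour.CentT
import Cfsg.Agent.Lib.Char.Burnside

/-!
# The order of the subgroup of index two containing `t`
-/

set_option autoImplicit false

open Subgroup Equiv

namespace CfsgLib.AutL34

universe u

variable {G : Type u} [Group G] [Finite G]

theorem card_class_sub (M : Subgroup G) {x : G} (hx : x ∈ M) :
    Nat.card {y : M // IsConj (⟨x, hx⟩ : M) y} * Nat.card ↥(M ⊓ centralizer ({x} : Set G)) =
      Nat.card M := by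
  have h := Invol.card_isConj_mul (⟨x, hx⟩ : M)
  have e : centralizer ({(⟨x, hx⟩ : M)} : Set M) = (M ⊓ centralizer ({x} : Set G)).subgroupOf M := by
    ext g
    rw [mem_centralizer_singleton_iff, mem_subgroupOf, mem_inf, mem_centralizer_singleton_iff,
      Subtype.ext_iff]
    exact ⟨fun h => ⟨g.2, h⟩, fun h => h.2⟩
  rwa [e, Nat.card_congr (subgroupOfEquivOfLe inf_le_left).toEquiv] at h

theorem card_pairs_sub (M : Subgroup G) [M.Normal] {x y w : G} (hx : x ∈ M) (hy : y ∈ M) (hw : w ∈ M)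
    (cx : ∀ g : G, ∃ c, c * x = x * c ∧ g * c ∈ M) (cy : ∀ g : G, ∃ c, c * y = y * c ∧ g * c ∈ M) :
    Nat.card {p : M × M // IsConj (⟨x, hx⟩ : M) p.1 ∧ IsConj (⟨y, hy⟩ : M) p.2 ∧
        (⟨w, hw⟩ : M) ∈ zpowers (p.1 * p.2)} =
      Nat.card {p : G × G // IsConj x p.1 ∧ IsConj y p.2 ∧ w ∈ zpowers (p.1 * p.2)} := by
  have hz : ∀ p : M × M, (⟨w, hw⟩ : M) ∈ zpowers (p.1 * p.2) ↔
      w ∈ zpowers ((p.1 : G) * (p.2 : G)) := fun p => by
    rw [mem_zpowers_iff, mem_zpowers_iff]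
    exact exists_congr fun k => by rw [Subtype.ext_iff, coe_zpow, coe_mul]
  have hmem : ∀ {x g : G}, x ∈ M → IsConj x g → g ∈ M := fun hx h => by
    obtain ⟨k, rfl⟩ := isConj_iff.1 h
    exact Subgroup.Normal.conj_mem inferInstance _ hx k
  refine Nat.card_eq_of_bijective (fun p => ⟨((p.1.1 : G), (p.1.2 : G)),
    (isConj_iff_of_cover M hx cx _).1 p.2.1, (isConj_iff_of_cover M hy cy _).1 p.2.2.1,
    (hz p.1).1 p.2.2.2⟩) ⟨fun p q h => ?_, fun p => ?_⟩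
  · simp only [Subtype.mk.injEq, Prod.mk.injEq] at h
    exact Subtype.ext (Prod.ext (Subtype.ext h.1) (Subtype.ext h.2))
  · obtain ⟨⟨p1, p2⟩, h1, h2, h3⟩ := p
    exact ⟨⟨(⟨p1, hmem hx h1⟩, ⟨p2, hmem hy h2⟩), (isConj_iff_of_cover M hx cx _).2 h1,
      (isConj_iff_of_cover M hy cy _).2 h2, (hz _).2 h3⟩, rfl⟩

namespace Halves

variable {z : G} {E : Subgroup G} {φ : ↥(cz z) →* Perm (Fin 4)} {x a b t d : G}
  {Mt Mb : Subgroup G} (S : Halves z E φ x a b t d Mt Mb)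
include S

theorem wS_le_mt : wS z a ≤ Mt := S.wS_le_r1.trans (Frame.r1_le_k0.trans S.k0_le_mt)

theorem z_mem_mt : z ∈ Mt := S.wS_le_mt S.z_mem_wS

theorem mt_inf_cz : Mt ⊓ centralizer ({z} : Set G) = k0 z a :=
  le_antisymm (fun _ hg => S.mem_k0_of_mt hg.1 hg.2)
    fun _ hg => ⟨S.k0_le_mt hg, (mem_k0.1 hg).1⟩

/-- Conjugation by a power of `d` moves any element of `W` to `z`. -/
theorem exists_move {w : G} (hw : w = z ∨ w = a ∨ w = a * z) :
    ∃ D ∈ Mt, D * w * D⁻¹ = z ∧ D * t = t * D := by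
  rcases hw with rfl | rfl | rfl
  · exact ⟨1, one_mem _, by simp, by simp⟩
  · refine ⟨d * d, mul_mem S.dMt S.dMt, ?_, (Commute.mul_left S.dt S.dt).eq⟩
    rw [show d * d * w * (d * d)⁻¹ = d * (d * w * d⁻¹) * d⁻¹ by group, S.da, S.cycle_az S.dz S.da]
  · exact ⟨d, S.dMt, S.cycle_az S.dz S.da, S.dt⟩

/-- A `2`-element normalizing a set meeting the class of `z` only in `W` fixes a member of `W`. -/
theorem exists_fixed {g : G} (hg : ∃ k : ℕ, g ^ 2 ^ k = 1)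
    (hW : ∀ w, w = z ∨ w = a ∨ w = a * z → g * w * g⁻¹ = z ∨ g * w * g⁻¹ = a ∨ g * w * g⁻¹ = a * z) :
    ∃ w, (w = z ∨ w = a ∨ w = a * z) ∧ g * w * g⁻¹ = w := by
  obtain ⟨a1, a2, -, -, -, -⟩ := S.ab_ne
  have hazc : a * z = z * a := S.zcomm_E S.ha
  have hcyc : ∀ u v w : G, g * u * g⁻¹ = v → g * v * g⁻¹ = w → g * w * g⁻¹ = u → g * u * g⁻¹ = u := by
    intro u v w h1 h2 h3
    obtain ⟨k, hk⟩ := hg
    have h : g ^ 3 * u * (g ^ 3)⁻¹ = u := by
      rw [show g ^ 3 * u * (g ^ 3)⁻¹ = g * (g * (g * u * g⁻¹) * g⁻¹) * g⁻¹ by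
        rw [pow_succ, pow_two]; group, h1, h2, h3]
    obtain ⟨n, hn⟩ := exists_pow_eq_self_of_coprime (x := g)
      (Nat.Coprime.coprime_dvd_right (orderOf_dvd_of_pow_eq_one hk)
        (Nat.Coprime.pow_right k (by norm_num : Nat.Coprime 3 2)))
    have := (Commute.pow_left (mul_inv_eq_iff_eq_mul.1 h) n : Commute ((g ^ 3) ^ n) u)
    rw [hn] at this
    exact mul_inv_eq_iff_eq_mul.2 this
  have hinj : ∀ u v, g * u * g⁻¹ = g * v * g⁻¹ → u = v := fun u v h =>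
    mul_left_cancel (mul_right_cancel h)
  have hz := hW z (Or.inl rfl)
  have ha := hW a (Or.inr (Or.inl rfl))
  have hm : g * (a * z) * g⁻¹ = g * a * g⁻¹ * (g * z * g⁻¹) := by group
  rcases hz with hz | hz | hz
  · exact ⟨z, Or.inl rfl, hz⟩
  · rcases ha with ha | ha | ha
    · refine ⟨a * z, Or.inr (Or.inr rfl), ?_⟩
      rw [hm, ha, hz]; exact hazc.symm
    · exact ⟨a, Or.inr (Or.inl rfl), ha⟩
    · refine ⟨z, Or.inl rfl, hcyc z a (a * z) hz ha ?_⟩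
      rw [hm, ha, hz, hazc, mul_assoc, S.aa, mul_one]
  · rcases ha with ha | ha | ha
    · refine ⟨z, Or.inl rfl, hcyc z (a * z) a hz ?_ ha⟩
      rw [hm, ha, hz, ← mul_assoc, ← hazc, S.zcancel]
    · exact ⟨a, Or.inr (Or.inl rfl), ha⟩
    · exact absurd (hinj a z (ha.trans hz.symm)) a2

end Halves

namespace Data

variable {z : G} {E : Subgroup G} {φ : ↥(cz z) →* Perm (Fin 4)} {x a b t d : G}
  {Mt Mb : Subgroup G} {m : G} (S : Data z E φ x a b t d Mt Mb m)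
include S

theorem not_conj_t_m' : ¬ IsConj t m := S.not_conj_t_m S.toSplit

theorem conj_m_mem {v : G} (hv : v ∈ r1 φ a) (hW : v ∉ wS z a) (h2 : v * v = 1) : IsConj m v := by
  obtain ⟨k, -, e⟩ := S.conj_in_k0 hv hW h2
  exact isConj_iff.2 ⟨k, e⟩

/-- The conjugates of `m` in `k0`. -/
theorem conj_m_k0 (hzm : ¬ IsConj z m) {v : G} (hv : v ∈ k0 z a) (hc : IsConj m v) :
    v ∈ r1 φ a ∧ v ∉ wS z a ∧ v * v = 1 := by
  obtain ⟨k, hk⟩ := isConj_iff.1 hc
  have ho := hk ▸ Invol.invol_conj S.orderOf_m k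
  have h2 := Invol.invol_mul_self ho
  obtain ⟨hvz, hva⟩ := mem_k0.1 hv
  refine ⟨?_, fun hW => hzm ((S.conj_z_w hW (Invol.invol_ne_one ho)).trans hc.symm), h2⟩
  by_cases hp : v ∈ par φ
  · exact mem_r1.2 ⟨S.invol_mem_rad hp h2, hva⟩
  · obtain ⟨k', -, e⟩ := S.outer_k0_conj_t hv hp h2
    exact absurd ((isConj_iff.2 ⟨k', e⟩ : IsConj t v).trans hc.symm) S.not_conj_t_m'

/-- Without fusion of `m` and `z`, the group `C_{R₁}(m)` is a Sylow subgroup of `C(m)` in `Mt`. -/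
theorem cm_sylow (hzm : ¬ IsConj z m) :
    (∃ o, ¬ 2 ∣ o ∧ Nat.card ↥(Mt ⊓ centralizer ({m} : Set G)) = 16 * o) ∧
      (∀ U : Subgroup G, U ≤ Mt ⊓ centralizer ({m} : Set G) → IsPGroup 2 U →
        ∃ k, ∀ s ∈ U, k * s * k⁻¹ ∈ aS φ a m) := by
  haveI : Fact (Nat.Prime 2) := ⟨Nat.prime_two⟩
  haveI := S.nt
  have hAK : aS φ a m ≤ Mt ⊓ centralizer ({m} : Set G) := fun g hg =>
    ⟨S.k0_le_mt (Frame.r1_le_k0 (mem_aS.1 hg).1), mem_centralizer_singleton_iff.2 (mem_aS.1 hg).2⟩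
  have h16 : Nat.card (aS φ a m) = 16 := S.toSplit.card_aS
  have hzW : ∀ v ∈ aS φ a m, IsConj z v → v = z ∨ v = a ∨ v = a * z := fun v hv hc => by
    obtain ⟨k, hk⟩ := isConj_iff.1 hc
    have h1 : v ≠ 1 := hk ▸ Invol.invol_ne_one (Invol.invol_conj S.hz k)
    by_cases hW : v ∈ wS z a
    · exact (S.mem_wS.1 hW).resolve_left h1
    · exact absurd (hc.trans (S.conj_m_mem (mem_aS.1 hv).1 hW (S.toSplit.aS_sq hv)).symm) hzm
  obtain ⟨⟨o, ho, hc⟩, h2⟩ := sylow_criterion (K := Mt ⊓ centralizer ({m} : Set G)) (T := aS φ a m)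
    hAK (IsPGroup.of_card (p := 2) (n := 4) (by rw [h16]; norm_num)) fun g hg hgp hn => by
    have hWn : ∀ w, w = z ∨ w = a ∨ w = a * z →
        g * w * g⁻¹ = z ∨ g * w * g⁻¹ = a ∨ g * w * g⁻¹ = a * z := by
      intro w hw
      have hwW : w ∈ wS z a := S.mem_wS.2 (Or.inr hw)
      have hw1 : w ≠ 1 := by
        obtain ⟨a1, a2, -, -, -, -⟩ := S.ab_ne
        rcases hw with e | e | e <;> rw [e]
        exacts [S.zne, a1, fun e => a2 ((eq_inv_of_mul_eq_one_left e).trans S.zinv)]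
      exact hzW _ (hn w (S.toSplit.wS_le_aS hwW))
        ((S.conj_z_w hwW hw1).trans (isConj_iff.2 ⟨g, rfl⟩))
    obtain ⟨w, hw, hfix⟩ := S.exists_fixed hgp hWn
    obtain ⟨D, hD, hDw, -⟩ := S.exists_move hw
    have hwW : w ∈ wS z a := S.mem_wS.2 (Or.inr hw)
    have move : ∀ k ∈ Mt, k * w = w * k → D * k * D⁻¹ ∈ k0 z a := fun k hk hkw => by
      refine S.mem_k0_of_mt (S.nt.conj_mem k hk D) (mem_cz.2 ?_)
      have h : Commute (D * k * D⁻¹) (D * w * D⁻¹) :=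
        Commute.map (hkw : Commute k w) (MulAut.conj D).toMonoidHom
      rw [hDw] at h
      exact h.eq
    set m' := D * m * D⁻¹ with hm'
    obtain ⟨r1', r2', r3'⟩ := S.conj_m_k0 hzm
      (move m S.m_mem_mt (S.wS_central (Frame.r1_le_k0 S.hm) hwW)) (isConj_iff.2 ⟨D, rfl⟩)
    have Sv : Split z E φ x a b m' := ⟨S.toFrame, r1', r3', r2'⟩
    have S' : Data z E φ x a b t d Mt Mb m' := ⟨S.toHalves, Sv.hm, Sv.mm, Sv.hmW⟩
    have hcomm : ∀ k, k * m = m * k → D * k * D⁻¹ * m' = m' * (D * k * D⁻¹) := fun k hk =>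
      (Commute.map (hk : Commute k m) (MulAut.conj D).toMonoidHom).eq
    have himg : (aS φ a m).map (MulAut.conj D).toMonoidHom =
        k0 z a ⊓ centralizer ({m'} : Set G) := by
      refine eq_of_le_of_card_ge ?_ ?_
      · rintro _ ⟨k, hk, rfl⟩
        exact ⟨move k (hAK hk).1 (S.wS_central (Frame.r1_le_k0 (mem_aS.1 hk).1) hwW),
          mem_centralizer_singleton_iff.2 (hcomm k (mem_aS.1 hk).2)⟩
      · rw [S'.card_k0_m, card_map_of_injective (MulEquiv.injective _), h16]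
    have hgm : D * g * D⁻¹ ∈ k0 z a ⊓ centralizer ({m'} : Set G) :=
      ⟨move g hg.1 (mul_inv_eq_iff_eq_mul.1 hfix),
        mem_centralizer_singleton_iff.2 (hcomm g (mem_centralizer_singleton_iff.1 hg.2))⟩
    rw [← himg] at hgm
    obtain ⟨k, hk, e⟩ := hgm
    rwa [← (MulAut.conj D).injective e]
  refine ⟨⟨o, ho, by rw [hc, h16]⟩, fun U hU hp => ?_⟩
  obtain ⟨k, -, hk⟩ := h2 U hU hp
  exact ⟨k, hk⟩

theorem no_t_comm_m (hzm : ¬ IsConj z m) {u : G} (hu : IsConj t u) (hc : u * m = m * u) : False := by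
  obtain ⟨g, hg⟩ := isConj_iff.1 hu
  have ho := hg ▸ Invol.invol_conj S.orderOf_t g
  have hum : u ∈ Mt := hg ▸ S.nt.conj_mem t S.tMt g
  obtain ⟨k, hk⟩ := (S.cm_sylow hzm).2 (zpowers u)
    (zpowers_le.2 ⟨hum, mem_centralizer_singleton_iff.2 hc⟩)
    (IsPGroup.of_card (n := 1) (by rw [Nat.card_zpowers, ho, pow_one]))
  exact S.no_t_in_r1 (mem_aS.1 (hk u (mem_zpowers u))).1 (hu.trans (isConj_iff.2 ⟨k, rfl⟩))

/-- The order formula in `Mt`. -/
theorem mt_formula [Decidable (IsConj z m)] :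
    Nat.card Mt = Nat.card ↥(Mt ⊓ centralizer ({t} : Set G)) * (if IsConj z m then 384 else 0) +
      384 * Nat.card {p : G × G // IsConj z p.1 ∧ IsConj t p.2 ∧ t ∈ zpowers (p.1 * p.2)} := by
  haveI := S.nt
  have hall : ∀ a' b' i : Mt, IsConj (⟨z, S.z_mem_mt⟩ : Mt) a' → IsConj (⟨t, S.tMt⟩ : Mt) b' →
      orderOf i = 2 → Commute i a' → Commute i b' →
      IsConj (⟨z, S.z_mem_mt⟩ : Mt) i ∨ IsConj (⟨t, S.tMt⟩ : Mt) i := by
    intro a' b' i ha hb hi _ hib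
    rw [isConj_iff_of_cover Mt S.z_mem_mt S.cover_z, isConj_iff_of_cover Mt S.tMt S.cover_t]
    have hio : orderOf (i : G) = 2 := (orderOf_injective Mt.subtype Mt.subtype_injective i).trans hi
    rcases S.mt_invol_cases i.2 hio with h | h | h
    · exact Or.inl h
    · exact Or.inr h
    · by_cases hzm : IsConj z m
      · exact Or.inl (hzm.trans h)
      exfalso
      obtain ⟨g, hg⟩ := isConj_iff.1 h
      refine S.no_t_comm_m hzm (((isConj_iff_of_cover Mt S.tMt S.cover_t b').1 hb).trans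
        (isConj_iff.2 ⟨g⁻¹, rfl⟩)) ?_
      have hib' : Commute (i : G) (b' : G) := congrArg Subtype.val hib
      have h1 : Commute (g⁻¹ * (b' : G) * g⁻¹⁻¹) (g⁻¹ * (i : G) * g⁻¹⁻¹) :=
        Commute.map hib'.symm (MulAut.conj g⁻¹).toMonoidHom
      rwa [← hg, show g⁻¹ * (g * m * g⁻¹) * g⁻¹⁻¹ = m by group] at h1
  have hzt : ¬ IsConj (⟨z, S.z_mem_mt⟩ : Mt) ⟨t, S.tMt⟩ := fun h =>
    S.not_conj_z_t ((isConj_iff_of_cover Mt S.z_mem_mt S.cover_z _).1 h)
  have hoz : orderOf (⟨z, S.z_mem_mt⟩ : Mt) = 2 := (orderOf_mk z _).trans S.hz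
  have hot : orderOf (⟨t, S.tMt⟩ : Mt) = 2 := (orderOf_mk t _).trans S.orderOf_t
  have key := class_pairs _ _ _ _ hoz hot hoz hot hzt hzt hall
  rw [card_pairs_sub Mt S.z_mem_mt S.tMt S.z_mem_mt S.cover_z S.cover_t,
    card_pairs_sub Mt S.z_mem_mt S.tMt S.tMt S.cover_z S.cover_t, S.card_nz] at key
  have k1 := card_class_sub Mt S.z_mem_mt
  have k2 := card_class_sub Mt S.tMt
  rw [S.mt_inf_cz, S.card_k0] at k1
  set Z := Nat.card {y : Mt // IsConj (⟨z, S.z_mem_mt⟩ : Mt) y}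
  set T := Nat.card {y : Mt // IsConj (⟨t, S.tMt⟩ : Mt) y}
  set Ct := Nat.card ↥(Mt ⊓ centralizer ({t} : Set G))
  set Nz := (if IsConj z m then 384 else 0)
  set Nt := Nat.card {p : G × G // IsConj z p.1 ∧ IsConj t p.2 ∧ t ∈ zpowers (p.1 * p.2)}
  set M := Nat.card Mt
  have hM : 0 < M := Nat.card_pos
  apply Nat.eq_of_mul_eq_mul_left hM
  calc M * M = (Z * 384) * (T * Ct) := by rw [k1, k2]
    _ = (Z * T) * (384 * Ct) := by ring
    _ = (Z * Nz + T * Nt) * (384 * Ct) := by rw [key]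
    _ = (Z * 384) * (Ct * Nz) + (T * Ct) * (384 * Nt) := by ring
    _ = M * (Ct * Nz + 384 * Nt) := by rw [k1, k2]; ring

/-- `C(m)` in `Mt` has order `624` when `m` is not fused to `z` and `|Mt| = 74880`. -/
theorem card_cm (hzm : ¬ IsConj z m) (hM : Nat.card Mt = 74880)
    (hC : Nat.card ↥(Mt ⊓ centralizer ({t} : Set G)) = 120) :
    Nat.card ↥(Mt ⊓ centralizer ({m} : Set G)) = 624 := by
  classical
  haveI := S.nt
  have hom : orderOf (⟨m, S.m_mem_mt⟩ : Mt) = 2 := (orderOf_mk m _).trans S.orderOf_m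
  have hot : orderOf (⟨t, S.tMt⟩ : Mt) = 2 := (orderOf_mk t _).trans S.orderOf_t
  have hoz : orderOf (⟨z, S.z_mem_mt⟩ : Mt) = 2 := (orderOf_mk z _).trans S.hz
  have hmt : ¬ IsConj (⟨m, S.m_mem_mt⟩ : Mt) ⟨t, S.tMt⟩ := fun h =>
    S.not_conj_t_m' ((isConj_iff_of_cover Mt S.m_mem_mt S.cover_m _).1 h).symm
  have hzt : ¬ IsConj (⟨z, S.z_mem_mt⟩ : Mt) ⟨t, S.tMt⟩ := fun h =>
    S.not_conj_z_t ((isConj_iff_of_cover Mt S.z_mem_mt S.cover_z _).1 h)
  have hall : ∀ a' b' i : Mt, IsConj (⟨m, S.m_mem_mt⟩ : Mt) a' → IsConj (⟨t, S.tMt⟩ : Mt) b' →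
      orderOf i = 2 → Commute i a' → Commute i b' →
      IsConj (⟨z, S.z_mem_mt⟩ : Mt) i ∨ IsConj (⟨t, S.tMt⟩ : Mt) i := by
    intro a' b' i _ hb hi _ hib
    rw [isConj_iff_of_cover Mt S.z_mem_mt S.cover_z, isConj_iff_of_cover Mt S.tMt S.cover_t]
    have hio : orderOf (i : G) = 2 := (orderOf_injective Mt.subtype Mt.subtype_injective i).trans hi
    rcases S.mt_invol_cases i.2 hio with h | h | h
    · exact Or.inl h
    · exact Or.inr h
    · exfalso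
      obtain ⟨g, hg⟩ := isConj_iff.1 h
      refine S.no_t_comm_m hzm (((isConj_iff_of_cover Mt S.tMt S.cover_t b').1 hb).trans
        (isConj_iff.2 ⟨g⁻¹, rfl⟩)) ?_
      have hib' : Commute (i : G) (b' : G) := congrArg Subtype.val hib
      have h1 : Commute (g⁻¹ * (b' : G) * g⁻¹⁻¹) (g⁻¹ * (i : G) * g⁻¹⁻¹) :=
        Commute.map hib'.symm (MulAut.conj g⁻¹).toMonoidHom
      rwa [← hg, show g⁻¹ * (g * m * g⁻¹) * g⁻¹⁻¹ = m by group] at h1
  have key := class_pairs _ _ _ _ hom hot hoz hot hmt hzt hall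
  rw [card_pairs_sub Mt S.m_mem_mt S.tMt S.z_mem_mt S.cover_m S.cover_t,
    card_pairs_sub Mt S.m_mem_mt S.tMt S.tMt S.cover_m S.cover_t] at key
  have hinverts : ∀ {v u w : G}, IsConj m v → IsConj t u → w ∈ zpowers (v * u) → orderOf w = 2 →
      v * w = w * v ∧ u * w = w * u := by
    intro v u w hv hu hw how
    obtain ⟨g, hg⟩ := isConj_iff.1 hv
    obtain ⟨g', hg'⟩ := isConj_iff.1 hu
    have hv2 := hg ▸ Invol.invol_conj S.orderOf_m g
    have hu2 := hg' ▸ Invol.invol_conj S.orderOf_t g'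
    obtain ⟨k, hk⟩ := mem_zpowers_iff.1 hw
    have h1 := Invol.conj_zpow_of_inverts (Invol.invol_conj_mul hv2 hu2) k
    have h2 := Invol.conj_zpow_of_inverts (Invol.invol_conj_mul' hv2 hu2) k
    rw [zpow_neg, hk, Invol.invol_inv how] at h1 h2
    exact ⟨mul_inv_eq_iff_eq_mul.1 h1, mul_inv_eq_iff_eq_mul.1 h2⟩
  have hN2 : Nat.card {p : G × G // IsConj m p.1 ∧ IsConj t p.2 ∧ t ∈ zpowers (p.1 * p.2)} = 0 := by
    rw [Nat.card_eq_zero]
    left
    refine ⟨fun ⟨⟨v, u⟩, h1, h2, h3⟩ => ?_⟩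
    obtain ⟨g, hg⟩ := isConj_iff.1 h1
    rcases S.ct_invol_cases (hg ▸ S.nt.conj_mem m S.m_mem_mt g) (hinverts h1 h2 h3 S.orderOf_t).1
      (hg ▸ Invol.invol_conj S.orderOf_m g) with h | h
    · exact hzm (h.trans h1.symm)
    · exact S.not_conj_t_m' (h.trans h1.symm)
  let V := {g | g ∈ r1 φ a ∧ g ∉ wS z a ∧ g * g = 1}
  have hmemV : ∀ {v u : G}, IsConj m v → IsConj t u → z ∈ zpowers (v * u) →
      v ∈ V ∧ u ∈ {u | u ∈ cz z ∧ IsConj t u} := by
    intro v u h1 h2 h3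
    obtain ⟨h4, h5⟩ := hinverts h1 h2 h3 S.hz
    obtain ⟨g, hg⟩ := isConj_iff.1 h1
    exact ⟨S.conj_m_k0 hzm (S.mem_k0_of_mt (hg ▸ S.nt.conj_mem m S.m_mem_mt g) (mem_cz.2 h4)) h1,
      mem_cz.2 h5, h2⟩
  let e : {p : G × G // IsConj m p.1 ∧ IsConj t p.2 ∧ z ∈ zpowers (p.1 * p.2)} ≃
      Σ v : V, {u // u ∈ {u | u ∈ {u | u ∈ cz z ∧ IsConj t u} ∧ z ∈ zpowers ((v : G) * u)}} :=
    { toFun := fun p => ⟨⟨p.1.1, (hmemV p.2.1 p.2.2.1 p.2.2.2).1⟩,
        ⟨p.1.2, (hmemV p.2.1 p.2.2.1 p.2.2.2).2, p.2.2.2⟩⟩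
      invFun := fun q => ⟨(q.1.1, q.2.1), S.conj_m_mem q.1.2.1 q.1.2.2.1 q.1.2.2.2,
        q.2.2.1.2, q.2.2.2⟩
      left_inv := fun _ => rfl
      right_inv := fun _ => rfl }
  haveI : Fintype V := Fintype.ofFinite _
  rw [hN2, Nat.card_congr e, Nat.card_sigma, Finset.sum_congr rfl (fun v _ =>
    (Nat.card_coe_set_eq _).trans (S.fibre_card ⟨S.toFrame, v.2.1, v.2.2.2, v.2.2.1⟩)),
    Finset.sum_const, Finset.card_univ, ← Nat.card_eq_fintype_card, Nat.card_coe_set_eq,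
    show V.ncard = 24 from S.class_ncard, smul_eq_mul, mul_zero, add_zero] at key
  have k1 := card_class_sub Mt S.z_mem_mt
  have k2 := card_class_sub Mt S.tMt
  have k3 := card_class_sub Mt S.m_mem_mt
  rw [S.mt_inf_cz, S.card_k0, hM] at k1
  rw [hC, hM] at k2
  rw [hM] at k3
  have hZ : Nat.card {y : Mt // IsConj (⟨z, S.z_mem_mt⟩ : Mt) y} = 195 := by omega
  have hT : Nat.card {y : Mt // IsConj (⟨t, S.tMt⟩ : Mt) y} = 624 := by omega
  rw [hZ, hT] at key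
  have hm' : Nat.card {y : Mt // IsConj (⟨m, S.m_mem_mt⟩ : Mt) y} = 120 := by omega
  rw [hm'] at k3
  omega

/-- `m` is fused to `z` unless `G` is solvable. -/
theorem fused_of_card (hM : Nat.card Mt = 74880)
    (hC : Nat.card ↥(Mt ⊓ centralizer ({t} : Set G)) = 120) : IsConj z m := by
  by_contra hzm
  haveI := S.nt
  haveI : Fact (Nat.Prime 13) := ⟨by norm_num⟩
  set K := Mt ⊓ centralizer ({m} : Set G) with hK
  have h624 : Nat.card K = 624 := S.card_cm hzm hM hC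
  obtain ⟨P⟩ : Nonempty (Sylow 13 K) := inferInstance
  have hP : Nat.card P = 13 := by
    rw [P.card_eq_multiplicity, h624,
      show (624 : ℕ) = 13 ^ 1 * 48 by norm_num, Nat.factorization_mul (by norm_num) (by norm_num),
      Finsupp.add_apply, Nat.Prime.factorization_pow (by norm_num), Finsupp.single_eq_same,
      Nat.factorization_eq_zero_of_not_dvd (by norm_num : ¬ 13 ∣ 48), add_zero, pow_one]
  have hn : Nat.card (Sylow 13 K) = 1 := by
    have h1 := P.card_dvd_index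
    have h2 : Nat.card (Sylow 13 K) % 13 = 1 := card_sylow_modEq_one 13 K
    have h3 : (P : Subgroup K).index = 48 := by
      have := (P : Subgroup K).card_mul_index
      rw [show Nat.card (P : Subgroup K) = 13 from hP, h624] at this
      omega
    rw [h3] at h1
    have h4 := Nat.le_of_dvd (by norm_num) h1
    interval_cases hh : Nat.card (Sylow 13 K) <;> simp_all
  haveI : Subsingleton (Sylow 13 K) := (Nat.card_eq_one_iff_unique.1 hn).1
  haveI hPn : (P : Subgroup K).Normal := Sylow.normal_of_subsingleton P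
  obtain ⟨p, hp⟩ := exists_prime_orderOf_dvd_card' (G := (P : Subgroup K)) 13 (dvd_of_eq hP.symm)
  have hpo : orderOf ((p : K) : G) = 13 := by
    rw [show orderOf ((p : K) : G) = orderOf (p : K) from
      orderOf_injective K.subtype K.subtype_injective _,
      show orderOf (p : K) = orderOf p from
        orderOf_injective (P : Subgroup K).subtype (Subgroup.subtype_injective _) _, hp]
  set q := ((p : K) : G) with hq
  have hqK : q ∈ K := (p : K).2
  -- elements of `W` invert or centralize `q`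
  have hpm : ∀ w, w = z ∨ w = a ∨ w = a * z → w * q * w⁻¹ = q ∨ w * q * w⁻¹ = q⁻¹ := by
    intro w hw
    have hwW : w ∈ wS z a := S.mem_wS.2 (Or.inr hw)
    have hwK : w ∈ K := ⟨S.wS_le_mt hwW, mem_centralizer_singleton_iff.2
      (S.wS_central (Frame.r1_le_k0 S.hm) hwW).symm⟩
    have hmem : (⟨w, hwK⟩ : K) * p * ⟨w, hwK⟩⁻¹ ∈ (P : Subgroup K) := hPn.conj_mem _ p.2 _
    have htop : zpowers p = ⊤ := eq_top_of_card_eq _ (by
      rw [Nat.card_zpowers, hp]; exact hP.symm)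
    obtain ⟨k, hk⟩ := mem_zpowers_iff.1 (htop.symm ▸ mem_top (⟨_, hmem⟩ : (P : Subgroup K)))
    have hk' : w * q * w⁻¹ = q ^ k := by
      have := congrArg (fun v : (P : Subgroup K) => ((v : K) : G)) hk.symm
      simpa using this
    have h2 : w * (w * q * w⁻¹) * w⁻¹ = q ^ (k * k) := by
      rw [hk', ← conj_zpow, hk', ← zpow_mul]
    rw [show w * (w * q * w⁻¹) * w⁻¹ = (w * w) * q * (w * w)⁻¹ by group, S.wS_sq hwW, one_mul,
      inv_one, mul_one] at h2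
    have h3 : (13 : ℤ) ∣ k * k - 1 := by
      have : q ^ (k * k - 1) = 1 := by rw [zpow_sub_one, ← h2, mul_inv_cancel]
      rwa [← orderOf_dvd_iff_zpow_eq_one, hpo] at this
    have h4 : (13 : ℤ) ∣ (k - 1) * (k + 1) := by
      rwa [show (k - 1) * (k + 1) = k * k - 1 by ring]
    rcases (Int.prime_iff_natAbs_prime.2 (by norm_num : Nat.Prime (13 : ℤ).natAbs)).dvd_or_dvd h4
      with h | h
    · left
      rw [hk']
      have : q ^ (k - 1) = 1 := by rw [← orderOf_dvd_iff_zpow_eq_one, hpo]; exact h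
      rw [zpow_sub_one, mul_inv_eq_one] at this
      exact this
    · right
      rw [hk']
      have : q ^ (k + 1) = 1 := by rw [← orderOf_dvd_iff_zpow_eq_one, hpo]; exact h
      rw [zpow_add_one] at this
      exact eq_inv_of_mul_eq_one_left this
  -- some element of `W` centralizes `q`
  obtain ⟨w, hw, hwq⟩ : ∃ w, (w = z ∨ w = a ∨ w = a * z) ∧ w * q * w⁻¹ = q := by
    rcases hpm z (Or.inl rfl) with h | h
    · exact ⟨z, Or.inl rfl, h⟩
    rcases hpm a (Or.inr (Or.inl rfl)) with h' | h'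
    · exact ⟨a, Or.inr (Or.inl rfl), h'⟩
    refine ⟨a * z, Or.inr (Or.inr rfl), ?_⟩
    rw [show a * z * q * (a * z)⁻¹ = a * (z * q * z⁻¹) * a⁻¹ by group, h, ← conj_inv, h', inv_inv]
  obtain ⟨D, hD, hDw, -⟩ := S.exists_move hw
  have hz' : D * q * D⁻¹ ∈ k0 z a := by
    refine S.mem_k0_of_mt (S.nt.conj_mem q hqK.1 D) (mem_cz.2 ?_)
    have h : Commute (D * q * D⁻¹) (D * w * D⁻¹) :=
      Commute.map ((mul_inv_eq_iff_eq_mul.1 hwq).symm : Commute q w) (MulAut.conj D).toMonoidHom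
    rw [hDw] at h
    exact h.eq
  have hdvd := (orderOf_mk (D * q * D⁻¹) hz') ▸ orderOf_dvd_natCard (⟨_, hz'⟩ : k0 z a)
  rw [S.card_k0, show D * q * D⁻¹ = MulAut.conj D q from rfl, MulEquiv.orderOf_eq, hpo] at hdvd
  norm_num at hdvd

/-- The order of `Mt` in a non-solvable group. -/
theorem mt_card (hns : ¬ Group.IsSolvable G) :
    IsConj z m ∧ Nat.card Mt = 120960 ∧ Nat.card ↥(Mt ⊓ centralizer ({t} : Set G)) = 120 ∧
      ∃ g ∈ closure {v : G | v * t = t * v ∧ IsConj z v}, g = d ∨ g = d * t := by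
  classical
  have hG : Nat.card G = Nat.card Mt * 2 := by rw [← S.it, Mt.card_mul_index]
  have hsol : ∀ i j : ℕ, Nat.card G = 2 ^ i * 3 ^ j → False := fun i j h => hns
    (Char.isSolvable_of_card_two_primes Nat.prime_two Nat.prime_three G i j h)
  have hf := S.mt_formula
  rcases S.ct_count with ⟨hC, hNt⟩ | ⟨⟨hC, hNt⟩, hg⟩
  · exfalso
    rw [hC, hNt] at hf
    split_ifs at hf
    · exact hsol 8 4 (by rw [hG, hf]; norm_num)
    · exact hsol 8 2 (by rw [hG, hf]; norm_num)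
  · rw [hC, hNt] at hf
    by_cases hzm : IsConj z m
    · rw [if_pos hzm] at hf
      exact ⟨hzm, by rw [hf], hC, hg⟩
    · rw [if_neg hzm] at hf
      exact absurd (S.fused_of_card (by rw [hf]) hC) hzm

end Data

end CfsgLib.AutL34
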