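import Cfsg.Agent.Lib.Invol.AutLThreeFour.Basic

/-!
# The preimages of the four-group and of `A₄`
-/

set_option autoImplicit false

open Subgroup Equiv

namespace CfsgLib.AutL34

/-- The normal four-group of `S₄`. -/
def v4 : Subgroup (Perm (Fin 4)) where
  carrier := {σ | σ * σ = 1 ∧ Perm.sign σ = 1}
  one_mem' := ⟨one_mul 1, Perm.sign.map_one⟩
  mul_mem' {a b} ha hb := by revert a b; decide +kernel
  inv_mem' {a} ha := by revert a; decide +kernel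

theorem mem_v4 {σ : Perm (Fin 4)} : σ ∈ v4 ↔ σ * σ = 1 ∧ Perm.sign σ = 1 := Iff.rfl

instance : DecidablePred (· ∈ v4) := fun _ => decidable_of_iff _ mem_v4.symm

theorem card_v4 : Nat.card v4 = 4 := by rw [Nat.card_eq_fintype_card]; decide +kernel

theorem v4_normal (σ : Perm (Fin 4)) : ∀ τ ∈ v4, σ * τ * σ⁻¹ ∈ v4 := by revert σ; decide +kernel

theorem v4_commutator : ∀ σ ∈ v4, ∀ τ ∈ v4, σ * τ * σ⁻¹ * τ⁻¹ = 1 := by decide +kernel

theorem v4_three : ∀ ρ : Perm (Fin 4), ρ ^ 3 = 1 → ρ ≠ 1 → ∀ σ ∈ v4,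
    σ * (ρ * σ * ρ⁻¹) * (ρ⁻¹ * σ * ρ) = 1 := by decide +kernel

theorem v4_fpf : ∀ ρ σ : Perm (Fin 4), ρ ^ 3 = 1 → ρ ≠ 1 → (σ * σ = 1 ∧ Perm.sign σ = 1) →
    ρ * σ * ρ⁻¹ * σ⁻¹ = 1 → σ = 1 := by decide +kernel

theorem alt_cases : ∀ ρ : Perm (Fin 4), ρ ^ 3 = 1 → ρ ≠ 1 → ∀ σ : Perm (Fin 4), Perm.sign σ = 1 →
    σ ∈ v4 ∨ σ * ρ ∈ v4 ∨ σ * ρ⁻¹ ∈ v4 := by decide +kernel

theorem odd_inverts : ∀ ρ : Perm (Fin 4), ρ ^ 3 = 1 → ρ ≠ 1 → ∀ σ : Perm (Fin 4),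
    Perm.sign σ ≠ 1 → σ * ρ * σ⁻¹ * ρ ∈ v4 := by decide +kernel

theorem three_even : ∀ ρ : Perm (Fin 4), ρ ^ 3 = 1 → ρ ≠ 1 → Perm.sign ρ = 1 ∧ ρ ∉ v4 := by decide +kernel

theorem sq_even : ∀ σ : Perm (Fin 4), Perm.sign (σ * σ) = 1 := by decide +kernel

theorem sq_invol : ∀ σ : Perm (Fin 4), (σ * σ) * (σ * σ) = 1 → σ * σ ∈ v4 := by decide +kernel

universe u

variable {G : Type u} [Group G] {z : G}

/-- The preimage `R` of the four-group. -/
def rad (φ : ↥(cz z) →* Perm (Fin 4)) : Subgroup G := (v4.comap φ).map (cz z).subtype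

/-- The preimage `P` of the alternating group. -/
def par (φ : ↥(cz z) →* Perm (Fin 4)) : Subgroup G :=
  ((alternatingGroup (Fin 4)).comap φ).map (cz z).subtype

variable {φ : ↥(cz z) →* Perm (Fin 4)}

theorem mem_rad {h : G} (hh : h ∈ cz z) : h ∈ rad φ ↔ φ ⟨h, hh⟩ ∈ v4 := by
  constructor
  · rintro ⟨k, hk, rfl⟩
    exact hk
  · exact fun hk => ⟨⟨h, hh⟩, hk, rfl⟩

theorem rad_le : rad φ ≤ cz z := map_subtype_le _

theorem mem_par {h : G} (hh : h ∈ cz z) : h ∈ par φ ↔ Perm.sign (φ ⟨h, hh⟩) = 1 := by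
  constructor
  · rintro ⟨k, hk, rfl⟩
    exact Perm.mem_alternatingGroup.1 hk
  · exact fun hk => ⟨⟨h, hh⟩, Perm.mem_alternatingGroup.2 hk, rfl⟩

theorem par_le : par φ ≤ cz z := map_subtype_le _

theorem rad_le_par : rad φ ≤ par φ := fun h hh =>
  (mem_par (rad_le hh)).2 ((mem_rad (rad_le hh)).1 hh).2

theorem rad_normal {h r : G} (hh : h ∈ cz z) (hr : r ∈ rad φ) : h * r * h⁻¹ ∈ rad φ :=
  (mem_rad (mul_mem (mul_mem hh (rad_le hr)) (inv_mem hh))).2 (by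
    have := v4_normal (φ ⟨h, hh⟩) _ ((mem_rad (rad_le hr)).1 hr)
    rw [← map_inv, ← map_mul, ← map_mul] at this
    exact this)

theorem par_normal {h r : G} (hh : h ∈ cz z) (hr : r ∈ par φ) : h * r * h⁻¹ ∈ par φ :=
  (mem_par (mul_mem (mul_mem hh (par_le hr)) (inv_mem hh))).2 (by
    have h1 := (mem_par (par_le hr)).1 hr
    have : Perm.sign (φ ⟨h, hh⟩ * φ ⟨r, par_le hr⟩ * (φ ⟨h, hh⟩)⁻¹) = 1 := by
      rw [map_mul, map_mul, h1, mul_one, map_inv, mul_inv_cancel]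
    rw [← map_inv, ← map_mul, ← map_mul] at this
    exact this)

theorem sq_mem_par {h : G} (hh : h ∈ cz z) : h * h ∈ par φ :=
  (mem_par (mul_mem hh hh)).2 (by
    have := sq_even (φ ⟨h, hh⟩); rw [← map_mul] at this; exact this)

theorem mul_mem_par_of_notMem {h k : G} (hh : h ∈ cz z) (hk : k ∈ cz z) (h1 : h ∉ par φ)
    (h2 : k ∉ par φ) : h * k ∈ par φ := by
  rw [mem_par hh] at h1
  rw [mem_par hk] at h2
  refine (mem_par (mul_mem hh hk)).2 ?_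
  have e1 := (Int.units_eq_one_or (Perm.sign (φ ⟨h, hh⟩))).resolve_left h1
  have e2 := (Int.units_eq_one_or (Perm.sign (φ ⟨k, hk⟩))).resolve_left h2
  show Perm.sign (φ (⟨h, hh⟩ * ⟨k, hk⟩)) = 1
  rw [map_mul, map_mul, e1, e2]
  decide

namespace Hyp

variable {E : Subgroup G} (S : Hyp z E φ)
include S

theorem E_le_rad : E ≤ rad φ := fun e he =>
  (mem_rad (S.hEH he)).2 (by rw [(S.ker ⟨e, S.hEH he⟩).2 he]; exact one_mem _)

theorem mem_E_iff {h : G} (hh : h ∈ cz z) : h ∈ E ↔ φ ⟨h, hh⟩ = 1 := (S.ker ⟨h, hh⟩).symm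

theorem card_rad [Finite G] : Nat.card (rad φ) = 128 := by
  rw [rad, card_map_of_injective (cz z).subtype_injective]
  have h1 := Subgroup.card_mul_index (v4.comap φ)
  have h2 : (v4.comap φ).index = 6 := by
    rw [index_comap_of_surjective _ S.surj]
    have h3 := Subgroup.card_mul_index v4
    rw [card_v4, Nat.card_perm, Nat.card_fin, show Nat.factorial 4 = 24 from rfl] at h3
    omega
  rw [h2, S.card_cz] at h1
  omega

theorem card_par [Finite G] : Nat.card (par φ) = 384 := by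
  rw [par, card_map_of_injective (cz z).subtype_injective]
  have h1 := Subgroup.card_mul_index ((alternatingGroup (Fin 4)).comap φ)
  rw [index_comap_of_surjective _ S.surj, alternatingGroup.index_eq_two, S.card_cz] at h1
  omega

theorem pgroup_rad [Finite G] : IsPGroup 2 (rad φ) :=
  IsPGroup.of_card (n := 7) (by rw [S.card_rad]; norm_num)

theorem rad_sq {r : G} (hr : r ∈ rad φ) : r * r ∈ E := by
  have h := (mem_rad (rad_le hr)).1 hr
  exact (S.mem_E_iff (mul_mem (rad_le hr) (rad_le hr))).2 (by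
    have := h.1; rw [← map_mul] at this; exact this)

theorem rad_comm {r s : G} (hr : r ∈ rad φ) (hs : s ∈ rad φ) : r * s * r⁻¹ * s⁻¹ ∈ E := by
  have h := v4_commutator _ ((mem_rad (rad_le hr)).1 hr) _ ((mem_rad (rad_le hs)).1 hs)
  rw [← map_inv, ← map_inv, ← map_mul, ← map_mul, ← map_mul] at h
  exact (S.ker _).1 h

theorem invol_mem_rad {u : G} (hu : u ∈ par φ) (hu2 : u * u = 1) : u ∈ rad φ :=
  (mem_rad (par_le hu)).2 ⟨by
    have e : (⟨u, par_le hu⟩ : cz z) * ⟨u, par_le hu⟩ = 1 := Subtype.ext hu2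
    rw [← map_mul, e, map_one], (mem_par (par_le hu)).1 hu⟩

theorem sq_invol_mem_rad {h : G} (hh : h ∈ cz z) (h2 : (h * h) * (h * h) = 1) : h * h ∈ rad φ :=
  S.invol_mem_rad (sq_mem_par hh) h2

theorem exists_three [Finite G] : ∃ x ∈ cz z, orderOf x = 3 := by
  haveI : Fact (Nat.Prime 3) := ⟨Nat.prime_three⟩
  obtain ⟨x, hx⟩ := exists_prime_orderOf_dvd_card' (G := cz z) 3 (by rw [S.card_cz]; norm_num)
  exact ⟨x, x.2, (Subgroup.orderOf_coe x).trans hx⟩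

variable {x : G} (hx : x ∈ cz z) (hx3 : orderOf x = 3)
include hx hx3

theorem phi_x_three : (φ ⟨x, hx⟩) ^ 3 = 1 ∧ φ ⟨x, hx⟩ ≠ 1 := by
  have e : (⟨x, hx⟩ : cz z) ^ 3 = 1 := Subtype.ext (hx3 ▸ pow_orderOf_eq_one x)
  refine ⟨by rw [← map_pow, e, map_one], fun h => ?_⟩
  obtain ⟨k, hk⟩ := S.pgroup_E ⟨x, (S.ker _).1 h⟩
  have h1 : x ^ (2 ^ k) = 1 := congrArg Subtype.val hk
  have h2 := orderOf_dvd_of_pow_eq_one h1
  rw [hx3] at h2
  exact absurd (Nat.prime_three.dvd_of_dvd_pow h2) (by norm_num)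

theorem x_mem_par : x ∈ par φ :=
  (mem_par hx).2 (three_even _ (S.phi_x_three hx hx3).1 (S.phi_x_three hx hx3).2).1

theorem x_notMem_rad : x ∉ rad φ := fun h =>
  (three_even _ (S.phi_x_three hx hx3).1 (S.phi_x_three hx hx3).2).2 ((mem_rad hx).1 h)

theorem rad_x_prod {r : G} (hr : r ∈ rad φ) : r * (x * r * x⁻¹) * (x⁻¹ * r * x) ∈ E := by
  have h := v4_three _ (S.phi_x_three hx hx3).1 (S.phi_x_three hx hx3).2 _ ((mem_rad (rad_le hr)).1 hr)
  rw [← map_inv, ← map_mul, ← map_mul, ← map_mul, ← map_mul, ← map_mul, ← map_mul] at h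
  exact (S.ker _).1 h

theorem rad_x_fpf {r : G} (hr : r ∈ rad φ) (h : x * r * x⁻¹ * r⁻¹ ∈ E) : r ∈ E := by
  have hrc := rad_le hr
  refine (S.mem_E_iff hrc).2 (v4_fpf _ _ (S.phi_x_three hx hx3).1 (S.phi_x_three hx hx3).2
    ((mem_rad hrc).1 hr) ?_)
  rw [← map_inv, ← map_inv, ← map_mul, ← map_mul, ← map_mul]
  exact (S.ker _).2 h

theorem par_cases {h : G} (hh : h ∈ par φ) :
    h ∈ rad φ ∨ h * x ∈ rad φ ∨ h * x⁻¹ ∈ rad φ := by
  rcases alt_cases _ (S.phi_x_three hx hx3).1 (S.phi_x_three hx hx3).2 _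
    ((mem_par (par_le hh)).1 hh) with c | c | c
  · exact Or.inl ((mem_rad (par_le hh)).2 c)
  · exact Or.inr (Or.inl ((mem_rad (mul_mem (par_le hh) hx)).2 (by rw [← map_mul] at c; exact c)))
  · exact Or.inr (Or.inr ((mem_rad (mul_mem (par_le hh) (inv_mem hx))).2
      (by rw [← map_inv, ← map_mul] at c; exact c)))

theorem inverts_x {h : G} (hh : h ∈ cz z) (hp : h ∉ par φ) : h * x * h⁻¹ * x ∈ rad φ := by
  rw [mem_par hh] at hp
  have c := odd_inverts _ (S.phi_x_three hx hx3).1 (S.phi_x_three hx hx3).2 _ hp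
  rw [← map_inv, ← map_mul, ← map_mul, ← map_mul] at c
  exact (mem_rad (mul_mem (mul_mem (mul_mem hh hx) (inv_mem hh)) hx)).2 c

end Hyp

end CfsgLib.AutL34
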