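import Cfsg.Agent.Lib.Invol.AutLThreeFour.Index

/-!
# The simple normal subgroup of order 20160
-/

set_option autoImplicit false

open Subgroup Equiv

namespace CfsgLib.AutL34

universe u

variable {G : Type u} [Group G]

/-- The subgroup of index three in `Mt ∩ Mb`. -/
structure Core (z : G) (E : Subgroup G) (φ : ↥(cz z) →* Perm (Fin 4)) (x a b t d : G)
    (Mt Mb : Subgroup G) (m : G) (L : Subgroup G) : Prop
    extends Data z E φ x a b t d Mt Mb m where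
  zm : IsConj z m
  le : L ≤ Mt ⊓ Mb
  norm : ∀ g ∈ Mt ⊓ Mb, ∀ l ∈ L, g * l * g⁻¹ ∈ L
  xL : x ∉ L
  cube : ∀ g ∈ Mt ⊓ Mb, g ^ 3 ∈ L
  cardG : Nat.card G = 241920
  cardL : Nat.card L = 20160
  cyc : ∃ g ∈ closure {v : G | v * t = t * v ∧ IsConj z v}, g = d ∨ g = d * t

theorem Data.exists_core [Finite G] {z : G} {E : Subgroup G} {φ : ↥(cz z) →* Perm (Fin 4)}
    {x a b t d : G} {Mt Mb : Subgroup G} {m : G} (S : Data z E φ x a b t d Mt Mb m)
    (hns : ¬ Group.IsSolvable G) : ∃ L, Core z E φ x a b t d Mt Mb m L := by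
  obtain ⟨hzm, hM, -, hg⟩ := S.mt_card hns
  have hY := S.card_y hzm hM
  have h1 := Mt.card_mul_index
  have h2 := Mb.card_mul_index
  rw [S.it, hM] at h1
  rw [S.ib] at h2
  have hMb : Nat.card Mb = 120960 := by omega
  obtain ⟨L, hle, hn, hx, h3, hc⟩ := S.exists_index_three hY hMb
  have h4 := S.card_g1
  exact ⟨L, S, hzm, hle, hn, hx, h3, by omega, by omega, hg⟩

namespace Core

variable {z : G} {E : Subgroup G} {φ : ↥(cz z) →* Perm (Fin 4)} {x a b t d : G}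
  {Mt Mb : Subgroup G} {m : G} {L : Subgroup G} (S : Core z E φ x a b t d Mt Mb m L) [Finite G]
include S

omit [Finite G] in
theorem two_mem {g : G} (hg : g ∈ Mt ⊓ Mb) {n : ℕ} (hn : g ^ 2 ^ n = 1) : g ∈ L := by
  obtain ⟨k, hk⟩ := exists_pow_eq_self_of_coprime (x := g)
    (Nat.Coprime.coprime_dvd_right (orderOf_dvd_of_pow_eq_one hn)
      (Nat.Coprime.pow_right n (by norm_num : Nat.Coprime 3 2)))
  rw [← hk]
  exact pow_mem (S.cube g hg) k

theorem r1_le : r1 φ a ≤ L := fun g hg => by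
  obtain ⟨n, hn⟩ := S.pgroup_rad ⟨g, (mem_r1.1 hg).1⟩
  exact S.two_mem (S.r1_le_g1 hg) (congrArg Subtype.val hn)

theorem wS_le : wS z a ≤ L := S.wS_le_r1.trans S.r1_le

theorem centralizer_z {g : G} (hg : g ∈ L) (hz : g * z = z * g) : g ∈ r1 φ a := by
  have hp := S.mem_par_of_mb (S.le hg).2 hz
  have hk := S.mem_k0_of_mt (S.le hg).1 (mem_cz.2 hz)
  obtain ⟨r, hr, h | h | h⟩ := S.par_k0_cases hk hp
  · exact h ▸ hr
  · exact absurd ((L.mul_mem_cancel_left (S.r1_le hr)).1 (h ▸ hg)) S.xL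
  · exact absurd (inv_mem ((L.mul_mem_cancel_left (S.r1_le hr)).1 (h ▸ hg))) (by simpa using S.xL)

theorem cover_g1 (g : G) : ∃ c, c * z = z * c ∧ g * c ∈ Mt ⊓ Mb := by
  haveI := S.nt
  haveI := S.nb
  have hbz : b * z = z * b := S.zcomm_E S.hb
  have htz : t * z = z * t := mem_cz.1 S.ht
  by_cases h : g ∈ Mt <;> by_cases h' : g ∈ Mb
  · exact ⟨1, by simp, by simpa using And.intro h h'⟩
  · refine ⟨t, htz, mul_mem h S.tMt, ?_⟩
    show g * t ∈ Mb
    rw [Subgroup.mul_mem_iff_of_index_two S.ib]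
    exact iff_of_false h' S.tMb
  · exact ⟨b, hbz, S.mt_iff.2 h, mul_mem h' S.bMb⟩
  · refine ⟨t * b, (Commute.mul_left htz hbz).eq, ?_, ?_⟩
    · rw [← mul_assoc]
      refine S.mt_iff.2 fun h1 => h ?_
      exact (Mt.mul_mem_cancel_right S.tMt).1 h1
    · rw [← mul_assoc]
      refine mul_mem ?_ S.bMb
      show g * t ∈ Mb
      rw [Subgroup.mul_mem_iff_of_index_two S.ib]
      exact iff_of_false h' S.tMb

theorem g1_decomp {g : G} (hg : g ∈ Mt ⊓ Mb) : ∃ l ∈ L, ∃ c, c * z = z * c ∧ g = l * c := by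
  have hxz : x * z = z * x := mem_cz.1 S.hx
  by_contra hn
  push Not at hn
  have hc : ∀ c, c * z = z * c → c ∈ Mt ⊓ Mb → g * c⁻¹ ∈ L → False := fun c h1 _ h2 =>
    hn _ h2 c h1 (by group)
  -- the cosets of `L` are represented by powers of `x`
  have hxG := S.x_mem_g1
  haveI hL : (L.subgroupOf (Mt ⊓ Mb)).Normal := ⟨fun l hl k => by
    rw [mem_subgroupOf] at hl ⊢
    exact S.norm _ k.2 _ hl⟩
  have hidx : (L.subgroupOf (Mt ⊓ Mb)).index = 3 := by
    have h := (L.subgroupOf (Mt ⊓ Mb)).card_mul_index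
    rw [Nat.card_congr (subgroupOfEquivOfLe S.le).toEquiv, S.cardL] at h
    have h4 := S.card_g1
    have h1 := Mb.card_mul_index
    rw [S.ib, S.cardG] at h1
    omega
  haveI : Fact (Nat.Prime 3) := ⟨Nat.prime_three⟩
  have htop : zpowers (QuotientGroup.mk (⟨x, hxG⟩ : ↥(Mt ⊓ Mb)) :
      ↥(Mt ⊓ Mb) ⧸ L.subgroupOf (Mt ⊓ Mb)) = ⊤ :=
    zpowers_eq_top_of_prime_card (p := 3) (by rw [← index_eq_card, hidx]) fun e =>
      S.xL (mem_subgroupOf.1 ((QuotientGroup.eq_one_iff _).1 e))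
  obtain ⟨k, hk⟩ := mem_zpowers_iff.1 (htop.symm ▸ mem_top
    (QuotientGroup.mk (⟨g, hg⟩ : ↥(Mt ⊓ Mb)) : ↥(Mt ⊓ Mb) ⧸ L.subgroupOf (Mt ⊓ Mb)))
  rw [← QuotientGroup.mk_zpow, eq_comm, QuotientGroup.eq_iff_div_mem, mem_subgroupOf,
    div_eq_mul_inv, coe_mul, coe_inv, coe_zpow] at hk
  exact hc _ (Commute.zpow_left hxz k).eq (zpow_mem hxG k) hk

/-- All involutions of `L` are conjugate in `L`. -/
theorem invol_conj_z {v : G} (hv : v ∈ L) (ho : orderOf v = 2) : ∃ l ∈ L, l * z * l⁻¹ = v := by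
  rcases S.mb_invol_cases S.zm (S.le hv).2 ho with h | h
  · obtain ⟨g, hg⟩ := isConj_iff.1 h
    obtain ⟨c, hc, hgc⟩ := S.cover_g1 g
    obtain ⟨l, hl, c', hc', e⟩ := S.g1_decomp hgc
    refine ⟨l, hl, ?_⟩
    have h1 : c * z * c⁻¹ = z := mul_inv_eq_iff_eq_mul.2 hc
    have h2 : c' * z * c'⁻¹ = z := mul_inv_eq_iff_eq_mul.2 hc'
    calc l * z * l⁻¹ = l * (c' * z * c'⁻¹) * l⁻¹ := by rw [h2]
      _ = l * c' * z * (l * c')⁻¹ := by group
      _ = g * c * z * (g * c)⁻¹ := by rw [e]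
      _ = g * (c * z * c⁻¹) * g⁻¹ := by group
      _ = v := by rw [h1, hg]
  · obtain ⟨g, hg⟩ := isConj_iff.1 h
    haveI := S.nt
    refine absurd ?_ S.bt
    have := S.nt.conj_mem v (S.le hv).1 g⁻¹
    rwa [← hg, show g⁻¹ * (g * b * g⁻¹) * g⁻¹⁻¹ = b by group] at this

theorem cit {v : G} (hv : v ∈ L) (ho : orderOf v = 2) :
    ∃ l ∈ L, ∀ g ∈ L, g * v = v * g → l⁻¹ * g * l ∈ r1 φ a := by
  obtain ⟨l, hl, e⟩ := S.invol_conj_z hv ho
  refine ⟨l, hl, fun g hg hc => S.centralizer_z (mul_mem (mul_mem (inv_mem hl) hg) hl) ?_⟩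
  have h : Commute (l⁻¹ * g * l⁻¹⁻¹) (l⁻¹ * v * l⁻¹⁻¹) :=
    Commute.map (hc : Commute g v) (MulAut.conj l⁻¹).toMonoidHom
  rw [inv_inv, ← e, show l⁻¹ * (l * z * l⁻¹) * l = z by group] at h
  exact h.eq

theorem cycle_mem {M : Subgroup G} (hM : ∀ v, v ∈ L → orderOf v = 2 → v ∈ M) :
    ∃ g ∈ M, g * z * g⁻¹ = a ∧ g * a * g⁻¹ = a * z := by
  haveI := S.nt
  haveI := S.nb
  obtain ⟨g, hg, hgd⟩ := S.cyc
  have hsub : closure {v : G | v * t = t * v ∧ IsConj z v} ≤ M := (closure_le _).2 fun v hv => by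
    obtain ⟨k, hk⟩ := isConj_iff.1 hv.2
    have ho := hk ▸ Invol.invol_conj S.hz k
    exact hM v (S.two_mem ⟨hk ▸ S.nt.conj_mem z S.z_mem_mt k, hk ▸ S.nb.conj_mem z S.z_mem_mb k⟩
      (n := 1) (by rw [pow_one, sq, Invol.invol_mul_self ho])) ho
  refine ⟨g, hsub hg, ?_⟩
  rcases hgd with rfl | rfl
  · exact ⟨S.dz, S.da⟩
  · have h1 : t * z * t⁻¹ = z := mul_inv_eq_iff_eq_mul.2 (mem_cz.1 S.ht)
    have h2 : t * a * t⁻¹ = a := mul_inv_eq_iff_eq_mul.2 S.ta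
    exact ⟨by rw [show d * t * z * (d * t)⁻¹ = d * (t * z * t⁻¹) * d⁻¹ by group, h1, S.dz],
      by rw [show d * t * a * (d * t)⁻¹ = d * (t * a * t⁻¹) * d⁻¹ by group, h2, S.da]⟩

/-- A non-trivial subgroup normalized by `L` contains `z`. -/
theorem z_mem {M : Subgroup G} (hML : M ≤ L) (hn : ∀ g ∈ L, ∀ k ∈ M, g * k * g⁻¹ ∈ M)
    (hne : M ≠ ⊥) : z ∈ M := by
  by_cases hev : Even (Nat.card M)
  · obtain ⟨v, hv, ho⟩ := Invol.exists_invol_mem hev
    obtain ⟨l, hl, e⟩ := S.invol_conj_z (hML hv) ho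
    have := hn l⁻¹ (inv_mem hl) v hv
    rwa [← e, show l⁻¹ * (l * z * l⁻¹) * l⁻¹⁻¹ = z by group] at this
  refine absurd ?_ hne
  obtain ⟨a1, a2, -, -, -, -⟩ := S.ab_ne
  have haz1 : a * z ≠ 1 := fun e => a2 ((eq_inv_of_mul_eq_one_left e).trans S.zinv)
  have hW : ∀ w ∈ ({z, a, z * a} : Set G), w ∈ wS z a ∧ w ≠ 1 := by
    rintro w (e | e | e) <;> rw [e]
    · exact ⟨S.z_mem_wS, S.zne⟩
    · exact ⟨S.a_mem_wS, a1⟩
    · rw [← S.zcomm_E S.ha]; exact ⟨S.az_mem_wS, haz1⟩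
  have hao : orderOf a = 2 := Invol.invol_iff.2 ⟨S.aa, a1⟩
  refine EqConj.eq_bot_of_four_fpf (Nat.not_even_iff_odd.1 hev) S.hz hao (fun e => a2 e.symm)
    (S.zcomm_E S.ha).symm (fun w hw k hk => hn w (S.wS_le (hW w hw).1) k hk) ?_
  intro w hw k hk hwk
  have hwo : orderOf w = 2 := Invol.invol_iff.2 ⟨S.wS_sq (hW w hw).1, (hW w hw).2⟩
  obtain ⟨l, hl, hcit⟩ := S.cit (S.wS_le (hW w hw).1) hwo
  have h1 := hcit k (hML hk) hwk.symm
  obtain ⟨n, hn'⟩ := S.pgroup_rad ⟨_, (mem_r1.1 h1).1⟩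
  have h2 : k ^ 2 ^ n = 1 := by
    have h3 : (l⁻¹ * k * l⁻¹⁻¹) ^ 2 ^ n = 1 := by
      rw [inv_inv]; exact congrArg Subtype.val hn'
    rw [conj_pow, inv_inv] at h3
    calc k ^ 2 ^ n = l * (l⁻¹ * k ^ 2 ^ n * l) * l⁻¹ := by group
      _ = 1 := by rw [h3]; simp
  have h4 := Nat.eq_one_of_dvd_coprimes (a := 2 ^ n) (b := Nat.card M)
    (Nat.Coprime.pow_left n (Nat.coprime_two_left.2 (Nat.not_even_iff_odd.1 hev)))
    (orderOf_dvd_of_pow_eq_one h2) (by simpa using orderOf_dvd_natCard (⟨k, hk⟩ : M))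
  exact orderOf_eq_one_iff.1 h4

theorem r1_le_of_invol {M : Subgroup G} (hM : ∀ v, v ∈ L → orderOf v = 2 → v ∈ M) : r1 φ a ≤ M := by
  have key : ∀ n, Split z E φ x a b n → aS φ a n ≤ M := fun n Sn g hg => by
    by_cases h1 : g = 1
    · rw [h1]; exact one_mem _
    · exact hM g (S.r1_le (mem_aS.1 hg).1) (Invol.invol_iff.2 ⟨Sn.aS_sq hg, h1⟩)
  set A := aS φ a m with hA
  set B := aS φ a (b * m * b) with hB
  have hAR : A ≤ r1 φ a := fun g hg => (mem_aS.1 hg).1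
  have hBR : B ≤ r1 φ a := fun g hg => (mem_aS.1 hg).1
  have hle : A ⊔ B ≤ r1 φ a := sup_le hAR hBR
  have hA16 : Nat.card A = 16 := S.toSplit.card_aS
  have hB16 : Nat.card B = 16 := S.toSplit.split_n.card_aS
  have hint : Nat.card ↥(B ⊓ A) ≤ 4 := S.card_wS ▸ card_le_of_le fun g hg =>
    S.toSplit.inter_eq hg.2 hg.1
  have h1 := B.relIndex_le_of_le_right (le_sup_left : A ≤ A ⊔ B) (by
    rw [relIndex]; exact Subgroup.index_ne_zero_of_finite)
  rw [← inf_relIndex_right] at h1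
  have h2 : ((B ⊓ A).subgroupOf A).index * Nat.card ↥(B ⊓ A) = 16 := by
    rw [← hA16, ← ((B ⊓ A).subgroupOf A).card_mul_index,
      Nat.card_congr (subgroupOfEquivOfLe (inf_le_right : B ⊓ A ≤ A)).toEquiv, mul_comm]
  have h3 : (B.subgroupOf (A ⊔ B)).index * 16 = Nat.card ↥(A ⊔ B) := by
    rw [← hB16, ← (B.subgroupOf (A ⊔ B)).card_mul_index,
      Nat.card_congr (subgroupOfEquivOfLe (le_sup_right : B ≤ A ⊔ B)).toEquiv, mul_comm]
  rw [relIndex, relIndex] at h1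
  have h4 : ((B ⊓ A).subgroupOf A).index ≥ 4 := by
    by_contra hlt
    have := Nat.mul_le_mul (show ((B ⊓ A).subgroupOf A).index ≤ 3 by omega) hint
    rw [h2] at this
    omega
  have h64 : r1 φ a = A ⊔ B := (eq_of_le_of_card_ge hle (by rw [S.card_r1]; omega)).symm
  rw [h64]
  exact sup_le (key m S.toSplit) (key _ S.toSplit.split_n)

/-- A non-central involution of `R₁`. -/
theorem central_r1 {v : G} (hv : v ∈ r1 φ a) (h2 : v * v = 1)
    (hc : ∀ r ∈ r1 φ a, r * v = v * r) : v ∈ wS z a := by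
  by_contra hW
  have Sv : Split z E φ x a b v := ⟨S.toFrame, hv, h2, hW⟩
  refine S.zne ?_
  rw [← Sv.cm_m_n.1]
  simp only [cm]
  rw [(hc _ Sv.n_mem).symm]; group

/-- `L` is simple. -/
theorem eq_of_normal {M : Subgroup G} (hML : M ≤ L) (hn : ∀ g ∈ L, ∀ k ∈ M, g * k * g⁻¹ ∈ M)
    (hne : M ≠ ⊥) : M = L := by
  have hz := S.z_mem hML hn hne
  have hinv : ∀ v, v ∈ L → orderOf v = 2 → v ∈ M := fun v hv ho => by
    obtain ⟨l, hl, e⟩ := S.invol_conj_z hv ho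
    exact e ▸ hn l hl z hz
  have hR := S.r1_le_of_invol hinv
  obtain ⟨g, hg, g1, g2⟩ := S.cycle_mem hinv
  haveI : Fact (Nat.Prime 2) := ⟨Nat.prime_two⟩
  obtain ⟨a1, a2, -, -, -, -⟩ := S.ab_ne
  -- conjugation fixing `R₁` permutes `W`
  have hperm : ∀ u ∈ L, (∀ r ∈ r1 φ a, u * r * u⁻¹ ∈ r1 φ a) →
      ∀ w, w = z ∨ w = a ∨ w = a * z →
        u * w * u⁻¹ = z ∨ u * w * u⁻¹ = a ∨ u * w * u⁻¹ = a * z := by
    intro u _ hu w hw
    have hwW : w ∈ wS z a := S.mem_wS.2 (Or.inr hw)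
    have hw1 : w ≠ 1 := by
      rcases hw with e | e | e <;> rw [e]
      exacts [S.zne, a1, fun e' => a2 ((eq_inv_of_mul_eq_one_left e').trans S.zinv)]
    have hmem := hu w (S.wS_le_r1 hwW)
    have hR' : (r1 φ a).map (MulAut.conj u).toMonoidHom = r1 φ a := eq_of_le_of_card_ge
      (by rintro _ ⟨r, hr, rfl⟩; exact hu r hr)
      (le_of_eq (card_map_of_injective (MulEquiv.injective _)).symm)
    refine (S.mem_wS.1 (S.central_r1 hmem ?_ ?_)).resolve_left fun e => hw1 (conj_eq_one_iff.1 e)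
    · rw [show u * w * u⁻¹ * (u * w * u⁻¹) = u * (w * w) * u⁻¹ by group, S.wS_sq hwW]; simp
    · intro r hr
      obtain ⟨r', hr', rfl⟩ := hR'.symm ▸ hr
      exact (Commute.map (S.wS_central (Frame.r1_le_k0 hr') hwW : Commute r' w)
        (MulAut.conj u).toMonoidHom).eq
  refine le_antisymm hML fun l hl => ?_
  obtain ⟨-, h2⟩ := sylow_criterion (K := M) (T := r1 φ a) hR
    (IsPGroup.of_card (p := 2) (n := 6) (by rw [S.card_r1]; norm_num)) fun u hu hup hun => by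
      obtain ⟨w, hw, hfix⟩ := S.exists_fixed hup (hperm u (hML hu) hun)
      rcases hw with rfl | hw
      · exact S.centralizer_z (hML hu) (conj_iff_comm.1 hfix)
      -- move `w` to `z`
      obtain ⟨D, hD, hDw, hDR⟩ : ∃ D ∈ L, D * w * D⁻¹ = z ∧ ∀ r ∈ r1 φ a, D * r * D⁻¹ ∈ r1 φ a := by
        have key : ∀ D ∈ L, D * w * D⁻¹ = z → ∀ r ∈ r1 φ a, D * r * D⁻¹ ∈ r1 φ a := by
          intro D hD hDw r hr
          refine S.centralizer_z (mul_mem (mul_mem hD (S.r1_le hr)) (inv_mem hD)) ?_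
          have h : Commute (D * r * D⁻¹) (D * w * D⁻¹) :=
            Commute.map (S.wS_central (Frame.r1_le_k0 hr) (S.mem_wS.2 (Or.inr (Or.inr hw))) :
              Commute r w) (MulAut.conj D).toMonoidHom
          rw [hDw] at h
          exact h.eq
        rcases hw with rfl | rfl
        · have : g * g * w * (g * g)⁻¹ = z := by
            rw [show g * g * w * (g * g)⁻¹ = g * (g * w * g⁻¹) * g⁻¹ by group, g2,
              S.cycle_az g1 g2]
          exact ⟨g * g, mul_mem (hML hg) (hML hg), this, key _ (mul_mem (hML hg) (hML hg)) this⟩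
        · exact ⟨g, hML hg, S.cycle_az g1 g2, key _ (hML hg) (S.cycle_az g1 g2)⟩
      have hR' : (r1 φ a).map (MulAut.conj D).toMonoidHom = r1 φ a := eq_of_le_of_card_ge
        (by rintro _ ⟨r, hr, rfl⟩; exact hDR r hr)
        (le_of_eq (card_map_of_injective (MulEquiv.injective _)).symm)
      have hu' : D * u * D⁻¹ ∈ r1 φ a := by
        refine S.centralizer_z (mul_mem (mul_mem hD (hML hu)) (inv_mem hD)) ?_
        have h : Commute (D * u * D⁻¹) (D * w * D⁻¹) :=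
          Commute.map (conj_iff_comm.1 hfix : Commute u w) (MulAut.conj D).toMonoidHom
        rw [hDw] at h
        exact h.eq
      obtain ⟨r, hr, e⟩ := hR'.symm ▸ hu'
      rwa [← (MulAut.conj D).injective e]
  obtain ⟨k, hk, hks⟩ := h2 ((r1 φ a).map (MulAut.conj l).toMonoidHom)
    (by rintro _ ⟨r, hr, rfl⟩; exact hn l hl r (hR hr))
    ((IsPGroup.of_card (p := 2) (n := 6) (by rw [S.card_r1]; norm_num)).map _)
  set u := k * l with hu
  have huR : ∀ r ∈ r1 φ a, u * r * u⁻¹ ∈ r1 φ a := fun r hr => by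
    have := hks _ ⟨r, hr, rfl⟩
    simp only [MulEquiv.coe_toMonoidHom, MulAut.conj_apply] at this
    rwa [show k * (l * r * l⁻¹) * k⁻¹ = u * r * u⁻¹ by rw [hu]; group] at this
  have huL : u ∈ L := mul_mem (hML hk) hl
  have key : ∀ D ∈ M, D * u * z * (D * u)⁻¹ = z → l ∈ M := fun D hD h => by
    have h1 := hR (S.centralizer_z (mul_mem (hML hD) huL) (conj_iff_comm.1 h))
    rw [hu] at h1
    exact (M.mul_mem_cancel_left hk).1 ((M.mul_mem_cancel_left hD).1 h1)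
  rcases hperm u huL huR z (Or.inl rfl) with e | e | e
  · exact key 1 (one_mem _) (by rw [one_mul]; exact e)
  · exact key (g * g) (mul_mem hg hg) (by
      rw [show g * g * u * z * (g * g * u)⁻¹ = g * (g * (u * z * u⁻¹) * g⁻¹) * g⁻¹ by group, e, g2,
        S.cycle_az g1 g2])
  · exact key g hg (by
      rw [show g * u * z * (g * u)⁻¹ = g * (u * z * u⁻¹) * g⁻¹ by group, e, S.cycle_az g1 g2])

theorem simple : IsSimpleGroup L := by
  haveI : Nontrivial L := ⟨⟨⟨z, S.wS_le S.z_mem_wS⟩, 1, fun e => S.zne (congrArg Subtype.val e)⟩⟩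
  refine ⟨fun M hM => ?_⟩
  by_cases h : M = ⊥
  · exact Or.inl h
  refine Or.inr ?_
  have := S.eq_of_normal (M := M.map L.subtype) (map_subtype_le _)
    (fun g hg k hk => by
      obtain ⟨k', hk', rfl⟩ := hk
      exact ⟨⟨g, hg⟩ * k' * ⟨g, hg⟩⁻¹, hM.conj_mem _ hk' _, rfl⟩)
    (fun e => h (map_eq_bot_iff_of_injective M L.subtype_injective |>.1 e))
  refine map_injective L.subtype_injective (this.trans ?_)
  rw [← MonoidHom.range_eq_map, range_subtype]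

theorem not_comm : ∃ p q : L, p * q ≠ q * p := by
  refine ⟨⟨m, S.r1_le S.hm⟩, ⟨b * m * b, S.r1_le S.toSplit.n_mem⟩, fun e => S.zne ?_⟩
  have e' : m * (b * m * b) = b * m * b * m := congrArg Subtype.val e
  rw [← S.toSplit.cm_m_n.1]
  simp only [cm]
  rw [e']; group

theorem isPGroup_cit (v : L) (hv : orderOf v = 2) :
    IsPGroup 2 (centralizer ({v} : Set L)) := by
  intro k
  obtain ⟨l, hl, h⟩ := S.cit v.2 ((orderOf_coe v).trans hv)
  have h1 := h _ (k : L).2 (congrArg Subtype.val (mem_centralizer_singleton_iff.1 k.2))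
  obtain ⟨n, hn⟩ := S.pgroup_rad ⟨_, (mem_r1.1 h1).1⟩
  refine ⟨n, Subtype.ext (Subtype.ext ?_)⟩
  have h3 : (l⁻¹ * ((k : L) : G) * l⁻¹⁻¹) ^ 2 ^ n = 1 := by
    rw [inv_inv]; exact congrArg Subtype.val hn
  rw [conj_pow, inv_inv] at h3
  calc ((k : L) : G) ^ 2 ^ n = l * (l⁻¹ * ((k : L) : G) ^ 2 ^ n * l) * l⁻¹ := by group
    _ = 1 := by rw [h3]; simp

/-- `L` is normal in `G`. -/
theorem normal : L.Normal := by
  haveI := S.nt
  haveI := S.nb
  set C := closure {i : G | i ∈ Mt ⊓ Mb ∧ orderOf i = 2} with hC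
  have hCL : C ≤ L := (closure_le _).2 fun i hi =>
    S.two_mem hi.1 (n := 1) (by rw [pow_one, sq, Invol.invol_mul_self hi.2])
  have hCn : ∀ g : G, ∀ c ∈ C, g * c * g⁻¹ ∈ C := fun g => by
    suffices C ≤ C.comap (MulAut.conj g).toMonoidHom from this
    refine (closure_le _).2 fun i hi => subset_closure ?_
    exact ⟨⟨S.nt.conj_mem i hi.1.1 g, S.nb.conj_mem i hi.1.2 g⟩, Invol.invol_conj hi.2 g⟩
  have heq : C = L := S.eq_of_normal hCL (fun g _ => hCn g) fun e => S.zne (by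
    have hzC : z ∈ C := subset_closure ⟨⟨S.z_mem_mt, S.z_mem_mb⟩, S.hz⟩
    rw [e] at hzC
    exact mem_bot.1 hzC)
  rw [← heq]
  exact ⟨fun c hc g => hCn g c hc⟩

/-- The centralizer of `L` is trivial. -/
theorem centralizer_eq_bot {c : G} (hc : ∀ l ∈ L, c * l = l * c) : c = 1 := by
  haveI := S.nt
  haveI := S.nb
  have hck : c ∈ k0 z a := mem_k0.2 ⟨mem_cz.2 (hc z (S.wS_le S.z_mem_wS)), hc a (S.wS_le S.a_mem_wS)⟩
  have hcR : ∀ r ∈ r1 φ a, c * r = r * c := fun r hr => hc r (S.r1_le hr)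
  by_cases hp : c ∈ par φ
  · haveI := S.simple
    obtain ⟨r, hr, hcase⟩ := S.par_k0_cases hck hp
    have hno : ∀ y : G, c = r * y → (∀ q, y * q * y⁻¹ * q⁻¹ ∈ wS z a → q ∈ r1 φ a → q ∈ wS z a) →
        False := by
      intro y hy hfp
      refine S.hmW (hfp m ?_ S.hm)
      have h1 : c * m * c⁻¹ = m := mul_inv_eq_iff_eq_mul.2 (hcR m S.hm)
      have e1 : y * m * y⁻¹ * m⁻¹ = cm r⁻¹ m := by
        rw [show y = r⁻¹ * c by rw [hy]; group]
        simp only [cm]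
        rw [show r⁻¹ * c * m * (r⁻¹ * c)⁻¹ = r⁻¹ * (c * m * c⁻¹) * r by group, h1]; group
      rw [e1]
      exact S.cm_r1 (inv_mem hr) S.hm
    have hcL : c ∈ L := by
      rcases hcase with e | e | e
      · exact e ▸ S.r1_le hr
      · exact (hno x e fun q h hq => S.r1_x_fpf hq h).elim
      · refine (hno x⁻¹ e fun q h hq => S.r1_x_fpf hq ?_).elim
        rw [inv_inv] at h
        have h1 := S.wS_normal S.hx h
        rw [show x * (x⁻¹ * q * x * q⁻¹) * x⁻¹ = q * (x * q⁻¹ * x⁻¹) by group] at h1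
        have h2 := inv_mem h1
        rwa [show (q * (x * q⁻¹ * x⁻¹))⁻¹ = x * q * x⁻¹ * q⁻¹ by group] at h2
    have hctr : (⟨c, hcL⟩ : L) ∈ center L :=
      Subgroup.mem_center_iff.2 fun l => Subtype.ext (hc l l.2).symm
    rcases (inferInstance : (center L).Normal).eq_bot_or_eq_top with e | e
    · rw [e, mem_bot] at hctr
      exact congrArg Subtype.val hctr
    · obtain ⟨p, q, hpq⟩ := S.not_comm
      exact absurd ((Subgroup.mem_center_iff.1 (e ▸ mem_top q)) p) hpq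
  · refine (S.toSplit.no_norm_a hck hp ?_).elim
    rw [mul_inv_eq_iff_eq_mul.2 (hcR m S.hm)]
    exact S.toSplit.m_mem_aS

end Core

end CfsgLib.AutL34
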