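import Cfsg.Agent.Lib.Invol.AutLThreeFour.Local

/-!
# The two elementary subgroups of order 16 of `R₁`, given an involution outside `W`
-/

set_option autoImplicit false

open Subgroup

namespace CfsgLib.AutL34

universe u

variable {G : Type u} [Group G]

/-- Distinct members of a subgroup, as many as its order, exhaust it. -/
theorem mem_list_of_card [Finite G] {K : Subgroup G} (s : List G) (hs : ∀ g ∈ s, g ∈ K)
    (hd : s.Nodup) (hc : Nat.card K ≤ s.length) {g : G} (hg : g ∈ K) : g ∈ s := by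
  classical
  by_contra h
  have := length_le_card (K := K) (g :: s) (by
    simp only [List.mem_cons]
    rintro c (rfl | hc'); exacts [hg, hs c hc']) (List.nodup_cons.2 ⟨h, hd⟩)
  simp only [List.length_cons] at this
  omega

theorem cm_conj_map (h r s : G) : h * cm r s * h⁻¹ = cm (h * r * h⁻¹) (h * s * h⁻¹) := by
  simp only [cm]; group

/-- A frame with an involution `m` of `R₁` outside `W`. -/
structure Split (z : G) (E : Subgroup G) (φ : ↥(cz z) →* Equiv.Perm (Fin 4)) (x a b m : G) : Prop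
    extends Frame z E φ x a b where
  hm : m ∈ r1 φ a
  mm : m * m = 1
  hmW : m ∉ wS z a

/-- The elementary subgroup of order 16 containing `m`. -/
def aS {z : G} (φ : ↥(cz z) →* Equiv.Perm (Fin 4)) (a m : G) : Subgroup G :=
  r1 φ a ⊓ centralizer ({m} : Set G)

theorem mem_aS {z : G} {φ : ↥(cz z) →* Equiv.Perm (Fin 4)} {a m g : G} :
    g ∈ aS φ a m ↔ g ∈ r1 φ a ∧ g * m = m * g := by
  simp [aS, mem_inf, mem_centralizer_singleton_iff]

namespace Frame

variable {z : G} {E : Subgroup G} {φ : ↥(cz z) →* Equiv.Perm (Fin 4)} {x a b : G}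
  (S : Frame z E φ x a b) [Finite G]
include S

theorem qE_cases {q p : G} (hq : q ∈ qE E a b) (h1 : q ≠ 1) (hz : q ≠ z) (hp : p ∈ qE E a b) :
    p = 1 ∨ p = z ∨ p * q⁻¹ ∈ wS z a ∨ p * (x * q * x⁻¹)⁻¹ ∈ wS z a ∨
      p * (x⁻¹ * q * x)⁻¹ ∈ wS z a := by
  set q' := x * q * x⁻¹ with hq'
  set q'' := x⁻¹ * q * x with hq''
  have hq'm : q' ∈ qE E a b := S.qE_conj S.hx S.ax S.bx hq
  have e3 : x * x * x = 1 := by rw [← S.x_cube S.hx S.hx3, pow_succ, sq]
  have hqq : x * q' * x⁻¹ = q'' := by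
    calc x * q' * x⁻¹ = x⁻¹ * ((x * x * x) * q * (x * x * x)⁻¹) * x := by rw [hq']; group
      _ = q'' := by rw [e3, hq'']; group
  have hq''m : q'' ∈ qE E a b := hqq ▸ S.qE_conj S.hx S.ax S.bx hq'm
  obtain ⟨n1, n2⟩ := S.qE_moved S.hx S.hx3 S.ad S.bd S.ab hq h1 hz
  have hq'1 : q' ≠ 1 := fun e => h1 (conj_eq_one_iff.1 e)
  have hcz : x⁻¹ * z * x = z := by rw [mul_assoc, ← S.zcomm S.hx, ← mul_assoc, inv_mul_cancel, one_mul]
  have hq'z : q' ≠ z := fun e => hz (by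
    calc q = x⁻¹ * q' * x := by rw [hq']; group
      _ = z := by rw [e, hcz])
  obtain ⟨m1, m2⟩ := S.qE_moved S.hx S.hx3 S.ad S.bd S.ab hq'm hq'1 hq'z
  rw [hqq] at m1 m2
  have hq''1 : q'' ≠ 1 := fun e => h1 (by
    calc q = x * q'' * x⁻¹ := by rw [hq'']; group
      _ = 1 := by rw [e]; simp)
  have hq''z : q'' ≠ z := fun e => hz (by
    calc q = x * q'' * x⁻¹ := by rw [hq'']; group
      _ = z := by rw [e, S.conj_z S.hx])
  have hne : q'' ≠ q ∧ q'' ≠ q * z := by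
    refine ⟨fun e => n1 ?_, fun e => n2 ?_⟩
    · calc q' = x * q'' * x⁻¹ := by rw [e]
        _ = q := by rw [hq'']; group
    · have e2 : x * q'' * x⁻¹ = q := by rw [hq'']; group
      rw [e, S.conj_mul_z S.hx] at e2
      show q' = q * z
      conv_rhs => rw [← e2]
      rw [S.zcancel]
  have hsw : ∀ {u v : G}, u = v * z → v = u * z := fun e => by rw [e, S.zcancel]
  have hz1 : ∀ {u : G}, u ≠ 1 → u ≠ z → u * z ≠ 1 ∧ u * z ≠ z := fun hu hu' =>
    ⟨fun e => hu' ((eq_inv_of_mul_eq_one_left e).trans S.zinv), fun e => hu (mul_eq_right.1 e)⟩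
  have hl := mem_list_of_card (K := qE E a b)
    [1, z, q, q * z, q', q' * z, q'', q'' * z] (by
      simp only [List.mem_cons, List.not_mem_nil, or_false]
      rintro c (rfl | rfl | rfl | rfl | rfl | rfl | rfl | rfl)
      exacts [one_mem _, S.zq, hq, mul_mem hq S.zq, hq'm, mul_mem hq'm S.zq, hq''m,
        mul_mem hq''m S.zq]) (by
      simp only [List.nodup_cons, List.mem_cons, List.not_mem_nil, or_false, not_or, not_false_iff,
        List.nodup_nil, and_true]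
      have hnz : ∀ u : G, u ≠ u * z := fun u e => S.zne (by simpa using e)
      exact ⟨⟨S.zne.symm, h1.symm, (hz1 h1 hz).1.symm, hq'1.symm, (hz1 hq'1 hq'z).1.symm, hq''1.symm,
          (hz1 hq''1 hq''z).1.symm⟩,
        ⟨hz.symm, (hz1 h1 hz).2.symm, hq'z.symm, (hz1 hq'1 hq'z).2.symm, hq''z.symm,
          (hz1 hq''1 hq''z).2.symm⟩,
        ⟨hnz q, n1.symm, fun e => n2 (hsw e), hne.1.symm, fun e => hne.2 (hsw e)⟩,
        ⟨n2.symm, fun e => n1 (mul_right_cancel e).symm, hne.2.symm,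
          fun e => hne.1 (mul_right_cancel e).symm⟩,
        ⟨hnz q', m1.symm, fun e => m2 (hsw e)⟩,
        ⟨m2.symm, fun e => m1 (mul_right_cancel e).symm⟩, hnz q''⟩) (by rw [S.card_qE']; simp) hp
  simp only [List.mem_cons, List.not_mem_nil, or_false] at hl
  have hzc : ∀ u ∈ qE E a b, u * z * u⁻¹ = z := fun u hu =>
    conj_iff_comm.2 (S.zcomm_E (mem_qE.1 hu).1)
  rcases hl with h | h | h | h | h | h | h | h
  · exact Or.inl h
  · exact Or.inr (Or.inl h)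
  · exact Or.inr (Or.inr (Or.inl (by rw [h, mul_inv_cancel]; exact one_mem _)))
  · exact Or.inr (Or.inr (Or.inl (by rw [h, hzc q hq]; exact S.z_mem_wS)))
  · exact Or.inr (Or.inr (Or.inr (Or.inl (by rw [h, mul_inv_cancel]; exact one_mem _))))
  · exact Or.inr (Or.inr (Or.inr (Or.inl (by rw [h, hzc q' hq'm]; exact S.z_mem_wS))))
  · exact Or.inr (Or.inr (Or.inr (Or.inr (by rw [h, mul_inv_cancel]; exact one_mem _))))
  · exact Or.inr (Or.inr (Or.inr (Or.inr (by rw [h, hzc q'' hq''m]; exact S.z_mem_wS))))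

theorem invol_e1 {g : G} (hg : g ∈ e1 E a) (h2 : g * g = 1) : g ∈ wS z a := by
  obtain ⟨w, hw, q, hq, rfl⟩ := S.e1_decomp hg
  refine mul_mem hw ?_
  by_cases h1 : q = 1
  · rw [h1]; exact one_mem _
  by_cases hz : q = z
  · rw [hz]; exact S.z_mem_wS
  rw [S.sq_mul_of_comm (S.wS_central (Frame.r1_le_k0 (S.e1_le_r1 (S.qE_le_e1 hq))) hw).symm, S.wS_sq hw,
    one_mul, S.sq_qE hq h1 hz] at h2
  exact absurd h2 S.zne

end Frame

namespace Split

variable {z : G} {E : Subgroup G} {φ : ↥(cz z) →* Equiv.Perm (Fin 4)} {x a b m : G}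
  (S : Split z E φ x a b m)
include S

theorem binv : b⁻¹ = b := inv_eq_of_mul_eq_one_right S.bb

theorem minv : m⁻¹ = m := inv_eq_of_mul_eq_one_right S.mm

theorem mx_mem : x * m * x⁻¹ ∈ r1 φ a := S.r1_normal S.hx S.hm

theorem mx2_mem : x⁻¹ * m * x ∈ r1 φ a := by simpa using S.r1_normal (inv_mem S.hx) S.hm

theorem n_mem : b * m * b ∈ r1 φ a := by
  have := S.r1_normal (S.hEH S.hb) S.hm
  rwa [S.binv] at this

theorem e_mem : cm b m ∈ e1 E a := S.cm_b_mem S.hm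

theorem n_eq : b * m * b = cm b m * m := by simp only [cm, S.binv]; group

variable [Finite G]

theorem m_notMem_E : m ∉ E := fun h =>
  S.hmW (S.invol_e1 (mem_e1.2 ⟨h, (mem_r1.1 S.hm).2⟩) S.mm)

theorem cm_m_mx : cm m (x * m * x⁻¹) = 1 := by
  set m' := x * m * x⁻¹ with hm'
  have hm'2 : m' * m' = 1 := by
    rw [hm', show x * m * x⁻¹ * (x * m * x⁻¹) = x * (m * m) * x⁻¹ by group, S.mm]; simp
  have hm''2 : (x⁻¹ * m * x) * (x⁻¹ * m * x) = 1 := by
    rw [show x⁻¹ * m * x * (x⁻¹ * m * x) = x⁻¹ * (m * m) * x by group, S.mm]; simp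
  have ht := S.r1_trip S.hm
  rw [← hm'] at ht
  set w := m * m' * (x⁻¹ * m * x) with hw
  have e : m * m' = w * (x⁻¹ * m * x) := by rw [hw, mul_assoc (m * m'), hm''2, mul_one]
  have hsq : (m * m') * (m * m') = 1 := by
    rw [e, S.sq_mul_of_comm (S.wS_central (Frame.r1_le_k0 S.mx2_mem) ht).symm, S.wS_sq ht, hm''2, one_mul]
  have hm'inv : m'⁻¹ = m' := inv_eq_of_mul_eq_one_right hm'2
  simp only [cm, S.minv, hm'inv]
  simpa [mul_assoc] using hsq

/-- The values of the commutator pairing at `m`. -/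
theorem cm_values :
    cm m (cm b m) = z ∧ (cm m (x * cm b m * x⁻¹) = a ∨ cm m (x * cm b m * x⁻¹) = a * z) ∧
      cm m (x⁻¹ * cm b m * x) = z * cm m (x * cm b m * x⁻¹) := by
  set e := cm b m with he
  set e' := x * e * x⁻¹ with he'
  set e'' := x⁻¹ * e * x with he''
  have hxk := S.x_mem_k0
  have heR : e ∈ r1 φ a := S.e1_le_r1 S.e_mem
  have he'R : e' ∈ r1 φ a := S.r1_normal S.hx heR
  have he''R : e'' ∈ r1 φ a := by
    rw [he'']; simpa using S.r1_normal (inv_mem S.hx) heR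
  set m' := x * m * x⁻¹ with hm'
  have hm'R : m' ∈ r1 φ a := S.mx_mem
  have hbx : b * x * b⁻¹ = x := conj_iff_comm.2 S.bx
  have hbm : b * m * b⁻¹ = e * m := by rw [S.binv, he]; exact S.n_eq
  have hbm' : b * m' * b⁻¹ = e' * m' := by
    calc b * m' * b⁻¹ = (b * x * b⁻¹) * (b * m * b⁻¹) * (b * x * b⁻¹)⁻¹ := by rw [hm']; group
      _ = x * (e * m) * x⁻¹ := by rw [hbx, hbm]
      _ = e' * m' := by rw [he', hm']; group
  have hbe : b * e * b⁻¹ = e⁻¹ := by
    rw [he, cm, S.binv, S.minv]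
    calc b * (b * m * b * m) * b = (b * b) * m * b * m * b := by group
      _ = m * b * m * b := by rw [S.bb, one_mul]
      _ = (b * m * b * m)⁻¹ := by rw [mul_inv_rev, mul_inv_rev, mul_inv_rev, S.binv, S.minv]; group
  have hbe' : b * e' * b⁻¹ = e'⁻¹ := by
    calc b * e' * b⁻¹ = (b * x * b⁻¹) * (b * e * b⁻¹) * (b * x * b⁻¹)⁻¹ := by rw [he']; group
      _ = x * e⁻¹ * x⁻¹ := by rw [hbx, hbe]
      _ = e'⁻¹ := by rw [he']; group
  -- `cm` of an inverse
  have hinv : ∀ {r s}, r ∈ r1 φ a → s ∈ r1 φ a → cm r s⁻¹ = cm r s := by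
    intro r s hr hs
    have h := S.cm_mul_right hr (inv_mem hs) hs
    rw [inv_mul_cancel] at h
    have h1 : cm r 1 = 1 := by simp [cm]
    rw [h1] at h
    rw [← S.wS_inv (S.cm_r1 hr hs)]
    exact eq_inv_of_mul_eq_one_left h.symm
  -- `cm e e' = z`
  have hee : cm e e' = z := by
    obtain ⟨w, hw, q, hq, hwq⟩ := S.e1_decomp S.e_mem
    rw [← he] at hwq
    have hq1 : q ≠ 1 ∧ q ≠ z := by
      refine ⟨?_, ?_⟩ <;>
      · rintro rfl
        exact S.m_notMem_E (mem_e1.1 (S.cm_b_fixed S.hm (by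
          rw [← he, hwq]; exact mul_mem hw (by first | exact one_mem _ | exact S.z_mem_wS)))).1
    have hq' := S.qE_conj S.hx S.ax S.bx hq
    have hwR := S.wS_le_r1 hw
    have hqR : q ∈ r1 φ a := S.e1_le_r1 (S.qE_le_e1 hq)
    have hq'R : x * q * x⁻¹ ∈ r1 φ a := S.e1_le_r1 (S.qE_le_e1 hq')
    rw [he', hwq, show x * (w * q) * x⁻¹ = (x * w * x⁻¹) * (x * q * x⁻¹) by group,
      S.wS_conj hxk hw, S.cm_mul_left hwR hqR (mul_mem hwR hq'R), S.cm_mul_right hqR hwR hq'R,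
      S.cm_mul_right hwR hwR hq'R, S.cm_wS_right hqR hw, S.cm_wS_right hwR hw,
      S.cm_symm hq'R hwR, S.cm_wS_right hq'R hw, one_mul, one_mul, mul_one]
    have h4 := S.anti_qE hq hq1.1 hq1.2
    simp only [cm]
    rw [h4, mul_assoc (x * q * x⁻¹ * q), ← S.zcomm_E (inv_mem (mem_qE.1 hq).1)]
    calc x * q * x⁻¹ * q * (q⁻¹ * z) * (x * q * x⁻¹)⁻¹
        = (x * q * x⁻¹) * z * (x * q * x⁻¹)⁻¹ := by group
      _ = z := conj_iff_comm.2 (S.zcomm_E (mem_qE.1 hq').1)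
  set P := cm m e with hP
  set Q' := cm m e' with hQ'
  have hPW : P ∈ wS z a := S.cm_r1 S.hm heR
  have hQW : Q' ∈ wS z a := S.cm_r1 S.hm he'R
  have hme'' : cm m e'' = P * Q' := by
    have ht := S.r1_trip heR
    rw [← he', ← he''] at ht
    have h := S.cm_mul_right S.hm (mul_mem heR he'R) he''R
    rw [S.cm_wS_right S.hm ht, S.cm_mul_right S.hm heR he'R, ← hP, ← hQ'] at h
    have h2 := eq_inv_of_mul_eq_one_right h.symm
    rw [h2, S.wS_inv (mul_mem hPW hQW)]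
  have hem' : cm e m' = P * Q' := by
    rw [← S.cm_symm heR hm'R]
    rw [← hme'']
    have h := S.cm_conj hxk S.hm he''R
    rw [← hm', show x * e'' * x⁻¹ = e by rw [he'']; group] at h
    exact h
  -- `P = z` from the conjugate of `cm m m' = 1` under `b`
  have hPz : P = z := by
    have h0 : cm (e * m) (e' * m') = 1 := by
      rw [← hbm, ← hbm', ← cm_conj_map, hm', S.cm_m_mx]; simp
    rw [S.cm_mul_left heR S.hm (mul_mem he'R hm'R), S.cm_mul_right S.hm he'R hm'R,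
      S.cm_mul_right heR he'R hm'R, ← hQ', hem', hee, hm', S.cm_m_mx, mul_one,
      ← mul_assoc, mul_assoc Q', ← mul_assoc] at h0
    rw [← mul_assoc (Q' * z) P Q'] at h0
    have hc : Commute Q' P := S.wS_central (Frame.r1_le_k0 (S.wS_le_r1 hQW)) hPW
    have hcz : Commute Q' z := S.wS_central (Frame.r1_le_k0 (S.wS_le_r1 hQW)) S.z_mem_wS
    have h1 : Q' * z * P * Q' = z * P :=
      calc Q' * z * P * Q' = z * Q' * (P * Q') := by rw [hcz.eq]; group
        _ = z * Q' * (Q' * P) := by rw [hc.eq]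
        _ = z * (Q' * Q') * P := by group
        _ = z * P := by rw [S.wS_sq hQW, mul_one]
    rw [h1] at h0
    have h2 := eq_inv_of_mul_eq_one_right h0
    rwa [S.zinv] at h2
  refine ⟨hPz, ?_, by rw [hme'', hPz]⟩
  have hbQ : b * Q' * b⁻¹ = z * Q' := by
    rw [hQ', cm_conj_map, hbm, hbe', S.cm_mul_left heR S.hm (inv_mem he'R), hinv S.hm he'R,
      hinv heR he'R, hee, ← hQ']
    exact S.wS_central (Frame.r1_le_k0 (S.wS_le_r1 hQW)) S.z_mem_wS
  rcases S.mem_wS.1 hQW with h | h | h | h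
  · rw [h] at hbQ; exact absurd (by simpa using hbQ.symm) S.zne
  · rw [h, S.conj_z (S.hEH S.hb), S.zz] at hbQ; exact absurd hbQ S.zne
  · exact Or.inl h
  · exact Or.inr h

theorem conj_set : (fun k => k * m * k⁻¹) '' (r1 φ a : Set G) = (fun w => w * m) '' (wS z a : Set G) := by
  refine Set.Subset.antisymm ?_ ?_
  · rintro _ ⟨k, hk, rfl⟩
    exact ⟨cm k m, S.cm_r1 hk S.hm, by simp [cm]⟩
  · rintro _ ⟨w, hw, rfl⟩
    obtain ⟨h1, h2, h3⟩ := S.cm_values
    set e := cm b m with he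
    have heR : e ∈ r1 φ a := S.e1_le_r1 S.e_mem
    have he'R : x * e * x⁻¹ ∈ r1 φ a := S.r1_normal S.hx heR
    have he''R : x⁻¹ * e * x ∈ r1 φ a := by simpa using S.r1_normal (inv_mem S.hx) heR
    have hz1 : ∀ k, k ∈ r1 φ a → ∀ v, cm m k = v → k * m * k⁻¹ = v * m := fun k hk v hv => by
      rw [← hv, ← S.cm_symm hk S.hm |>.symm]
      rw [show cm k m = k * m * k⁻¹ * m⁻¹ from rfl]; group
    have hza : z * a = a * z := (S.zcomm_E S.ha).symm
    have hzaz : z * (a * z) = a := by rw [← mul_assoc, hza, S.zcancel]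
    rcases S.mem_wS.1 hw with rfl | rfl | rfl | rfl
    · exact ⟨1, one_mem _, by simp⟩
    · exact ⟨e, heR, hz1 e heR _ h1⟩
    · rcases h2 with q | q
      · exact ⟨_, he'R, hz1 _ he'R _ q⟩
      · exact ⟨_, he''R, hz1 _ he''R _ (by rw [h3, q, hzaz])⟩
    · rcases h2 with q | q
      · exact ⟨_, he''R, hz1 _ he''R _ (by rw [h3, q, hza])⟩
      · exact ⟨_, he'R, hz1 _ he'R _ q⟩

theorem card_aS : Nat.card (aS φ a m) = 16 := by
  have h := card_conj_orbit (r1 φ a) m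
  rw [S.conj_set, Set.ncard_image_of_injective _ (mul_left_injective m), S.card_r1,
    ← Nat.card_coe_set_eq] at h
  change 64 = Nat.card (aS φ a m) * Nat.card (wS z a) at h
  rw [S.card_wS] at h
  omega

omit [Finite G] in
theorem m_mem_aS : m ∈ aS φ a m := mem_aS.2 ⟨S.hm, rfl⟩

omit [Finite G] in
theorem wS_le_aS : wS z a ≤ aS φ a m := fun _ hw =>
  mem_aS.2 ⟨S.wS_le_r1 hw, (S.wS_central (Frame.r1_le_k0 S.hm) hw).symm⟩

theorem mx_mem_aS : x * m * x⁻¹ ∈ aS φ a m := by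
  refine mem_aS.2 ⟨S.mx_mem, ?_⟩
  have h := S.cm_m_mx
  simp only [cm] at h
  rw [mul_inv_eq_one, mul_inv_eq_iff_eq_mul] at h
  exact h.symm

theorem mx2_mem_aS : x⁻¹ * m * x ∈ aS φ a m := by
  have h := S.r1_trip S.hm
  have h2 := mul_mem (inv_mem (mul_mem S.m_mem_aS S.mx_mem_aS)) (S.wS_le_aS h)
  rwa [inv_mul_cancel_left] at h2

omit [Finite G] in
theorem split_x : Split z E φ x a b (x * m * x⁻¹) :=
  ⟨S.toFrame, S.mx_mem,
    by rw [show x * m * x⁻¹ * (x * m * x⁻¹) = x * (m * m) * x⁻¹ by group, S.mm]; simp,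
    fun h => S.hmW (by
      have := S.wS_normal (inv_mem S.hx) h
      rwa [show x⁻¹ * (x * m * x⁻¹) * x⁻¹⁻¹ = m by group] at this)⟩

omit [Finite G] in
theorem split_x2 : Split z E φ x a b (x⁻¹ * m * x) :=
  ⟨S.toFrame, S.mx2_mem,
    by rw [show x⁻¹ * m * x * (x⁻¹ * m * x) = x⁻¹ * (m * m) * x by group, S.mm]; simp,
    fun h => S.hmW (by
      have := S.wS_normal S.hx h
      rwa [show x * (x⁻¹ * m * x) * x⁻¹ = m by group] at this)⟩

omit [Finite G] in
theorem split_n : Split z E φ x a b (b * m * b) :=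
  ⟨S.toFrame, S.n_mem,
    by rw [show b * m * b * (b * m * b) = b * (m * (b * b) * m) * b by group, S.bb, mul_one, S.mm,
      mul_one, S.bb],
    fun h => S.hmW (by
      have := S.wS_normal (S.hEH S.hb) h
      rwa [S.binv, show b * (b * m * b) * b = (b * b) * m * (b * b) by group, S.bb, one_mul,
        mul_one] at this)⟩

theorem m_cosets : x * m * x⁻¹ * m⁻¹ ∉ wS z a ∧ x⁻¹ * m * x * m⁻¹ ∉ wS z a := by
  refine ⟨fun h => S.hmW (S.r1_x_fpf S.hm h), fun h => S.hmW (S.r1_x_fpf S.hm ?_)⟩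
  have h1 := S.wS_normal S.hx (inv_mem h)
  rw [show x * (x⁻¹ * m * x * m⁻¹)⁻¹ * x⁻¹ = x * m * x⁻¹ * m⁻¹ by group] at h1
  exact h1

/-- Elements of `A`. -/
theorem aS_cases {g : G} (hg : g ∈ aS φ a m) :
    g ∈ wS z a ∨ g * m⁻¹ ∈ wS z a ∨ g * (x * m * x⁻¹)⁻¹ ∈ wS z a ∨
      g * (x⁻¹ * m * x)⁻¹ ∈ wS z a := by
  obtain ⟨hgR, hgm⟩ := mem_aS.1 hg
  have hkey : ∀ h, h ∈ aS φ a m → h ∈ E → h ∈ wS z a := by
    intro h hh hhE
    obtain ⟨hhR, hhm⟩ := mem_aS.1 hh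
    obtain ⟨w, hw, q, hq, rfl⟩ := S.e1_decomp (mem_e1.2 ⟨hhE, (mem_r1.1 hhR).2⟩)
    refine mul_mem hw ?_
    have hqA : q ∈ aS φ a m := ((aS φ a m).mul_mem_cancel_left (S.wS_le_aS hw)).1 hh
    by_cases h1 : q = 1
    · rw [h1]; exact one_mem _
    by_cases hz : q = z
    · rw [hz]; exact S.z_mem_wS
    exfalso
    have hqm : cm m q = 1 := by
      simp only [cm]; rw [(mem_aS.1 hqA).2.symm]; group
    obtain ⟨v1, v2, v3⟩ := S.cm_values
    set e := cm b m with he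
    obtain ⟨u, hu, p, hp, hup⟩ := S.e1_decomp S.e_mem
    rw [← he] at hup
    have hcmp : ∀ k ∈ r1 φ a, ∀ t ∈ wS z a, cm m (t * k) = cm m k := fun k hk t ht => by
      rw [S.cm_mul_right S.hm (S.wS_le_r1 ht) hk, S.cm_wS_right S.hm ht, one_mul]
    have hpR : ∀ k, k ∈ qE E a b → k ∈ r1 φ a := fun k hk => S.e1_le_r1 (S.qE_le_e1 hk)
    have hp' := S.qE_conj S.hx S.ax S.bx hp
    have hp''R : x⁻¹ * p * x ∈ r1 φ a := by simpa using S.r1_normal (inv_mem S.hx) (hpR p hp)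
    have q1 : cm m p = z := by rw [← v1, hup, hcmp p (hpR p hp) u hu]
    have q2 : cm m (x * p * x⁻¹) = cm m (x * e * x⁻¹) := by
      rw [hup, show x * (u * p) * x⁻¹ = (x * u * x⁻¹) * (x * p * x⁻¹) by group,
        hcmp _ (hpR _ hp') _ (S.wS_normal S.hx hu)]
    have q3 : cm m (x⁻¹ * p * x) = cm m (x⁻¹ * e * x) := by
      rw [hup, show x⁻¹ * (u * p) * x = (x⁻¹ * u * x) * (x⁻¹ * p * x) by group,
        hcmp _ hp''R _ (by simpa using S.wS_normal (inv_mem S.hx) hu)]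
    have hp1 : p ≠ 1 := fun e' => by rw [e'] at q1; exact S.zne (by simpa [cm] using q1.symm)
    have hpz : p ≠ z := fun e' => by
      rw [e', S.cm_wS_right S.hm S.z_mem_wS] at q1; exact S.zne q1.symm
    have hmul : ∀ k, k ∈ r1 φ a → q * k⁻¹ ∈ wS z a → cm m k = 1 := fun k hk ht => by
      rw [← hqm]
      have := hcmp k hk _ ht
      rw [inv_mul_cancel_right] at this
      exact this.symm
    obtain ⟨a1, a2, -, -, -, -⟩ := S.ab_ne
    have haz1 : a * z ≠ 1 := fun e' => a2 ((eq_inv_of_mul_eq_one_left e').trans S.zinv)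
    have hzaz : z * (a * z) = a := by rw [← mul_assoc, ← S.zcomm_E S.ha, S.zcancel]
    rcases S.qE_cases hp hp1 hpz hq with e' | e' | e' | e' | e'
    · exact h1 e'
    · exact hz e'
    · exact S.zne (q1.symm.trans (hmul _ (hpR p hp) e'))
    · have := q2.symm.trans (hmul _ (hpR _ hp') e')
      rcases v2 with r | r <;> rw [r] at this
      exacts [a1 this, haz1 this]
    · have h5 := q3.symm.trans (hmul _ hp''R e')
      rw [v3] at h5
      rcases v2 with r | r <;> rw [r] at h5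
      · exact haz1 (by rw [S.zcomm_E S.ha]; exact h5)
      · exact a1 (by rw [hzaz] at h5; exact h5)
  rcases S.rad_cases (mem_r1.1 S.hm).1 S.m_notMem_E (mem_r1.1 hgR).1 with h | h | h | h
  · exact Or.inl (hkey g hg h)
  · exact Or.inr (Or.inl (hkey _ (mul_mem hg (inv_mem S.m_mem_aS)) h))
  · exact Or.inr (Or.inr (Or.inl (hkey _ (mul_mem hg (inv_mem S.mx_mem_aS)) h)))
  · exact Or.inr (Or.inr (Or.inr (hkey _ (mul_mem hg (inv_mem S.mx2_mem_aS)) h)))

theorem aS_comm {g h : G} (hg : g ∈ aS φ a m) (hh : h ∈ aS φ a m) : g * h = h * g := by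
  have hm1 : Commute m (x * m * x⁻¹) := (mem_aS.1 S.mx_mem_aS).2.symm
  have hm2 : Commute m (x⁻¹ * m * x) := (mem_aS.1 S.mx2_mem_aS).2.symm
  have hm3 : Commute (x * m * x⁻¹) (x⁻¹ * m * x) := by
    have h' := hm1.map (MulAut.conj x).toMonoidHom
    simp only [MulEquiv.coe_toMonoidHom, MulAut.conj_apply] at h'
    have e3 : x * x * x = 1 := by rw [← S.x_cube S.hx S.hx3, pow_succ, sq]
    rwa [show x * (x * m * x⁻¹) * x⁻¹ = x⁻¹ * ((x * x * x) * m * (x * x * x)⁻¹) * x by group, e3,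
      one_mul, inv_one, mul_one] at h'
  have hgen : ∀ g ∈ aS φ a m, ∀ k, (k = m ∨ k = x * m * x⁻¹ ∨ k = x⁻¹ * m * x) → Commute g k := by
    intro g hg k hk
    have hw : ∀ t, t ∈ wS z a → Commute t k := fun t ht => by
      have hkR : k ∈ r1 φ a := by
        rcases hk with rfl | rfl | rfl
        exacts [S.hm, S.mx_mem, S.mx2_mem]
      exact (S.wS_central (Frame.r1_le_k0 hkR) ht).symm
    have hs : ∀ c, Commute c k → g * c⁻¹ ∈ wS z a → Commute g k := fun c hc ht => by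
      have := (hw _ ht).mul_left hc
      rwa [inv_mul_cancel_right] at this
    rcases S.aS_cases hg with h | h | h | h
    · exact hw g h
    · exact hs m (by rcases hk with rfl | rfl | rfl; exacts [Commute.refl _, hm1, hm2]) h
    · exact hs _ (by rcases hk with rfl | rfl | rfl; exacts [hm1.symm, Commute.refl _, hm3]) h
    · exact hs _ (by rcases hk with rfl | rfl | rfl; exacts [hm2.symm, hm3.symm, Commute.refl _]) h
  have hgR := (mem_aS.1 hg).1
  have hs : ∀ c, Commute g c → h * c⁻¹ ∈ wS z a → g * h = h * g := fun c hc ht => by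
    have := (show Commute g (h * c⁻¹) from S.wS_central (Frame.r1_le_k0 hgR) ht).mul_right hc
    rwa [inv_mul_cancel_right] at this
  rcases S.aS_cases hh with h' | h' | h' | h'
  · exact S.wS_central (Frame.r1_le_k0 hgR) h'
  · exact hs m (hgen g hg m (Or.inl rfl)) h'
  · exact hs _ (hgen g hg _ (Or.inr (Or.inl rfl))) h'
  · exact hs _ (hgen g hg _ (Or.inr (Or.inr rfl))) h'

theorem aS_sq {g : G} (hg : g ∈ aS φ a m) : g * g = 1 := by
  have hs : ∀ c, c * c = 1 → c ∈ aS φ a m → g * c⁻¹ ∈ wS z a → g * g = 1 := fun c hc hcA ht => by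
    have h1 := S.wS_sq ht
    have h2 : g * c⁻¹ * c = c * (g * c⁻¹) := (S.wS_central (Frame.r1_le_k0 (mem_aS.1 hcA).1) ht).symm
    have h3 := S.sq_mul_of_comm h2
    rw [inv_mul_cancel_right, h1, hc, one_mul] at h3
    exact h3
  rcases S.aS_cases hg with h | h | h | h
  · exact S.wS_sq h
  · exact hs m S.mm S.m_mem_aS h
  · exact hs _ S.split_x.mm S.mx_mem_aS h
  · exact hs _ S.split_x2.mm S.mx2_mem_aS h

omit [Finite G] in
theorem split_of_mem {g : G} (hg : g ∈ aS φ a m) (hgW : g ∉ wS z a) (h2 : g * g = 1) :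
    Split z E φ x a b g := ⟨S.toFrame, (mem_aS.1 hg).1, h2, hgW⟩

theorem aS_eq {g : G} (hg : g ∈ aS φ a m) (hgW : g ∉ wS z a) : aS φ a g = aS φ a m :=
  (eq_of_le_of_card_ge (fun h hh => mem_aS.2 ⟨(mem_aS.1 hh).1, S.aS_comm hh hg⟩)
    (by rw [(S.split_of_mem hg hgW (S.aS_sq hg)).card_aS, S.card_aS])).symm

theorem cm_m_n : cm m (b * m * b) = z ∧ cm m (x * (b * m * b) * x⁻¹) = cm m (x * cm b m * x⁻¹) ∧
    cm m (x⁻¹ * (b * m * b) * x) = cm m (x⁻¹ * cm b m * x) := by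
  have heR : cm b m ∈ r1 φ a := S.e1_le_r1 S.e_mem
  have he'R : x * cm b m * x⁻¹ ∈ r1 φ a := S.r1_normal S.hx heR
  have he''R : x⁻¹ * cm b m * x ∈ r1 φ a := by simpa using S.r1_normal (inv_mem S.hx) heR
  have h1 : cm m m = 1 := by simp [cm]
  have h2 : cm m (x⁻¹ * m * x) = 1 := by
    have := (mem_aS.1 S.mx2_mem_aS).2
    simp only [cm]; rw [← this]; group
  rw [S.n_eq]
  refine ⟨?_, ?_, ?_⟩
  · rw [S.cm_mul_right S.hm heR S.hm, h1, mul_one, S.cm_values.1]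
  · rw [show x * (cm b m * m) * x⁻¹ = (x * cm b m * x⁻¹) * (x * m * x⁻¹) by group,
      S.cm_mul_right S.hm he'R S.mx_mem, S.cm_m_mx, mul_one]
  · rw [show x⁻¹ * (cm b m * m) * x = (x⁻¹ * cm b m * x) * (x⁻¹ * m * x) by group,
      S.cm_mul_right S.hm he''R S.mx2_mem, h2, mul_one]

theorem inter_eq {g : G} (hg : g ∈ aS φ a m) (hg' : g ∈ aS φ a (b * m * b)) : g ∈ wS z a := by
  by_contra hW
  have h1 := S.aS_eq hg hW
  have h2 := S.split_n.aS_eq hg' hW
  have h3 : b * m * b ∈ aS φ a m := by rw [← h1, h2]; exact S.split_n.m_mem_aS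
  have h4 : cm m (b * m * b) = 1 := by
    simp only [cm]; rw [(mem_aS.1 h3).2.symm]; group
  rw [S.cm_m_n.1] at h4
  exact S.zne h4

/-- The involutions of `R₁` lie in `A ∪ B`. -/
theorem invol_cases {g : G} (hg : g ∈ r1 φ a) (h2 : g * g = 1) :
    g ∈ aS φ a m ∨ g ∈ aS φ a (b * m * b) := by
  by_cases hW : g ∈ wS z a
  · exact Or.inl (S.wS_le_aS hW)
  by_contra hn
  simp only [not_or] at hn
  have Sg : Split z E φ x a b g := ⟨S.toFrame, hg, h2, hW⟩
  -- `g` is congruent modulo `E` to one of the conjugates of `m`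
  have hcore : ∀ c, Split z E φ x a b c → g * c⁻¹ ∈ E →
      g * c⁻¹ ∈ wS z a ∨ g * (b * c * b)⁻¹ ∈ wS z a := by
    intro c Sc hc
    obtain ⟨w, hw, q, hq, hwq⟩ := S.e1_decomp
      (mem_e1.2 ⟨hc, (mem_r1.1 (mul_mem hg (inv_mem Sc.hm))).2⟩)
    by_cases h1 : q = 1
    · left; rw [hwq, h1, mul_one]; exact hw
    by_cases hz : q = z
    · left; rw [hwq, hz]; exact mul_mem hw S.z_mem_wS
    right
    have hqR : q ∈ r1 φ a := S.e1_le_r1 (S.qE_le_e1 hq)
    have hwR : w ∈ r1 φ a := S.wS_le_r1 hw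
    have hge : g = w * (q * c) := by rw [← mul_assoc, ← hwq, inv_mul_cancel_right]
    have hqc : (q * c) * (q * c) = 1 := by
      have h3 := h2
      rwa [hge, S.sq_mul_of_comm (S.wS_central (Frame.r1_le_k0 (mul_mem hqR Sc.hm)) hw).symm, S.wS_sq hw,
        one_mul] at h3
    have hcq : cm c q = z := by
      have h4 : c * q * c = q⁻¹ := eq_inv_of_mul_eq_one_right (by simpa [mul_assoc] using hqc)
      rw [cm, Sc.minv, h4, ← mul_inv_rev, S.sq_qE hq h1 hz, S.zinv]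
    obtain ⟨u, hu, p, hp, hup⟩ := S.e1_decomp Sc.e_mem
    obtain ⟨v1, v2, v3⟩ := Sc.cm_values
    set e := cm b c with he
    have hpR : p ∈ r1 φ a := S.e1_le_r1 (S.qE_le_e1 hp)
    have hcmp : ∀ k ∈ r1 φ a, ∀ t ∈ wS z a, cm c (t * k) = cm c k := fun k hk t ht => by
      rw [S.cm_mul_right Sc.hm (S.wS_le_r1 ht) hk, S.cm_wS_right Sc.hm ht, one_mul]
    have hp1 : p ≠ 1 ∧ p ≠ z := by
      refine ⟨?_, ?_⟩ <;>
      · intro ee
        have h5 : e ∈ wS z a := by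
          rw [hup, ee]; exact mul_mem hu (by first | exact one_mem _ | exact S.z_mem_wS)
        rw [S.cm_wS_right Sc.hm h5] at v1
        exact S.zne v1.symm
    have hp'R : x * p * x⁻¹ ∈ r1 φ a := S.r1_normal S.hx hpR
    have hp''R : x⁻¹ * p * x ∈ r1 φ a := by simpa using S.r1_normal (inv_mem S.hx) hpR
    have q2 : cm c (x * p * x⁻¹) = cm c (x * e * x⁻¹) := by
      rw [hup, show x * (u * p) * x⁻¹ = (x * u * x⁻¹) * (x * p * x⁻¹) by group,
        hcmp _ hp'R _ (S.wS_normal S.hx hu)]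
    have q3 : cm c (x⁻¹ * p * x) = cm c (x⁻¹ * e * x) := by
      rw [hup, show x⁻¹ * (u * p) * x = (x⁻¹ * u * x) * (x⁻¹ * p * x) by group,
        hcmp _ hp''R _ (by simpa using S.wS_normal (inv_mem S.hx) hu)]
    have hmul : ∀ k, k ∈ r1 φ a → q * k⁻¹ ∈ wS z a → cm c k = z := fun k hk ht => by
      rw [← hcq]
      have := hcmp k hk _ ht
      rw [inv_mul_cancel_right] at this
      exact this.symm
    obtain ⟨a1, a2, -, -, -, -⟩ := S.ab_ne
    have hza : z * a = a * z := (S.zcomm_E S.ha).symm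
    have hzaz : z * (a * z) = a := by rw [← mul_assoc, hza, S.zcancel]
    rcases S.qE_cases hp hp1.1 hp1.2 hq with e' | e' | e' | e' | e'
    · exact absurd e' h1
    · exact absurd e' hz
    · rw [Sc.n_eq, ← he, hge, hup,
        show w * (q * c) * (u * p * c)⁻¹ = w * (q * p⁻¹ * u⁻¹) by group]
      exact mul_mem hw (mul_mem e' (inv_mem hu))
    · exfalso
      have := (hmul _ hp'R e').symm.trans q2
      rcases v2 with r | r <;> rw [r] at this
      · exact a2 this.symm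
      · exact a1 (mul_eq_right.1 this.symm)
    · exfalso
      have := (hmul _ hp''R e').symm.trans q3
      rw [v3] at this
      rcases v2 with r | r <;> rw [r] at this
      · exact a1 (mul_eq_left.1 this.symm)
      · rw [hzaz] at this; exact a2 this.symm
  have hfin : ∀ c, Split z E φ x a b c → c ∈ aS φ a m → g * c⁻¹ ∈ E →
      b * c * b ∈ aS φ a (b * m * b) → False := by
    intro c Sc hcA hcE hcB
    rcases hcore c Sc hcE with h | h
    · have := mul_mem (S.wS_le_aS h) hcA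
      rw [inv_mul_cancel_right] at this
      exact hn.1 this
    · have := mul_mem (S.split_n.wS_le_aS h) hcB
      rw [inv_mul_cancel_right] at this
      exact hn.2 this
  have hbx : b * (x * m * x⁻¹) * b = x * (b * m * b) * x⁻¹ := by
    have h1 : Commute b x := S.bx
    calc b * (x * m * x⁻¹) * b = (b * x) * m * (x⁻¹ * b) := by group
      _ = (x * b) * m * (b * x⁻¹) := by rw [h1.eq, h1.inv_right.symm.eq]
      _ = x * (b * m * b) * x⁻¹ := by group
  have hbx2 : b * (x⁻¹ * m * x) * b = x⁻¹ * (b * m * b) * x := by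
    have h1 : Commute b x := S.bx
    calc b * (x⁻¹ * m * x) * b = (b * x⁻¹) * m * (x * b) := by group
      _ = (x⁻¹ * b) * m * (b * x) := by rw [h1.inv_right.eq, h1.eq]
      _ = x⁻¹ * (b * m * b) * x := by group
  rcases S.rad_cases (mem_r1.1 S.hm).1 S.m_notMem_E (mem_r1.1 hg).1 with h | h | h | h
  · exact hW (S.invol_e1 (mem_e1.2 ⟨h, (mem_r1.1 hg).2⟩) h2)
  · exact hfin m S S.m_mem_aS h S.split_n.m_mem_aS
  · exact hfin _ S.split_x S.mx_mem_aS h (by rw [hbx]; exact S.split_n.mx_mem_aS)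
  · exact hfin _ S.split_x2 S.mx2_mem_aS h (by rw [hbx2]; exact S.split_n.mx2_mem_aS)

theorem r1_conj_coset {r : G} (hr : r ∈ r1 φ a) {g : G} (hg : g ∈ r1 φ a) :
    r * g * r⁻¹ * g⁻¹ ∈ wS z a := S.cm_r1 hr hg

/-- Elements of `R ∖ R₁` interchange `A` and `B`. -/
theorem swap_of_out {g : G} (hg : g ∈ rad φ) (hg' : g ∉ r1 φ a) :
    g * m * g⁻¹ * (b * m * b)⁻¹ ∈ wS z a := by
  have h1 := S.mul_b_mem_r1 hg hg'
  have h2 := S.cm_r1 h1 S.n_mem
  have e : g * m * g⁻¹ = (g * b) * (b * m * b) * (g * b)⁻¹ := by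
    rw [show (g * b) * (b * m * b) * (g * b)⁻¹ = g * ((b * b) * m) * g⁻¹ by group, S.bb, one_mul]
  rw [e]
  exact h2

/-- No element outside the preimage of `A₄` fixes two cosets of `W` in `A`. -/
theorem no_fix_quot {u : G} (hu : u ∈ cz z) (hp : u ∉ par φ) (h1 : u * m * u⁻¹ * m⁻¹ ∈ wS z a)
    (h2 : u * (x * m * x⁻¹) * u⁻¹ * (x * m * x⁻¹)⁻¹ ∈ wS z a) : False := by
  set r := u * x * u⁻¹ * x with hr
  have hrR : r ∈ rad φ := S.inverts_x S.hx S.hx3 hu hp
  set m' := x * m * x⁻¹ with hm'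
  set m'' := x⁻¹ * m * x with hm''
  set v := u * m * u⁻¹ * m⁻¹ with hv
  have hum' : u * m' * u⁻¹ = r * ((x⁻¹ * v * x) * m'') * r⁻¹ := by
    rw [hr, hm', hm'', hv]; group
  have hxv : x⁻¹ * v * x ∈ wS z a := by simpa using S.wS_normal (inv_mem S.hx) h1
  have hsum : r * m'' * r⁻¹ * m'⁻¹ ∈ wS z a := by
    have h3 : r * (x⁻¹ * v * x) * r⁻¹ ∈ wS z a := S.wS_normal (rad_le hrR) hxv
    have h4 := mul_mem (inv_mem h3) h2
    rw [hum', show (r * (x⁻¹ * v * x) * r⁻¹)⁻¹ * (r * ((x⁻¹ * v * x) * m'') * r⁻¹ * m'⁻¹) =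
      r * m'' * r⁻¹ * m'⁻¹ by group] at h4
    exact h4
  by_cases hr1 : r ∈ r1 φ a
  · have h5 := S.r1_conj_coset hr1 S.mx2_mem
    have h6 := mul_mem (inv_mem h5) hsum
    rw [← hm'', show (r * m'' * r⁻¹ * m''⁻¹)⁻¹ * (r * m'' * r⁻¹ * m'⁻¹) = m'' * m'⁻¹ by group] at h6
    have e3 : x * x * x = 1 := by rw [← S.x_cube S.hx S.hx3, pow_succ, sq]
    have e : x * (x⁻¹ * m * x) * x⁻¹ = m := by group
    have h7 := S.wS_normal S.hx h6
    have e2 : x * m' * x⁻¹ = x⁻¹ * m * x := by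
      rw [show x * m' * x⁻¹ = x⁻¹ * ((x * x * x) * m * (x * x * x)⁻¹) * x by rw [hm']; group, e3,
        one_mul, inv_one, mul_one]
    rw [show x * (m'' * m'⁻¹) * x⁻¹ = m * (x * m' * x⁻¹)⁻¹ by rw [hm'']; group, e2] at h7
    exact S.m_cosets.2 (by
      have := inv_mem h7
      rwa [mul_inv_rev, inv_inv] at this)
  · have h5 := S.split_x2.swap_of_out hrR hr1
    rw [← hm''] at h5
    have h6 : b * m'' * b * m'⁻¹ ∈ wS z a := by
      have := mul_mem (inv_mem h5) hsum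
      rwa [show (r * m'' * r⁻¹ * (b * m'' * b)⁻¹)⁻¹ * (r * m'' * r⁻¹ * m'⁻¹) =
        b * m'' * b * m'⁻¹ by group] at this
    have hA : b * m'' * b ∈ aS φ a m := by
      have := mul_mem (S.wS_le_aS h6) S.mx_mem_aS
      rwa [← hm', inv_mul_cancel_right] at this
    have hB := S.split_n.mx2_mem_aS
    have hbx2 : b * m'' * b = x⁻¹ * (b * m * b) * x := by
      have hc : Commute b x := S.bx
      calc b * m'' * b = (b * x⁻¹) * m * (x * b) := by rw [hm'']; group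
        _ = (x⁻¹ * b) * m * (b * x) := by rw [hc.inv_right.eq, hc.eq]
        _ = x⁻¹ * (b * m * b) * x := by group
    rw [← hbx2] at hB
    have h7 := S.inter_eq hA hB
    rw [hbx2] at h7
    exact S.split_n.split_x2.hmW h7

theorem no_fix_a {u : G} (hu : u ∈ k0 z a) (hp : u ∉ par φ)
    (h1 : u * m * u⁻¹ * m⁻¹ ∈ wS z a) : False := by
  obtain ⟨huz, hua⟩ := mem_k0.1 hu
  set n := b * m * b with hn
  set n' := x * n * x⁻¹ with hn'
  set n'' := x⁻¹ * n * x with hn''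
  set v := u * m * u⁻¹ * m⁻¹ with hv
  -- `u` fixes `nW`
  set b' := u * b * u⁻¹ with hb'
  obtain ⟨hb'R, hb'1, hb'2⟩ := S.cz_b_conj_mem huz
  have hb'inv : b'⁻¹ = b' := inv_eq_of_mul_eq_one_right hb'2
  have hn2 : u * n * u⁻¹ = b' * (v * m) * b'⁻¹ := by rw [hb'inv, hn, hv, hb']; group
  have hun : u * n * u⁻¹ * n⁻¹ ∈ wS z a := by
    have h3 := S.swap_of_out hb'R hb'1
    have h4 : b' * v * b'⁻¹ ∈ wS z a := S.wS_normal (rad_le hb'R) h1
    have h5 := mul_mem h4 h3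
    rw [← hn] at h5
    rw [hn2]
    rwa [show b' * v * b'⁻¹ * (b' * m * b'⁻¹ * n⁻¹) = b' * (v * m) * b'⁻¹ * n⁻¹ by group] at h5
  set r := u * x * u⁻¹ * x with hr
  have hr1 : r ∈ r1 φ a := by
    refine mem_r1.2 ⟨S.inverts_x S.hx S.hx3 huz hp, ?_⟩
    have hk : r ∈ k0 z a := mul_mem (mul_mem (mul_mem hu S.x_mem_k0) (inv_mem hu)) S.x_mem_k0
    exact (mem_k0.1 hk).2
  have hnR : n ∈ r1 φ a := S.n_mem
  have hn''R : n'' ∈ r1 φ a := S.split_n.mx2_mem
  set v2 := u * n * u⁻¹ * n⁻¹ with hv2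
  -- `u` maps `n'` into `n''W`
  have hun' : u * n' * u⁻¹ * n''⁻¹ ∈ wS z a := by
    have h3 : r * (x⁻¹ * v2 * x) * r⁻¹ ∈ wS z a :=
      S.wS_normal (rad_le (mem_r1.1 hr1).1) (by simpa using S.wS_normal (inv_mem S.hx) hun)
    have h4 := mul_mem h3 (S.r1_conj_coset hr1 hn''R)
    rwa [show r * (x⁻¹ * v2 * x) * r⁻¹ * (r * n'' * r⁻¹ * n''⁻¹) = u * n' * u⁻¹ * n''⁻¹ by
      rw [hr, hv2, hn'', hn']; group] at h4
  have hkey := S.cm_conj hu S.hm S.split_n.mx_mem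
  rw [← hn, ← hn'] at hkey
  have hvm : u * m * u⁻¹ = v * m := by rw [hv]; group
  set v3 := u * n' * u⁻¹ * n''⁻¹ with hv3
  have hv3n : u * n' * u⁻¹ = v3 * n'' := by rw [hv3]; group
  rw [hvm, hv3n, S.cm_mul_left (S.wS_le_r1 h1) S.hm (mul_mem (S.wS_le_r1 hun') hn''R),
    S.cm_mul_right S.hm (S.wS_le_r1 hun') hn''R, S.cm_wS_right S.hm hun', one_mul,
    ← S.cm_symm (S.wS_le_r1 h1) (mul_mem (S.wS_le_r1 hun') hn''R),
    S.cm_wS_right (mul_mem (S.wS_le_r1 hun') hn''R) h1, mul_one] at hkey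
  obtain ⟨-, g2, g3⟩ := S.cm_m_n
  rw [← hn, ← hn''] at g3
  rw [← hn, ← hn'] at g2
  rw [g2, g3, S.cm_values.2.2] at hkey
  exact S.zne (mul_eq_right.1 hkey)

/-- No element centralizing `a` outside the preimage of `A₄` normalizes `A`. -/
theorem no_norm_a {u : G} (hu : u ∈ k0 z a) (hp : u ∉ par φ) (hA : u * m * u⁻¹ ∈ aS φ a m) :
    False := by
  obtain ⟨huz, -⟩ := mem_k0.1 hu
  set r := u * x * u⁻¹ * x with hr
  have hr1 : r ∈ r1 φ a := by
    refine mem_r1.2 ⟨S.inverts_x S.hx S.hx3 huz hp, ?_⟩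
    have hk : r ∈ k0 z a := mul_mem (mul_mem (mul_mem hu S.x_mem_k0) (inv_mem hu)) S.x_mem_k0
    exact (mem_k0.1 hk).2
  set m' := x * m * x⁻¹ with hm'
  set m'' := x⁻¹ * m * x with hm''
  have hW : u * m * u⁻¹ ∉ wS z a := fun h => S.hmW (by
    have := S.wS_normal (inv_mem huz) h
    rwa [show u⁻¹ * (u * m * u⁻¹) * u⁻¹⁻¹ = m by group] at this)
  -- the coset of `u m' u⁻¹`
  have key : ∀ c, c ∈ r1 φ a → u * m * u⁻¹ * c⁻¹ ∈ wS z a →
      u * m' * u⁻¹ * (x⁻¹ * c * x)⁻¹ ∈ wS z a ∧ u * m'' * u⁻¹ * (x * c * x⁻¹)⁻¹ ∈ wS z a := by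
    intro c hc h
    have hcx : x⁻¹ * c * x ∈ r1 φ a := by simpa using S.r1_normal (inv_mem S.hx) hc
    constructor
    · have h3 : r * (x⁻¹ * (u * m * u⁻¹ * c⁻¹) * x) * r⁻¹ ∈ wS z a :=
        S.wS_normal (rad_le (mem_r1.1 hr1).1) (by simpa using S.wS_normal (inv_mem S.hx) h)
      have h4 := mul_mem h3 (S.r1_conj_coset hr1 hcx)
      rwa [show r * (x⁻¹ * (u * m * u⁻¹ * c⁻¹) * x) * r⁻¹ *
        (r * (x⁻¹ * c * x) * r⁻¹ * (x⁻¹ * c * x)⁻¹) = u * m' * u⁻¹ * (x⁻¹ * c * x)⁻¹ by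
        rw [hr, hm']; group] at h4
    · have hrc : r⁻¹ * c * r⁻¹⁻¹ * c⁻¹ ∈ wS z a := S.r1_conj_coset (inv_mem hr1) hc
      have h3 : x * (r⁻¹ * (u * m * u⁻¹ * c⁻¹) * r⁻¹⁻¹ * (r⁻¹ * c * r⁻¹⁻¹ * c⁻¹)) * x⁻¹ ∈ wS z a :=
        S.wS_normal S.hx (mul_mem (S.wS_normal (inv_mem (rad_le (mem_r1.1 hr1).1)) h) hrc)
      rwa [show x * (r⁻¹ * (u * m * u⁻¹ * c⁻¹) * r⁻¹⁻¹ * (r⁻¹ * c * r⁻¹⁻¹ * c⁻¹)) * x⁻¹ =
        u * m'' * u⁻¹ * (x * c * x⁻¹)⁻¹ by rw [hr, hm'']; group] at h3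
  rcases S.aS_cases hA with h | h | h | h
  · exact hW h
  · exact S.no_fix_a hu hp h
  · obtain ⟨-, h''⟩ := key m' S.mx_mem h
    have e3 : x * x * x = 1 := by rw [← S.x_cube S.hx S.hx3, pow_succ, sq]
    rw [show x * m' * x⁻¹ = x⁻¹ * ((x * x * x) * m * (x * x * x)⁻¹) * x by rw [hm']; group, e3,
      one_mul, inv_one, mul_one, ← hm''] at h''
    exact S.split_x2.no_fix_a hu hp h''
  · obtain ⟨h', -⟩ := key m'' S.mx2_mem h
    have e3 : x * x * x = 1 := by rw [← S.x_cube S.hx S.hx3, pow_succ, sq]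
    rw [show x⁻¹ * m'' * x = x * ((x * x * x)⁻¹ * m * (x * x * x)) * x⁻¹ by rw [hm'']; group, e3,
      inv_one, one_mul, mul_one, ← hm'] at h'
    exact S.split_x.no_fix_a hu hp h'

end Split

end CfsgLib.AutL34
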